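/-
Project LOWDIM: the adjoint of the symplectic form on `4 × 4` matrices, the Pfaffian identity, quadratic elements.
-/
import Cfsg.Agent.Low.Sp4Even
import Cfsg.Agent.Low.DataB
import Cfsg.Agent.Low.D3Dih

set_option autoImplicit false

namespace CL.Low.S4

open Matrix Cfsg Cfsg.Geo CL.Asch CL.SLn Module

universe u

variable {F : Type u} [Field F]

/-- `4 × 4` matrices -/
abbrev M4 (F : Type u) : Type u := Matrix I4 I4 F

/-- normalisation rules for non-commutative polynomials -/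
theorem nc : (∀ a b c : M4 F, a * (b + c) = a * b + a * c) ∧ (∀ a b c : M4 F, (a + b) * c = a * c + b * c) ∧
    (∀ a b c : M4 F, a * (b - c) = a * b - a * c) ∧ (∀ a b c : M4 F, (a - b) * c = a * c - b * c) ∧
    (∀ (r : F) (a b : M4 F), r • a * b = r • (a * b)) ∧ (∀ (r : F) (a b : M4 F), a * r • b = r • (a * b)) ∧
    (∀ a b c : M4 F, a * b * c = a * (b * c)) ∧ (∀ a : M4 F, a * 1 = a) ∧ (∀ a : M4 F, 1 * a = a) ∧
    (∀ a b : M4 F, -a * b = -(a * b)) ∧ (∀ a b : M4 F, a * -b = -(a * b)) ∧ (∀ a : M4 F, a * 0 = 0) ∧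
    ∀ a : M4 F, 0 * a = 0 :=
  ⟨mul_add, add_mul, mul_sub, sub_mul, smul_mul_assoc, mul_smul_comm, mul_assoc, mul_one, one_mul, neg_mul, mul_neg,
    mul_zero, zero_mul⟩

/-- the adjoint for the standard symplectic form -/
def sad (x : M4 F) : M4 F := -(J (Fin 2) F * xᵀ * J (Fin 2) F)

theorem sad_add (x y : M4 F) : sad (x + y) = sad x + sad y := by
  simp only [sad, transpose_add, Matrix.mul_add, Matrix.add_mul, neg_add]

theorem sad_neg (x : M4 F) : sad (-x) = -sad x := by simp only [sad, transpose_neg, Matrix.mul_neg, Matrix.neg_mul]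

theorem sad_sub (x y : M4 F) : sad (x - y) = sad x - sad y := by rw [sub_eq_add_neg, sad_add, sad_neg, sub_eq_add_neg]

theorem sad_smul (c : F) (x : M4 F) : sad (c • x) = c • sad x := by
  simp only [sad, transpose_smul, Matrix.mul_smul, Matrix.smul_mul, smul_neg]

theorem sad_one : sad (1 : M4 F) = 1 := by simp only [sad, transpose_one, Matrix.mul_one, J_squared, neg_neg]

theorem sad_zero : sad (0 : M4 F) = 0 := by simp [sad]

theorem sad_mul (x y : M4 F) : sad (x * y) = sad y * sad x := by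
  have h : J (Fin 2) F * yᵀ * J (Fin 2) F * (J (Fin 2) F * xᵀ * J (Fin 2) F) =
      J (Fin 2) F * yᵀ * (J (Fin 2) F * J (Fin 2) F) * xᵀ * J (Fin 2) F := by simp only [Matrix.mul_assoc]
  rw [sad, sad, sad, neg_mul_neg, h, J_squared, transpose_mul]
  simp only [Matrix.mul_neg, Matrix.neg_mul, Matrix.mul_one, Matrix.mul_assoc]

theorem sad_sad (x : M4 F) : sad (sad x) = x := by
  have h : J (Fin 2) F * (J (Fin 2) F * (x * J (Fin 2) F)) * J (Fin 2) F =
      (J (Fin 2) F * J (Fin 2) F) * x * (J (Fin 2) F * J (Fin 2) F) := by simp only [Matrix.mul_assoc]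
  simp only [sad, transpose_neg, transpose_mul, transpose_transpose, J_transpose, Matrix.mul_neg, Matrix.neg_mul,
    neg_neg, h, J_squared, Matrix.mul_one, Matrix.one_mul]

theorem trace_sad (x : M4 F) : (sad x).trace = x.trace := by
  rw [sad, trace_neg, trace_mul_cycle, J_squared, Matrix.neg_mul, Matrix.one_mul, trace_neg, neg_neg, trace_transpose]

theorem sad_pow (x : M4 F) (n : ℕ) : sad (x ^ n) = sad x ^ n := by
  induction n with
  | zero => rw [pow_zero, pow_zero, sad_one]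
  | succ n ih => rw [pow_succ, sad_mul, ih, pow_succ']

theorem mem_sp_iff {g : GL I4 F} : g ∈ spGL 2 F ↔ sad (g : M4 F) * g = 1 := by
  rw [CL.Sp.mem_spGL_iff_mem_symplecticGroup, SymplecticGroup.mem_iff', sad, Matrix.neg_mul]
  constructor
  · intro h
    rw [Matrix.mul_assoc, Matrix.mul_assoc, ← Matrix.mul_assoc _ (J _ _) (g : M4 F), h, J_squared, neg_neg]
  · intro h
    have h1 := congrArg (J (Fin 2) F * ·) h
    simp only [Matrix.mul_neg, ← Matrix.mul_assoc, J_squared, Matrix.neg_mul, neg_neg, Matrix.one_mul,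
      Matrix.mul_one] at h1
    exact h1

theorem sad_coe {g : GL I4 F} (hg : g ∈ spGL 2 F) : sad (g : M4 F) = (g⁻¹ : GL I4 F) :=
  (Units.eq_inv_of_mul_eq_one_right (mem_sp_iff.1 hg))

theorem sad_coe_inv {g : GL I4 F} (hg : g ∈ spGL 2 F) : sad ((g⁻¹ : GL I4 F) : M4 F) = g := by
  rw [← sad_coe hg, sad_sad]

theorem tr_inv {g : GL I4 F} (hg : g ∈ spGL 2 F) : tr g⁻¹ = tr g := by rw [tr, ← sad_coe hg, trace_sad]

theorem trace_one4 : (1 : M4 F).trace = 4 := by simp

theorem exists_form (h2 : (2 : F) ≠ 0) {x : M4 F} (hx : sad x = x) : ∃ a b c d e f : F,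
    x = fromBlocks !![a, b; c, d] !![0, e; -e, 0] !![0, f; -f, 0] !![a, c; b, d] := by
  have h : ∀ i j, -(J (Fin 2) F * xᵀ * J (Fin 2) F) i j = x i j := fun i j => congrFun (congrFun hx i) j
  have h0 : ∀ a : F, -a = a → a = 0 := fun a ha =>
    (mul_eq_zero.1 (show 2 * a = 0 by linear_combination -ha)).resolve_left h2
  refine ⟨x (.inl 0) (.inl 0), x (.inl 0) (.inl 1), x (.inl 1) (.inl 0), x (.inl 1) (.inl 1), x (.inl 0) (.inr 1),
    x (.inr 0) (.inl 1), ?_⟩
  simp only [J, Matrix.mul_apply, Fintype.sum_sum_type, Fin.sum_univ_two, transpose_apply] at h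
  ext i j
  have hij := h i j
  rcases i with i | i <;> rcases j with j | j <;> fin_cases i <;> fin_cases j <;> simp at hij ⊢ <;>
    first | exact h0 _ hij | exact hij.symm

/-- The polarised Pfaffian identity for self-adjoint matrices. -/
theorem pfaff (h2 : (2 : F) ≠ 0) {x y : M4 F} (hx : sad x = x) (hy : sad y = y) :
    (4 : F) • (x * y + y * x) = (2 * x.trace) • y + (2 * y.trace) • x + (2 * (x * y).trace - x.trace * y.trace) • 1 := by
  obtain ⟨a, b, c, d, e, f, rfl⟩ := exists_form h2 hx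
  obtain ⟨a', b', c', d', e', f', rfl⟩ := exists_form h2 hy
  ext i j
  rcases i with i | i <;> rcases j with j | j <;> fin_cases i <;> fin_cases j <;>
    simp [Matrix.trace, Matrix.mul_apply, Fintype.sum_sum_type, Fin.sum_univ_two, -mul_eq_zero] <;> ring

theorem four_ne_zero' (h2 : (2 : F) ≠ 0) : (4 : F) ≠ 0 := fun h => h2 (pow_eq_zero_iff two_ne_zero |>.1 (by
  linear_combination h))

theorem pfaff_sq (h2 : (2 : F) ≠ 0) {x : M4 F} (hx : sad x = x) : ∃ n : F, x * x = (x.trace / 2) • x + n • 1 := by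
  have h4 := four_ne_zero' h2
  refine ⟨(2 * (x * x).trace - x.trace * x.trace) / 8, smul_right_injective _ (mul_ne_zero h2 h4) ?_⟩
  have h8 : (8 : F) ≠ 0 := by simpa [show (8 : F) = 2 * 4 by norm_num] using ⟨h2, h4⟩
  have := pfaff h2 hx hx
  simp only [smul_add, smul_smul] at this ⊢
  rw [show 2 * 4 * (x.trace / 2) = 4 * x.trace by field_simp,
    show 2 * 4 * ((2 * (x * x).trace - x.trace * x.trace) / 8) = 2 * (x * x).trace - x.trace * x.trace by
      field_simp; ring]
  linear_combination (norm := module) this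

/-- Traceless self-adjoint matrices satisfy the Clifford relation. -/
theorem cliff (h2 : (2 : F) ≠ 0) {x y : M4 F} (hx : sad x = x) (hy : sad y = y) (tx : x.trace = 0) (ty : y.trace = 0) :
    x * y + y * x = ((x * y).trace / 2) • 1 := by
  refine smul_right_injective _ (four_ne_zero' h2) ?_
  have := pfaff h2 hx hy
  rw [tx, ty] at this
  simp only [smul_smul]
  rw [show 4 * ((x * y).trace / 2) = 2 * (x * y).trace by field_simp; ring]
  linear_combination (norm := module) this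

theorem eq_zero_or_scalar {x : M4 F} {a b : F} (h : a • x = b • 1) : a = 0 ∨ ∃ c : F, x = c • 1 := by
  by_cases ha : a = 0
  · exact Or.inl ha
  · exact Or.inr ⟨a⁻¹ * b, by rw [mul_smul, ← h, inv_smul_smul₀ ha]⟩

theorem smul_one_inj {a b : F} (h : a • (1 : M4 F) = b • 1) : a = b := smul_left_injective F one_ne_zero h

/-- A self-adjoint idempotent is `0`, `1` or has trace `2`. -/
theorem idem_cases (h2 : (2 : F) ≠ 0) {e : M4 F} (he : sad e = e) (h : e * e = e) : e = 0 ∨ e = 1 ∨ e.trace = 2 := by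
  obtain ⟨n, hn⟩ := pfaff_sq h2 he
  rcases eq_zero_or_scalar (x := e) (a := 1 - e.trace / 2) (b := n) (by linear_combination (norm := module) hn - h) with
    h1 | ⟨c, rfl⟩
  · exact Or.inr (Or.inr (by field_simp at h1; linear_combination -h1))
  · have h3 : c * (c - 1) = 0 := by
      rw [smul_mul_assoc, one_mul, smul_smul] at h
      linear_combination smul_one_inj h
    rcases mul_eq_zero.1 h3 with h4 | h4
    · exact Or.inl (by rw [h4, zero_smul])
    · exact Or.inr (Or.inl (by rw [sub_eq_zero.1 h4, one_smul]))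

/-- Two self-adjoint idempotents of trace two whose kernels meet have meeting images. -/
theorem exists_common (h2 : (2 : F) ≠ 0) {e f s : M4 F} (he : sad e = e) (hf : sad f = f) (ee : e * e = e)
    (ff : f * f = f) (te : e.trace = 2) (tf : f.trace = 2) (hs : s ≠ 0) (es : e * s = 0) (fs : f * s = 0) :
    ∃ m : M4 F, m ≠ 0 ∧ e * m = m ∧ f * m = m := by
  have h := pfaff h2 he hf
  rw [te, tf] at h
  have hc : 2 * (e * f).trace - 2 * 2 = 0 := by
    have h1 : (2 * (e * f).trace - 2 * 2) • s = 0 := by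
      linear_combination (norm := (simp only [nc]; module)) (4 : F) • e * fs + (4 : F) • f * es - (4 : F) • es - (4 : F) • fs - h * s
    exact (smul_eq_zero.1 h1).resolve_right hs
  rw [hc] at h
  have h3 : e * f + f * e = e + f := smul_right_injective _ (four_ne_zero' h2) (by
    linear_combination (norm := module) h)
  by_cases hm : f - f * e = 0
  · have h4 : e * f = f := by
      have := congrArg sad (sub_eq_zero.1 hm)
      rw [sad_mul, he, hf] at this
      exact this.symm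
    refine ⟨f, fun h0 => h2 ?_, h4, ff⟩
    rw [← tf, h0, trace_zero]
  · exact ⟨f - f * e, hm, by linear_combination (norm := (simp only [nc]; module)) h3 - h3 * e + f * ee - ee, by linear_combination (norm := (simp only [nc]; module)) ff - ff * e⟩

/-- `g + g⁻¹` -/
def Y (g : GL I4 F) : M4 F := (g : M4 F) + (g⁻¹ : GL I4 F)

theorem sad_Y {g : GL I4 F} (hg : g ∈ spGL 2 F) : sad (Y g) = Y g := by
  rw [Y, sad_add, sad_coe hg, sad_coe_inv hg, add_comm]

theorem trace_Y {g : GL I4 F} (hg : g ∈ spGL 2 F) : (Y g).trace = 2 * tr g := by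
  rw [Y, trace_add, two_mul]; exact congrArg _ (tr_inv hg)

theorem Y_sq (h2 : (2 : F) ≠ 0) {g : GL I4 F} (hg : g ∈ spGL 2 F) : ∃ n : F, Y g * Y g = tr g • Y g + n • 1 := by
  obtain ⟨n, hn⟩ := pfaff_sq h2 (sad_Y hg)
  exact ⟨n, by rw [hn, trace_Y hg, mul_div_cancel_left₀ _ h2]⟩

theorem Y_inv (g : GL I4 F) : Y g⁻¹ = Y g := by rw [Y, Y, inv_inv, add_comm]

theorem Y_neg (g : GL I4 F) : Y (-g) = -Y g := by rw [Y, Y, inv_neg, Units.val_neg, Units.val_neg, neg_add]

theorem Y_conj (h g : GL I4 F) : Y (h * g * h⁻¹) = h * Y g * (h⁻¹ : GL I4 F) := by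
  rw [Y, Y, show (h * g * h⁻¹)⁻¹ = h * g⁻¹ * h⁻¹ by group, mul_add, add_mul]; rfl

theorem Y_mul_add (g h : GL I4 F) (c : g * h = h * g) : Y (g * h) + Y (g * h⁻¹) = Y g * Y h := by
  have e1 : (g * h)⁻¹ = g⁻¹ * h⁻¹ := by rw [c, _root_.mul_inv_rev]
  have e2 : (g * h⁻¹)⁻¹ = g⁻¹ * h := by rw [_root_.mul_inv_rev, inv_inv, eq_inv_mul_iff_mul_eq, ← mul_assoc, c]; group
  simp only [Y, e1, e2, Units.val_mul, mul_add, add_mul]
  abel

theorem Y_one : Y (1 : GL I4 F) = (2 : F) • 1 := by rw [Y, inv_one, two_smul]; rfl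

theorem Y_pow_add_two (g : GL I4 F) (n : ℕ) : Y (g ^ (n + 2)) = Y (g ^ (n + 1)) * Y g - Y (g ^ n) := by
  rw [← Y_mul_add _ _ (by group), eq_sub_iff_add_eq]
  congr 2 <;> group

theorem Y_two (g : GL I4 F) : Y (g ^ 2) = Y g * Y g - (2 : F) • 1 := by
  rw [Y_pow_add_two g 0, zero_add, pow_one, pow_zero, Y_one]

theorem mul_Y (g : GL I4 F) : (g : M4 F) * Y g = g * g + 1 := by rw [Y, mul_add, Units.mul_inv]

/-- `g + g⁻¹` is a scalar. -/
def Quad (g : GL I4 F) : Prop := ∃ a : F, Y g = a • 1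

theorem Quad.conj {g : GL I4 F} (hg : Quad g) (h : GL I4 F) : Quad (h * g * h⁻¹) := by
  obtain ⟨a, ha⟩ := hg
  exact ⟨a, by rw [Y_conj, ha, mul_smul_comm, mul_one, smul_mul_assoc, Units.mul_inv]⟩

theorem Quad.neg {g : GL I4 F} (hg : Quad g) : Quad (-g) := by
  obtain ⟨a, ha⟩ := hg
  exact ⟨-a, by rw [Y_neg, ha, neg_smul]⟩

theorem Quad.inv {g : GL I4 F} (hg : Quad g) : Quad g⁻¹ := by rwa [Quad, Y_inv]

theorem Quad.pow {g : GL I4 F} (hg : Quad g) (n : ℕ) : Quad (g ^ n) := by
  obtain ⟨a, ha⟩ := hg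
  induction n using Nat.twoStepInduction with
  | zero => exact ⟨2, by rw [pow_zero, Y_one]⟩
  | one => exact ⟨a, by rw [pow_one, ha]⟩
  | more n h0 h1 =>
    obtain ⟨b, hb⟩ := h0
    obtain ⟨c, hc⟩ := h1
    exact ⟨c * a - b, by rw [Y_pow_add_two, ha, hb, hc]; simp only [nc]; module⟩

theorem Quad.zpow {g : GL I4 F} (hg : Quad g) (n : ℤ) : Quad (g ^ n) := by
  obtain ⟨m, rfl | rfl⟩ := n.eq_nat_or_neg
  · rw [zpow_natCast]; exact hg.pow m
  · rw [_root_.zpow_neg, zpow_natCast]; exact (hg.pow m).inv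

/-- For quadratic `a`, `b` the matrix `ab + (ab)⁻¹` commutes with both. -/
theorem Quad.comm {a b : GL I4 F} (ha : Quad a) (hb : Quad b) :
    (a : M4 F) * Y (a * b) = Y (a * b) * a ∧ (b : M4 F) * Y (a * b) = Y (a * b) * b := by
  obtain ⟨α, ha⟩ := ha
  obtain ⟨β, hb⟩ := hb
  have a1 : ((a⁻¹ : GL I4 F) : M4 F) = α • 1 - a := by rw [← ha, Y, add_sub_cancel_left]
  have b1 : ((b⁻¹ : GL I4 F) : M4 F) = β • 1 - b := by rw [← hb, Y, add_sub_cancel_left]
  have a2 := mul_Y a
  have b2 := mul_Y b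
  rw [ha] at a2
  rw [hb] at b2
  simp only [Y, _root_.mul_inv_rev, Units.val_mul, a1, b1]
  constructor
  · linear_combination (norm := (simp only [nc]; module)) (b : M4 F) * a2 - a2 * b
  · linear_combination (norm := (simp only [nc]; module)) (a : M4 F) * b2 - b2 * a

/-- Two quadratic elements do not generate the matrix algebra. -/
theorem Quad.adjoin_ne_top {a b : GL I4 F} (ha : Quad a) (hb : Quad b) :
    Algebra.adjoin F ({(a : M4 F), (b : M4 F)} : Set (M4 F)) ≠ ⊤ := fun h => by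
  obtain ⟨c1, c2⟩ := ha.comm hb
  obtain ⟨γ, hγ⟩ : ∃ γ : F, Y (a * b) = γ • 1 := by
    have : Y (a * b) ∈ Set.range (Matrix.scalar I4) := mem_range_scalar_of_commute_single fun i j _ => by
      have h1 : (single i j 1 : M4 F) ∈ Subalgebra.centralizer F {Y (a * b)} :=
        (h.ge.trans (Algebra.adjoin_le (by
          rintro _ (rfl | rfl) _ rfl
          exacts [c1.symm, c2.symm]))) Algebra.mem_top
      exact (h1 _ rfl).symm
    obtain ⟨γ, hγ⟩ := this
    exact ⟨γ, by rw [← hγ, scalar_apply, smul_one_eq_diagonal]⟩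
  obtain ⟨α, ha⟩ := ha
  obtain ⟨β, hb⟩ := hb
  have a1 : ((a⁻¹ : GL I4 F) : M4 F) = α • 1 - a := by rw [← ha, Y, add_sub_cancel_left]
  have b1 : ((b⁻¹ : GL I4 F) : M4 F) = β • 1 - b := by rw [← hb, Y, add_sub_cancel_left]
  have a2 := mul_Y a
  have b2 := mul_Y b
  rw [ha] at a2
  rw [hb] at b2
  simp only [Y, _root_.mul_inv_rev, Units.val_mul, a1, b1] at hγ
  let v : Fin 4 → M4 F := ![1, a, b, a * b]
  have hv : ∀ c0 c1 c2 c3 : F, c0 • (1 : M4 F) + c1 • (a : M4 F) + c2 • (b : M4 F) + c3 • ((a : M4 F) * b) ∈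
      Submodule.span F (Set.range v) := fun c0 c1 c2 c3 =>
    (Submodule.mem_span_range_iff_exists_fun F).2 ⟨![c0, c1, c2, c3], by simp [v, Fin.sum_univ_four]⟩
  have key : ∀ x ∈ Algebra.adjoin F ({(a : M4 F), (b : M4 F)} : Set (M4 F)), ∀ y ∈ Submodule.span F (Set.range v),
      x * y ∈ Submodule.span F (Set.range v) := by
    intro x hx
    induction hx using Algebra.adjoin_induction with
    | mem x hx =>
      intro y hy
      obtain ⟨c, rfl⟩ := (Submodule.mem_span_range_iff_exists_fun F).1 hy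
      simp only [Fin.sum_univ_four, v, cons_val_zero, cons_val_one, cons_val]
      rcases hx with rfl | rfl
      · convert hv (-c 1) (c 0 + c 1 * α) (-c 3) (c 2 + c 3 * α) using 1
        linear_combination (norm := (simp only [nc]; module)) -c 1 • a2 - c 3 • a2 * b
      · convert hv (c 1 * (γ - α * β) - c 2 - c 3 * α) (c 1 * β + c 3) (c 0 + c 1 * α + c 2 * β + c 3 * γ) (-c 1) using 1
        linear_combination (norm := (simp only [nc]; module)) c 1 • hγ - c 2 • b2 + c 3 • hγ * b - (c 3 * α) • b2 + c 3 • (a : M4 F) * b2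
    | algebraMap r => intro y hy; rw [← Algebra.smul_def]; exact Submodule.smul_mem _ _ hy
    | add x x' _ _ h1 h2 => intro y hy; rw [add_mul]; exact add_mem (h1 y hy) (h2 y hy)
    | mul x x' _ _ h1 h2 => intro y hy; rw [mul_assoc]; exact h1 _ (h2 y hy)
  have h1 : Submodule.span F (Set.range v) = ⊤ := top_le_iff.1 fun x _ => by
    simpa using key x (h ▸ Algebra.mem_top) 1 (Submodule.subset_span ⟨0, rfl⟩)
  have h2 := finrank_range_le_card (R := F) v
  rw [Set.finrank, h1, finrank_top, finrank_matrix] at h2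
  simp at h2

/-- In `Sp₄` a unipotent element with `N³ = 0` has `N² = 0`. -/
theorem Y_eq_two_of_cube (h2 : (2 : F) ≠ 0) {u : GL I4 F} (hu : u ∈ spGL 2 F) (h : ((u : M4 F) - 1) ^ 3 = 0) :
    Y u = (2 : F) • 1 := by
  obtain ⟨m, hm⟩ : ∃ m : M4 F, m = Y u - (2 : F) • 1 := ⟨_, rfl⟩
  have i1 : (u : M4 F) * (u⁻¹ : GL I4 F) = 1 := Units.mul_inv u
  have i2 : ((u⁻¹ : GL I4 F) : M4 F) * u = 1 := Units.inv_mul u
  simp only [pow_succ, pow_zero] at h
  have h1 : ((u : M4 F) - 1) * m = 0 := by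
    rw [hm, Y]; linear_combination (norm := (simp only [nc]; module)) h * ((u⁻¹ : GL I4 F) : M4 F) - (u : M4 F) * u * i1 + (3 : F) • (u : M4 F) * i1 - (2 : F) • i1
  have h3 : m * ((u : M4 F) - 1) = 0 := by
    rw [hm, Y]; linear_combination (norm := (simp only [nc]; module)) ((u⁻¹ : GL I4 F) : M4 F) * h - i2 * u * u + (3 : F) • i2 * u - (2 : F) • i2
  have h4 : ((u : M4 F) - 1) * (u - 1) = u * m := by rw [hm, Y]; linear_combination (norm := (simp only [nc]; module)) -i1
  have hs : sad m = m := by rw [hm, sad_sub, sad_Y hu, sad_smul, sad_one]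
  have ht : m.trace = 0 := by
    have h5 : m * m = 0 := by
      have : (u : M4 F) * (m * m) = 0 := by linear_combination (norm := (simp only [nc]; module)) ((u : M4 F) - 1) * h1 - h4 * m
      linear_combination (norm := (simp only [nc]; module)) ((u⁻¹ : GL I4 F) : M4 F) * this - i2 * m * m
    exact (Matrix.isNilpotent_trace_of_isNilpotent ⟨2, by rw [sq, h5]⟩).eq_zero
  rw [← sub_eq_zero, ← hm]
  by_contra h0
  refine h0 (eq_zero_of_trace_mul fun x => ?_)
  have h5 := pfaff h2 hs (y := x + sad x) (by rw [sad_add, sad_sad, add_comm])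
  have h6 : (m * (x + sad x)).trace = 2 * (x * m).trace := by
    rw [mul_add, trace_add, trace_mul_comm, ← trace_sad (m * _), sad_mul, sad_sad, hs, two_mul]
  rw [ht, h6] at h5
  have h7 : (4 * (x * m).trace) • m = 0 := by
    have : (4 * (x * m).trace) • ((u : M4 F) * m) = 0 := by
      linear_combination (norm := (simp only [nc]; module)) (4 : F) • h1 * (x + sad x) * ((u : M4 F) - 1) + (4 : F) • ((u : M4 F) - 1) * (x + sad x) * h3 -
        (2 * (x + sad x).trace) • h1 * ((u : M4 F) - 1) - ((u : M4 F) - 1) * h5 * ((u : M4 F) - 1) -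
        (4 * (x * m).trace) • h4
    linear_combination (norm := (simp only [nc]; module)) ((u⁻¹ : GL I4 F) : M4 F) * this - (4 * (x * m).trace) • i2 * m
  exact (mul_eq_zero.1 ((smul_eq_zero.1 h7).resolve_right h0)).resolve_left (four_ne_zero' h2)

theorem pow_four_eq_zero {x : M4 F} (h : IsNilpotent x) : x ^ 4 = 0 := by
  have := Matrix.aeval_self_charpoly x
  rwa [sub_eq_zero.1 (Matrix.isNilpotent_charpoly_sub_pow_of_isNilpotent h).eq_zero, map_pow, Polynomial.aeval_X] at this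

theorem trace_pow_char {ι R : Type*} [Fintype ι] [DecidableEq ι] [CommRing R] [IsDomain R] (p : ℕ) [Fact p.Prime]
    [CharP R p] (x : Matrix ι ι R) : (x ^ p).trace = x.trace ^ p := by
  rcases isEmpty_or_nonempty ι with hι | hι
  · simp [Matrix.trace, (Fact.out : p.Prime).ne_zero]
  have h : (x ^ p).charpoly = x.charpoly.map (frobenius R p) := by
    apply Polynomial.expand_injective (Fact.out : p.Prime).pos
    rw [← Polynomial.map_expand, Polynomial.map_frobenius_expand]
    unfold charpoly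
    rw [AlgHom.map_det, ← coe_detMonoidHom, ← (detMonoidHom : Matrix ι ι (Polynomial R) →* Polynomial R).map_pow]
    apply congr_arg det
    refine matPolyEquiv.injective ?_
    rw [map_pow, matPolyEquiv_charmatrix, sub_pow_char_of_commute _ (Polynomial.commute_X _), ← Polynomial.C_pow]
    exact id (matPolyEquiv_eq_X_pow_sub_C p x)
  rw [trace_eq_neg_charpoly_coeff, trace_eq_neg_charpoly_coeff, h, Polynomial.coeff_map, ← frobenius_def, map_neg]

theorem tr_pow_char_pow (p : ℕ) [Fact p.Prime] [CharP F p] (g : GL I4 F) (k : ℕ) : tr (g ^ p ^ k) = tr g ^ p ^ k := by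
  induction k with
  | zero => simp
  | succ k ih => rw [pow_succ, pow_mul, pow_mul, ← ih, tr, Units.val_pow_eq_pow_val, trace_pow_char]

theorem tr_neg (g : GL I4 F) : tr (-g) = -tr g := by rw [tr, Units.val_neg, trace_neg]

theorem eq_one_of_Y_eq_two {g : GL I4 F} (h : Y g = (2 : F) • 1) {r : ℕ} (hr : (r : F) ≠ 0) (hg : g ^ r = 1) : g = 1 := by
  have h1 := mul_Y g
  rw [h] at h1
  have h3 : ∀ n : ℕ, (g : M4 F) ^ n = 1 + (n : F) • ((g : M4 F) - 1) := fun n => by
    induction n with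
    | zero => simp
    | succ n ih => rw [pow_succ, ih, Nat.cast_succ]; linear_combination (norm := (simp only [nc]; module)) -(n : F) • h1
  have h4 := h3 r
  rw [← Units.val_pow_eq_pow_val, hg, Units.val_one, left_eq_add, smul_eq_zero] at h4
  exact Units.ext (sub_eq_zero.1 (h4.resolve_left hr))

/-- Elements of order three. -/
theorem three_cases (h2 : (2 : F) ≠ 0) (h3 : (3 : F) ≠ 0) {g : GL I4 F} (hg : g ∈ spGL 2 F) (h : g ^ 3 = 1)
    (h1 : g ≠ 1) : Y g = (-1 : F) • 1 ∨ tr g = 1 := by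
  obtain ⟨n, hn⟩ := Y_sq h2 hg
  have h4 := Y_two g
  rw [show g ^ 2 = g⁻¹ by rw [eq_inv_iff_mul_eq_one, ← pow_succ, h], Y_inv] at h4
  rcases eq_zero_or_scalar (x := Y g) (a := 1 - tr g) (b := n - 2) (by linear_combination (norm := module) hn + h4) with
    h5 | ⟨c, hc⟩
  · exact Or.inr (sub_eq_zero.1 h5).symm
  · rw [hc] at h4
    have h6 : (c - 2) * (c + 1) = 0 := by
      have : (c * c - 2) • (1 : M4 F) = c • 1 := by linear_combination (norm := (simp only [nc]; module)) -h4
      linear_combination smul_one_inj this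
    rcases mul_eq_zero.1 h6 with h7 | h7
    · exact absurd (eq_one_of_Y_eq_two (by rw [hc, sub_eq_zero.1 h7]) (r := 3) (by exact_mod_cast h3) h) h1
    · exact Or.inl (by rw [hc, eq_neg_of_add_eq_zero_left h7])

/-- Elements of order eight. -/
theorem eight_cases (h2 : (2 : F) ≠ 0) {g : GL I4 F} (hg : g ∈ spGL 2 F) (h : g ^ 4 = -1) : Quad g ∨ tr g = 0 := by
  obtain ⟨n, hn⟩ := Y_sq h2 hg
  have h4 := Y_two g
  have h5 : Y (g ^ 2) = 0 := by
    rw [Y, show (g ^ 2)⁻¹ = -g ^ 2 by rw [inv_eq_iff_mul_eq_one, mul_neg, ← pow_add, h, neg_neg], Units.val_neg,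
      add_neg_cancel]
  exact (eq_zero_or_scalar (x := Y g) (a := tr g) (b := 2 - n) (by
    linear_combination (norm := module) h5 - h4 - hn)).symm

theorem tr_four {g : GL I4 F} (h2 : (2 : F) ≠ 0) (hg : g ∈ spGL 2 F) (h : g ^ 2 = -1) : tr g = 0 := by
  have h1 := tr_inv hg
  rw [show g⁻¹ = -g by rw [inv_eq_iff_mul_eq_one, mul_neg, ← sq, h, neg_neg], tr_neg] at h1
  exact (mul_eq_zero.1 (show 2 * tr g = 0 by linear_combination -h1)).resolve_left h2

/-- the fifth cyclotomic polynomial, up to a unit -/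
def Z5 (g : GL I4 F) : M4 F := Y g * Y g + Y g - 1

theorem five_cases (h2 : (2 : F) ≠ 0) {g : GL I4 F} (hg : g ∈ spGL 2 F) (h : Z5 g = 0) : Quad g ∨ tr g = -1 := by
  obtain ⟨n, hn⟩ := Y_sq h2 hg
  rcases eq_zero_or_scalar (x := Y g) (a := tr g + 1) (b := 1 - n) (by
    rw [Z5] at h; linear_combination (norm := module) h - hn) with h1 | h1
  · exact Or.inr (eq_neg_of_add_eq_zero_left h1)
  · exact Or.inl h1

theorem Z5_eq (g : GL I4 F) : Z5 g = 1 + Y g + Y (g ^ 2) := by rw [Z5, Y_two]; module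

theorem sad_Z5 {g : GL I4 F} (hg : g ∈ spGL 2 F) : sad (Z5 g) = Z5 g := by
  rw [Z5, sad_sub, sad_add, sad_mul, sad_Y hg, sad_one]

theorem Z5_conj (h g : GL I4 F) : Z5 (h * g * h⁻¹) = h * Z5 g * (h⁻¹ : GL I4 F) := by
  rw [Z5_eq, Z5_eq, conj_pow, Y_conj, Y_conj]; linear_combination (norm := (simp only [nc]; module)) -Units.mul_inv h

theorem mul_Z5 {g : GL I4 F} (h : g ^ 5 = 1) : (g : M4 F) * Z5 g = Z5 g := by
  have e1 : g⁻¹ = g ^ 4 := by rw [inv_eq_iff_mul_eq_one, ← pow_succ', h]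
  have e2 : (g ^ 2)⁻¹ = g ^ 3 := by rw [inv_eq_iff_mul_eq_one, ← pow_add, h]
  have e3 : (g : M4 F) ^ 5 = 1 := by rw [← Units.val_pow_eq_pow_val, h, Units.val_one]
  rw [Z5_eq, Y, Y, e1, e2]
  simp only [Units.val_pow_eq_pow_val]
  simp only [pow_succ, pow_zero] at e3 ⊢
  linear_combination (norm := (simp only [nc]; module)) e3

theorem Z5_sq {g : GL I4 F} (h : g ^ 5 = 1) : Z5 (g ^ 2) = Z5 g := by
  rw [Z5_eq, Z5_eq, ← pow_mul, show g ^ (2 * 2) = g⁻¹ by rw [eq_inv_iff_mul_eq_one, ← pow_succ, h], Y_inv]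
  abel

theorem Z5_inv (g : GL I4 F) : Z5 g⁻¹ = Z5 g := by rw [Z5, Z5, Y_inv]

theorem Z5_mul_self {g : GL I4 F} (h : g ^ 5 = 1) : Z5 g * Z5 g = (5 : F) • Z5 g := by
  have h1 : ∀ k : GL I4 F, (k : M4 F) * Z5 g = Z5 g → Y k * Z5 g = (2 : F) • Z5 g := fun k hk => by
    rw [Y]; linear_combination (norm := (simp only [nc]; module)) hk - ((k⁻¹ : GL I4 F) : M4 F) * hk + Units.inv_mul k * Z5 g
  have h2 := h1 g (mul_Z5 h)
  have h3 := h1 (g ^ 2) (by rw [sq, Units.val_mul, mul_assoc, mul_Z5 h, mul_Z5 h])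
  have h4 := Z5_eq g
  linear_combination (norm := (simp only [nc]; module)) h4 * Z5 g + h2 + h3

/-- An element of order seven conjugate to its square lives in characteristic seven. -/
theorem seven_eq_zero (h2 : (2 : F) ≠ 0) {g h : GL I4 F} (hg : g ∈ spGL 2 F) (h7 : g ^ 7 = 1) (h1 : g ≠ 1)
    (hc : h * g * h⁻¹ = g ^ 2) : (7 : F) = 0 := by
  by_contra h0
  obtain ⟨n, hn⟩ := Y_sq h2 hg
  have e2 := Y_two g
  have e3 := Y_pow_add_two g 1
  have e4 := Y_two (g ^ 2)
  rw [← pow_mul, show g ^ (2 * 2) = (g ^ (1 + 2))⁻¹ by rw [eq_inv_iff_mul_eq_one, ← pow_add, h7], Y_inv] at e4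
  rw [pow_one] at e3
  have hn' : Y (g ^ 2) * Y (g ^ 2) = tr g • Y (g ^ 2) + n • 1 := by
    rw [← hc, Y_conj]
    linear_combination (norm := (simp only [nc]; module)) (h : M4 F) * hn * ((h⁻¹ : GL I4 F) : M4 F) + (h : M4 F) * Y g * Units.inv_mul h * Y g * ((h⁻¹ : GL I4 F) : M4 F) +
      n • Units.mul_inv h
  have ht : (Y (g ^ 2)).trace = 2 * tr g := by rw [trace_Y (pow_mem hg 2), ← hc, tr_conj]
  have k2 : Y (g ^ 2) = tr g • Y g + (n - 2) • 1 := by linear_combination (norm := module) e2 + hn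
  have k3 : (n - 3) • Y g = (n - 2 - 2 * tr g) • 1 := by
    rw [show (1 : ℕ) + 1 = 2 from rfl] at e3
    linear_combination (norm := (simp only [nc]; module)) e4 - e3 + hn' + tr g • k2 - k2 * Y g - tr g • hn
  rw [k2, trace_add, trace_smul, trace_smul, trace_Y hg, trace_one4, smul_eq_mul, smul_eq_mul] at ht
  by_cases h3 : n - 3 = 0
  · rw [h3, zero_smul, eq_comm, smul_eq_zero] at k3
    have h4 := k3.resolve_right one_ne_zero
    exact h0 (by linear_combination 2 * ht - 8 * h3 + (2 * tr g - 1) * (h4 - h3))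
  · obtain ⟨c, hc'⟩ := (eq_zero_or_scalar k3).resolve_left h3
    have h4 : Y (g ^ 2) = c • 1 := by rw [← hc, Y_conj, hc', mul_smul_comm, mul_one, smul_mul_assoc, Units.mul_inv]
    rw [h4, hc'] at e2
    have h6 : (c - 2) * (c + 1) = 0 := by
      have : (c * c - 2) • (1 : M4 F) = c • 1 := by linear_combination (norm := (simp only [nc]; module)) -e2
      linear_combination smul_one_inj this
    rcases mul_eq_zero.1 h6 with h8 | h8
    · exact h1 (eq_one_of_Y_eq_two (by rw [hc', sub_eq_zero.1 h8]) (r := 7) (by exact_mod_cast h0) h7)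
    · have h9 := mul_Y g
      rw [hc', eq_neg_of_add_eq_zero_left h8] at h9
      have h10 : g ^ 3 = 1 := Units.ext (by
        simp only [Units.val_mul, pow_succ, pow_zero, Units.val_one]
        linear_combination (norm := (simp only [nc]; module)) h9 - (g : M4 F) * h9)
      exact h1 (by rw [← h7, show 7 = 3 * 2 + 1 from rfl, pow_succ, pow_mul, h10, one_pow, one_mul])

/-- In an elementary abelian group of order nine not all elements have trace one. -/
theorem not_nine (h2 : (2 : F) ≠ 0) (h3 : (3 : F) ≠ 0) {a b : GL I4 F} (ha : a ∈ spGL 2 F) (hb : b ∈ spGL 2 F)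
    (a3 : a ^ 3 = 1) (b3 : b ^ 3 = 1) (c : a * b = b * a) (ta : tr a = 1) (tb : tr b = 1) (tc : tr (a * b) = 1)
    (td : tr (a * b⁻¹) = 1) : False := by
  have key : ∀ g : GL I4 F, g ^ 3 = 1 → (1 + Y g) * (1 + Y g) = (3 : F) • (1 + Y g) := fun g h => by
    have h4 := Y_two g
    rw [show g ^ 2 = g⁻¹ by rw [eq_inv_iff_mul_eq_one, ← pow_succ, h], Y_inv] at h4
    linear_combination (norm := (simp only [nc]; module)) -h4
  have h1 := Y_mul_add a b c
  have h4 := Y_mul_add b a c.symm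
  rw [← c, ← Y_inv (b * a⁻¹), _root_.mul_inv_rev, inv_inv, h1] at h4
  have h9 : (9 : F) ≠ 0 := by simpa [show (9 : F) = 3 * 3 by norm_num] using h3
  obtain ⟨e, he⟩ : ∃ e : M4 F, (9 : F) • e = (1 + Y a) * (1 + Y b) := ⟨(9 : F)⁻¹ • _, smul_inv_smul₀ h9 _⟩
  have hs : sad e = e := smul_right_injective _ h9 (by
    simp only [← sad_smul, he, sad_mul, sad_add, sad_one, sad_Y ha, sad_Y hb]; linear_combination (norm := (simp only [nc]; module)) -h4)
  have hi : e * e = e := smul_right_injective _ (mul_ne_zero h9 h9) (by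
    linear_combination (norm := (simp only [nc]; module)) (9 : F) • he * e + (1 + Y a) * (1 + Y b) * he - (9 : F) • he - (1 + Y a) * h4 * (1 + Y b) +
      key a a3 * ((1 + Y b) * (1 + Y b)) + (3 : F) • (1 + Y a) * key b b3)
  have ht : 9 * e.trace = 12 := by
    have := congrArg trace he
    rw [trace_smul, show (1 + Y a) * (1 + Y b) = 1 + Y a + Y b + (Y (a * b) + Y (a * b⁻¹)) by linear_combination (norm := (simp only [nc]; module)) -h1] at this
    simp only [trace_add, trace_one4, trace_Y ha, trace_Y hb, trace_Y (mul_mem ha hb), trace_Y (mul_mem ha (inv_mem hb)),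
      ta, tb, tc, td, smul_eq_mul] at this
    linear_combination this
  have h6 : ∀ k : ℕ, (2 : F) ^ k * 3 ≠ 0 := fun k => mul_ne_zero (pow_ne_zero k h2) h3
  rcases idem_cases h2 hs hi with h | h | h
  · rw [h, trace_zero] at ht; exact h6 2 (by linear_combination -ht)
  · rw [h, trace_one4] at ht; exact h6 3 (by linear_combination ht)
  · rw [h] at ht; exact h6 1 (by linear_combination ht)

end CL.Low.S4
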