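/-
Project LOWDIM: the maximal subgroups of `Sp₄(q)`, `q` odd, in the residual class, from the steps `Sp4Inv`, `Sp4A`
and `Sp4NonMax`.
-/
import Cfsg.Agent.Low.Res3
import Cfsg.Agent.Low.T4Odd
import Cfsg.Agent.Low.InvDefs
import Cfsg.Agent.Cls.SLnCard

set_option autoImplicit false

namespace CL.Low

open Matrix Cfsg Cfsg.Geo CL.Asch Module
open scoped MatrixGroups

universe u

section Core

variable {ι : Type} [Fintype ι] [DecidableEq ι] [Nonempty ι] {F : Type u} [Field F] [Finite F]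
  {H P : Subgroup (GL ι F)}

/-- A residual core that is a symplectic group over a subfield is a symplectic group over the field. -/
theorem core_sp (h : IsResidualCore H P) (hP : IsSpSub P) :
    ∃ f : (ι → F) → (ι → F) → F, IsSesq (RingHom.id F) (-1) f ∧ P = isoGrp f := by
  obtain ⟨F₀, f, c, hf, -, e⟩ := hP
  obtain rfl : F₀ = ⊤ := core_top h fun l hl => by
    rw [e] at hl
    obtain ⟨a, -, rfl⟩ := hl
    rw [tr, trace_descGL]
    exact SetLike.coe_mem _
  let θ : (ι → F) → ι → (⊤ : Subfield F) := fun u i => ⟨((c⁻¹).val *ᵥ u) i, trivial⟩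
  have hθ : ∀ u, c.val *ᵥ (fun i => (θ u i : F)) = u := fun u => gl_mulVec_inv c u
  have hθ' : ∀ u : ι → (⊤ : Subfield F), θ (c.val *ᵥ fun i => (u i : F)) = u := fun u =>
    funext fun i => Subtype.ext (congrFun (gl_inv_mulVec c _) i)
  have hd : ∀ (a : GL ι (⊤ : Subfield F)) u, θ ((descGL ⊤ c a).val *ᵥ u) = a.val *ᵥ θ u := fun a u => by
    conv_lhs => rw [← hθ u, CL.Asch.descGL_mulVec, hθ']
  refine ⟨fun u v => f (θ u) (θ v), ⟨fun a => rfl, neg_ne_zero.mpr one_ne_zero, fun x y v => ?_, fun a x v => ?_,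
      fun u v => congrArg Subtype.val (hf.symm (θ u) (θ v)), fun v hv => ?_⟩, ?_⟩
  · rw [show θ (x + y) = θ x + θ y from funext fun i => Subtype.ext (congrFun (mulVec_add _ x y) i), hf.add_left]
    rfl
  · rw [show θ (a • x) = (⟨a, trivial⟩ : (⊤ : Subfield F)) • θ x from
      funext fun i => Subtype.ext (congrFun (mulVec_smul _ a x) i), hf.smul_left]
    rfl
  · rw [← hθ v, hf.nondeg (θ v) fun u => Subtype.ext (hθ' u ▸ hv _)]
    exact mulVec_zero _
  · ext g
    obtain ⟨a, rfl⟩ := descGL_top_surjective c g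
    rw [e]
    refine ⟨fun ⟨a', ha, e'⟩ => e' ▸ fun u v => by beta_reduce; rw [hd, hd, ha], fun ha =>
      ⟨a, fun u v => Subtype.ext ?_, rfl⟩⟩
    have := ha (c.val *ᵥ fun i => (u i : F)) (c.val *ᵥ fun i => (v i : F))
    beta_reduce at this
    rwa [hd, hd, hθ', hθ'] at this

end Core

section Four

variable {F : Type u} [Field F] [Fintype F] {H P : Subgroup (GL I4 F)}

/-- A residual core of a proper subgroup of `Sp₄(q)`, `q` odd, has no transvection. -/
theorem core_not_hasTv (h2 : (2 : F) ≠ 0) (hc : IsResidualCore H P) (hH : H < spGL 2 F) : ¬ HasTv P := fun ht => by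
  have h := QS.of_core hc
  have hPs : P ≤ spGL 2 F := hc.le.trans hH.le
  obtain ⟨f, hf, e⟩ := core_sp hc (t4Odd F P h2 hPs h.irr (h.tvGen ht))
  obtain ⟨d, -, hd⟩ := (isSesq_sympForm 2).proportional_of_isom hf h.span (fun l hl => hPs hl)
    fun l hl => (e ▸ hl : l ∈ isoGrp f)
  refine hH.not_ge fun g hg => hc.le (e ▸ fun u v => ?_)
  rw [hd, hd, mem_spGL_iff.1 hg]

theorem s5788_of (hI : Sp4Inv.{u}) (hA : Sp4A.{u}) (hN : Sp4NonMax.{u}) (hodd : Odd (Fintype.card F))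
    (hH : IsMaximalIn (spGL 2 F) H) (hS : InSymplecticResidualClass H) :
    ∃ (P : Subgroup (GL I4 F)) (p : ℕ), IsResidualCore H P ∧ p.Prime ∧ CharP F p ∧
    ((Nonempty (PQ P ≃* alternatingGroup (Fin 6)) ∧ Fintype.card F = p ∧ 5 ≤ p ∧ p ≠ 7) ∨
     (Nonempty (PQ P ≃* alternatingGroup (Fin 7)) ∧ Fintype.card F = 7) ∨
     (Nonempty (PQ P ≃* PSL(2, F)) ∧ 5 ≤ p ∧ 7 < Fintype.card F)) := by
  obtain ⟨P, hc, -⟩ := hS
  obtain ⟨p, hp⟩ := CharP.exists F
  have hpr := CharP.char_is_prime F p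
  have := Fact.mk hpr
  have h2 : (2 : F) ≠ 0 := fun h0 => by
    obtain rfl : p = 2 := eq_of_cast p Nat.prime_two (by exact_mod_cast h0)
    exact absurd (FiniteField.even_card_iff_char_two.1 (ringChar.eq F 2)) (Nat.odd_iff.1 hodd ▸ one_ne_zero)
  have h := QS.of_core hc
  have hPs : P ≤ spGL 2 F := hc.le.trans hH.1.le
  have hinv := hI F P h2 hPs h (core_not_hasTv h2 hc hH.1)
  obtain ⟨h5, hcase⟩ := hA F p P h2 hPs h hinv
  have hno : Fintype.card F = p → ¬ (Nonempty (PQ P ≃* alternatingGroup (Fin 5)) ∨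
      (p = 7 ∧ (Nonempty (PQ P ≃* alternatingGroup (Fin 6)) ∨ Nonempty (PQ P ≃* PSL(2, F))))) := fun hF hx => by
    obtain ⟨K, hK, h1, k, hk, h3⟩ := hN F p P hpr h5 hF hPs h hinv hx
    rcases hH.2 K (fun x hx => h1 x (hH.1.le hx) (hc.normal x hx)) hK.le with e | e
    · exact h3 (hc.normal k (e ▸ hk))
    · exact hK.ne e
  refine ⟨P, p, hc, hpr, hp, ?_⟩
  rcases hcase with ⟨htr, hx⟩ | ⟨K, _, _, _, h7, hle, htr, ⟨e⟩⟩
  · have hF : Fintype.card F = p := card_eq_of_frob p (core_fix hc (τ := frobenius F p) htr)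
    rcases hx with hx | hx | ⟨rfl, hx⟩
    · exact absurd (Or.inl hx) (hno hF)
    · exact Or.inl ⟨hx, hF, h5, fun e => hno hF (Or.inr ⟨e, Or.inl hx⟩)⟩
    · exact Or.inr (Or.inl ⟨hx, hF⟩)
  · obtain ⟨n, -, hn⟩ := FiniteField.card K p
    have hF : Fintype.card K = Fintype.card F := le_antisymm hle (card_le_of_pow (by omega) fun x => by
      rw [hn]
      exact core_fix hc (τ := iterateFrobenius F p n) (fun l hl => by rw [iterateFrobenius_def, ← hn, htr l hl]) x)
    obtain ⟨e'⟩ := CL.SLn.nonempty_psl_equiv_of_card_eq (ι := Fin 2) hF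
    refine Or.inr (Or.inr ⟨⟨e.trans e'⟩, h5, lt_of_le_of_ne (hF ▸ h7) fun e7 => ?_⟩)
    have hp7 : p = 7 := by
      have h1 : p ∣ 7 := by
        rw [e7, ← hF, hn]
        exact dvd_pow_self p n.ne_zero
      exact (Nat.prime_dvd_prime_iff_eq hpr Nat.prime_seven).1 h1
    exact hno (e7.symm.trans hp7.symm) (Or.inr ⟨hp7, Or.inr ⟨e.trans e'⟩⟩)

end Four

end CL.Low
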