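/-
Project LOWDIM: the normaliser of an extraspecial group of order 32 and minus type is maximal in `Sp₄(p)`.
-/
import Cfsg.Agent.Low.Res4
import Cfsg.Agent.Low.Cliff
import Cfsg.Agent.Cls.OrthUni
import Cfsg.Agent.Even.Amb2
import Cfsg.Agent.S5787
import Cfsg.Agent.S0205

set_option autoImplicit false

namespace CL.Low

open Matrix Cfsg Cfsg.Geo CL.Asch Module
open scoped commutatorElement

universe u

/-- The orthogonal geometry of minus type over the field of order two, in terms of predicates. -/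
theorem minus_comb {V : Type*} [Group V] {B : V → V → Prop} {Q : V → Prop} (S : Subgroup V)
    (hs : ∀ {x y}, B x y → B y x) (hB : ∀ x, B x x) (hm : ∀ x y y', B x (y * y') ↔ (B x y ↔ B x y'))
    (hq : ∀ x y, Q (x * y) ↔ ((Q x ↔ Q y) ↔ B x y))
    (minus : ∀ x y, Q x → Q y → B x y → (∀ u, B u x) ∨ (∀ u, B u y) ∨ ∀ u, B u (x * y))
    (size : ∀ x y, ∃ w, (¬ ∀ u, B u w) ∧ B x w ∧ B y w)
    (key : ∀ s ∈ S, ∀ r r', ¬ Q r → ¬ Q r' → ¬ B s r → B s r' → r ∈ S)
    {s : V} (hS : s ∈ S) (hC : ¬ ∀ u, B u s) : (∃ a ∈ S, Q a ∧ ¬ ∀ u, B u a) ∧ ∀ x, x ∈ S := by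
  have sy : ∀ x y, B x y ↔ B y x := fun x y => ⟨hs, hs⟩
  have key' : ∀ s ∈ S, (¬ ∀ u, B u s) → ∀ r, ¬ Q r → ¬ B s r → r ∈ S := fun s hS hC r hr h => by
    by_cases h1 : Q s
    · obtain ⟨w, h2, h3, h4⟩ := size s r
      refine key s hS r w hr (fun h5 => ?_) h h3
      rcases minus s w h1 h5 h3 with e | e | e
      exacts [hC e, h2 e, h (hs (((hm _ _ _).1 (e r)).2 h4))]
    · exact key s hS r s hr h1 h (hB s)
  have root : ∃ a ∈ S, Q a ∧ ¬ ∀ u, B u a := by
    by_cases h1 : Q s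
    · exact ⟨s, hS, h1, hC⟩
    obtain ⟨u, hu⟩ := not_forall.1 hC
    obtain ⟨x, hx, xs, xu⟩ := size s u
    obtain ⟨y, ys, yu, yx⟩ : ∃ y, B s y ∧ B u y ∧ ¬ B x y := by
      obtain ⟨y, hy⟩ := not_forall.1 hx
      by_cases a : B s y <;> by_cases b : B u y
      · exact ⟨y, a, b, fun e => hy (hs e)⟩
      · exact ⟨y * s, by simp [hm, a, hB], by simp [hm, b, hu], by simp [hm, sy x, hy, xs]⟩
      · exact ⟨y * u, by simp [hm, a, sy s u, hu], by simp [hm, b, hB], by simp [hm, sy x, hy, xu]⟩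
      · exact ⟨y * u * s, by simp [hm, a, sy s u, hu, hB], by simp [hm, b, hB, hu], by simp [hm, sy x, hy, xu, xs]⟩
    have su : ¬ B s u := fun e => hu (hs e)
    have k : ∀ w, B s w → B u w → ¬ (Q u ↔ Q w) → u * w ∈ S := fun w a b c =>
      key' s hS hC _ (by simp [hq, b, c]) (by simp [hm, a, su])
    by_cases h2 : Q u
    · have n : ∀ w w', B u w → B u w' → ¬ B w' w → ¬ Q w := fun w w' a b c e => by
        rcases minus u w h2 e a with e | e | e
        exacts [su (e s), c (e w'), c (((hm _ _ _).1 (e w')).1 (hs b))]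
      have xy : ¬ B y x := fun e => yx (hs e)
      have a1 := k x xs xu (by simp [h2, n x y xu yu xy])
      have a2 := k y ys yu (by simp [h2, n y x yu xu yx])
      have a3 := k (x * y) (by simp [hm, xs, ys]) (by simp [hm, xu, yu])
        (by simp [h2, n (x * y) x (by simp [hm, xu, yu]) xu (by simp [hm, hB, yx])])
      rw [← mul_assoc, S.mul_mem_cancel_left a1] at a3
      exact ⟨u, (S.mul_mem_cancel_right a3).1 a2, h2, fun e => su (e s)⟩
    have uS := key' s hS hC u h2 su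
    by_cases h3 : Q x
    · exact ⟨x, (S.mul_mem_cancel_left uS).1 (k x xs xu (by simp [h2, h3])), h3, hx⟩
    by_cases h4 : Q y
    · exact ⟨y, (S.mul_mem_cancel_left uS).1 (k y ys yu (by simp [h2, h4])), h4, fun e => yx (e x)⟩
    exfalso
    rcases minus (s * x) (u * y) (by simp [hq, h1, h3, xs]) (by simp [hq, h2, h4, yu])
      (by simp [hm, sy (s * x), hu, xu, sy y, ys, yx]) with e | e | e
    · simpa [hm, hu, xu] using e u
    · simpa [hm, su, ys] using e s
    · simpa [hm, hu, xu, hB, yu] using e u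
  refine ⟨root, fun x => ?_⟩
  obtain ⟨a, ha, h1, h2⟩ := root
  have all : ∀ u, ¬ B a u → u ∈ S := fun u hu => by
    by_cases h3 : Q u
    · exact (S.mul_mem_cancel_left ha).1 (key' a ha h2 _ (by simp [hq, h1, h3, hu]) (by simp [hm, hB, hu]))
    · exact key' a ha h2 u h3 hu
  obtain ⟨u, hu⟩ := not_forall.1 h2
  by_cases h3 : B a x
  · exact (S.mul_mem_cancel_right (all u fun e => hu (hs e))).1 (all (x * u) (by simp [hm, h3, sy a u, hu]))
  · exact all x h3

/-- An element centralised by a Heisenberg group modulo scalars lies in it up to a scalar. -/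
theorem heis_mem_sup {ι : Type} [Fintype ι] [DecidableEq ι] [Nonempty ι] {F : Type u} [Field F]
    {R : Subgroup (GL ι F)} (hR : IsHeis R) {x : GL ι F} (hx : ∀ r ∈ R, ⁅r, x⁆ ∈ scalars ι F) :
    x ∈ R ⊔ scalars ι F := by
  obtain ⟨r, hr, h0⟩ : ∃ r ∈ R, (x * r).1.trace ≠ 0 := by
    by_contra hn
    push Not at hn
    refine hR.card_ne_zero ?_
    have := spanAlg_induction (L := R) (p := fun y => (x.1 * y).trace = 0) hn (by simp)
      (fun a b ha hb => by rw [Matrix.mul_add, trace_add, ha, hb, add_zero])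
      (fun c a ha => by rw [Matrix.mul_smul, trace_smul, ha, smul_zero]) (x := (x⁻¹).1) (hR.span ▸ Algebra.mem_top)
    rwa [gl_mul_inv, trace_one] at this
  have : x * r ∈ scalars ι F := mem_scalars_of_comm_span hR.span fun l hl => by
    obtain ⟨u, hu⟩ := hR.comm r hr l hl
    obtain ⟨v, hv⟩ := hx l hl
    have e : l * (x * r) * l⁻¹ = scal ι (v * u) * (x * r) := by
      calc _ = ⁅l, x⁆ * x * (l * r) * l⁻¹ := by rw [commutatorElement_def]; group
        _ = scal ι v * (x * (r * l * scal ι u) * l⁻¹) := by rw [hu, ← hv]; simp only [mul_assoc]; rfl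
        _ = _ := by rw [← scal_comm, ← mul_assoc x, ← scal_comm, map_mul]; group
    have e1 := trace_conjAlg l (x * r).1
    rw [conjAlg_coe, e, Units.val_mul, coe_scal, smul_mul_assoc, one_mul, trace_smul, smul_eq_mul,
      mul_eq_right₀ h0, Units.val_eq_one] at e1
    rwa [e1, map_one, one_mul, mul_inv_eq_iff_eq_mul] at e
  exact (Subgroup.mul_mem_cancel_right _ (Subgroup.mem_sup_left hr)).1 (Subgroup.mem_sup_right this)

variable {F : Type u} [Field F]

theorem sp_scalar {z : GL I4 F} (h : z ∈ spGL 2 F) (hz : z ∈ scalars I4 F) : z = 1 ∨ z = -1 :=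
  (eq_or_neg_of_scalar h hz).imp Units.ext Units.ext

theorem neg_one_mem_scalars7 : (-1 : GL I4 F) ∈ scalars I4 F := scal_neg_one (ι := I4) (F := F) ▸ scal_mem _

theorem mem_sp_of_sadj {g : GL I4 F} (h : sadj g.1 * g.1 = 1) : g ∈ spGL 2 F := fun u v => by
  change sympForm 2 F (g.1 *ᵥ u) (g.1 *ᵥ v) = _
  rw [← CL.Sp.stdForm_eq_sympForm, stdForm_sadj, mulVec_mulVec, h, one_mulVec, CL.Sp.stdForm_eq_sympForm]

theorem exists_one_add (h2 : (2 : F) ≠ 0) {r : GL I4 F} (hr : r * r = -1) : ∃ t : GL I4 F, t.1 = 1 + r.1 := by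
  have e : r.1 * r.1 = -1 := congrArg Units.val hr
  have e1 : (1 + r.1) * (1 - r.1) = (2 : F) • 1 := by rw [two_smul]; linear_combination (norm := noncomm_ring) -e
  have e2 : (1 - r.1) * (1 + r.1) = (2 : F) • 1 := by rw [two_smul]; linear_combination (norm := noncomm_ring) -e
  exact ⟨⟨1 + r.1, (2 : F)⁻¹ • (1 - r.1), by rw [Matrix.mul_smul, e1, smul_smul, inv_mul_cancel₀ h2, one_smul],
    by rw [Matrix.smul_mul, e2, smul_smul, inv_mul_cancel₀ h2, one_smul]⟩, rfl⟩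

theorem one_add_conj {r t x : GL I4 F} (ht : t.1 = 1 + r.1) (h : x * r = r * x) : t * x * t⁻¹ = x := by
  rw [mul_inv_eq_iff_eq_mul]
  have e : x.1 * r.1 = r.1 * x.1 := congrArg Units.val h
  exact Units.ext (by rw [Units.val_mul, Units.val_mul, ht, add_mul, mul_add, e, one_mul, mul_one])

theorem one_add_conj' {r t x : GL I4 F} (ht : t.1 = 1 + r.1) (hr : r * r = -1) (h : x * r = -(r * x)) :
    t * x * t⁻¹ = r * x := by
  rw [mul_inv_eq_iff_eq_mul]
  have e : x.1 * r.1 = -(r.1 * x.1) := congrArg Units.val h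
  have e' : r.1 * r.1 = -1 := congrArg Units.val hr
  exact Units.ext (by
    rw [Units.val_mul, Units.val_mul, Units.val_mul, ht, add_mul, mul_add, mul_assoc r.1 x.1 r.1, e, mul_neg,
      ← mul_assoc r.1 r.1, e']
    noncomm_ring)

/-- An extraspecial group of order 32 and minus type in `Sp₄(F)`. -/
structure Ex (R : Subgroup (GL I4 F)) : Prop where
  two : (2 : F) ≠ 0
  sp : R ≤ spGL 2 F
  heis : IsHeis R
  minus : IsOfMinusType 2 R

namespace Ex

variable {R : Subgroup (GL I4 F)} (h : Ex R)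
include h

theorem neg_ne (x : GL I4 F) : -x ≠ x := fun e => by
  have : (2 : F) • x.1 = 0 := by rw [two_smul, ← neg_eq_iff_add_eq_zero]; exact congrArg Units.val e
  exact x.ne_zero ((smul_eq_zero.1 this).resolve_left h.two)

theorem comm {x y : GL I4 F} (hx : x ∈ R) (hy : y ∈ R) : x * y = y * x ∨ x * y = -(y * x) := by
  obtain ⟨u, hu⟩ := h.heis.comm y hy x hx
  have : scal I4 u ∈ R := by
    rw [← R.mul_mem_cancel_left (mul_mem hy hx), ← hu]
    exact mul_mem hx hy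
  rcases sp_scalar (h.sp this) (scal_mem u) with e | e <;> simp [hu, e]

theorem scalar_iff {x : R} : (∀ u : R, u.1 * x.1 = x.1 * u.1) ↔ x.1 ∈ scalars I4 F :=
  ⟨fun e => mem_scalars_of_comm_span h.heis.span fun l hl => e ⟨l, hl⟩,
    fun e u => Subgroup.mem_center_iff.1 (scalars_le_center e) u⟩

theorem sq {x : GL I4 F} (hx : x ∈ R) : x * x = 1 ∨ x * x = -1 :=
  sp_scalar (h.sp (mul_mem hx hx)) (mem_scalars_of_comm_span h.heis.span fun l hl => by
    rcases h.comm hl hx with e | e <;> simp [← mul_assoc, e, mul_assoc x l x])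

theorem exists_anti : ∃ x ∈ R, ∃ y ∈ R, x * y = -(y * x) := by
  obtain ⟨x, hx, hs⟩ := SetLike.not_le_iff_exists.1 ((irr_of_spanAlg_eq_top h.heis.span).not_le_scalars (by simp))
  obtain ⟨y, hy⟩ := not_forall.1 (mt (h.scalar_iff (x := ⟨x, hx⟩)).1 hs)
  exact ⟨y, y.2, x, hx, (h.comm y.2 hx).resolve_left hy⟩

theorem neg_one_mem : -1 ∈ R := by
  obtain ⟨x, hx, y, hy, e⟩ := h.exists_anti
  have := mul_mem (mul_mem hx hy) (inv_mem (mul_mem hy hx))
  rwa [e, neg_mul, mul_inv_cancel] at this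

theorem mem_of_sup {x : GL I4 F} (hx : x ∈ R ⊔ scalars I4 F) (hs : x ∈ spGL 2 F) : x ∈ R := by
  obtain ⟨r, hr, c, rfl⟩ := mem_sup_scalars.1 hx
  rcases sp_scalar ((Subgroup.mul_mem_cancel_left _ (h.sp hr)).1 hs) (scal_mem c) with e | e <;> rw [e]
  exacts [mul_mem hr (one_mem R), mul_mem hr h.neg_one_mem]

theorem hm (x y y' : R) : x.1 * (y * y').1 = (y * y').1 * x.1 ↔ (x.1 * y.1 = y.1 * x.1 ↔ x.1 * y'.1 = y'.1 * x.1) := by
  rw [Subgroup.coe_mul, ← mul_assoc, mul_assoc y.1]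
  rcases h.comm x.2 y.2 with e | e <;> rcases h.comm x.2 y'.2 with e' | e' <;>
    simp [e, e', mul_assoc, h.neg_ne]

theorem hq (x y : R) : (x * y).1 * (x * y).1 = 1 ↔ ((x.1 * x.1 = 1 ↔ y.1 * y.1 = 1) ↔ x.1 * y.1 = y.1 * x.1) := by
  have e0 : (x * y).1 * (x * y).1 = x.1 * (y.1 * x.1) * y.1 := by simp [mul_assoc]
  have n := h.neg_ne
  rcases h.comm y.2 x.2 with e | e <;> rw [e0, e] <;> simp only [mul_neg, neg_mul, ← mul_assoc x.1, mul_assoc (x.1 * x.1)] <;>
    rcases h.sq x.2 with a | a <;> rcases h.sq y.2 with b | b <;> simp [a, b, n, (n _).symm]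

variable [Finite F]

theorem minus' (x y : R) (hx : x.1 * x.1 = 1) (hy : y.1 * y.1 = 1) (e : x.1 * y.1 = y.1 * x.1) :
    (∀ u : R, u.1 * x.1 = x.1 * u.1) ∨ (∀ u : R, u.1 * y.1 = y.1 * u.1) ∨
      ∀ u : R, u.1 * (x * y).1 = (x * y).1 * u.1 := by
  by_contra hn
  simp only [not_or] at hn
  obtain ⟨h1, h2, h3⟩ := hn
  let z : R := ⟨-1, h.neg_one_mem⟩
  let A := Subgroup.closure {z, x, y}
  have hc : IsMulCommutative A := Subgroup.isMulCommutative_closure (by
    rintro _ (rfl | rfl | rfl) _ (rfl | rfl | rfl) <;> apply Subtype.ext <;> simp [z, e])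
  have h8 := h.minus A hc fun w hw => by
    induction hw using Subgroup.closure_induction with
    | mem w hw => rcases hw with rfl | rfl | rfl <;> apply Subtype.ext <;> simp [z, hx, hy]
    | one => simp
    | mul a b ha hb h1 h2 =>
      rw [mul_assoc, ← mul_assoc b, setLike_mul_comm hb ha, mul_assoc, h2, mul_one, h1]
    | inv a _ h1 => rw [← _root_.mul_inv_rev, h1, inv_one]
  have lt : ∀ {K L : Subgroup R}, K < L → 2 * Nat.card K ≤ Nat.card L := fun {K L} hl => by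
    obtain ⟨c, hc⟩ := Subgroup.card_dvd_of_le hl.le
    have : c ≠ 1 := fun e => hl.ne (Subgroup.eq_of_le_of_card_ge hl.le (by rw [hc, e, mul_one]))
    have : c ≠ 0 := fun e => Nat.card_pos.ne' (by rw [hc, e, mul_zero])
    rw [hc, mul_comm]
    exact Nat.mul_le_mul_left _ (by omega)
  have st : ∀ {K : Subgroup R} {w u : R}, w ∈ K → ¬ u.1 * w.1 = w.1 * u.1 → K ⊓ Subgroup.centralizer {u} < K :=
    fun hw hu => lt_of_le_of_ne inf_le_left fun e => hu (congrArg Subtype.val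
      (Subgroup.mem_centralizer_singleton_iff.1 (e.ge hw).2)).symm
  have cz : ∀ u : R, z ∈ Subgroup.centralizer {u} := fun u =>
    Subgroup.mem_centralizer_singleton_iff.2 (Subtype.ext (by simp [z]))
  have zA : z ∈ A := Subgroup.subset_closure (by simp)
  have xA : x ∈ A := Subgroup.subset_closure (by simp)
  have yA : y ∈ A := Subgroup.subset_closure (by simp)
  obtain ⟨u, hu⟩ := not_forall.1 h1
  obtain ⟨w, hw, wu, hw'⟩ : ∃ w ∈ A, u.1 * w.1 = w.1 * u.1 ∧ ¬ ∀ u : R, u.1 * w.1 = w.1 * u.1 := by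
    by_cases a : u.1 * y.1 = y.1 * u.1
    · exact ⟨y, yA, a, h2⟩
    · exact ⟨x * y, mul_mem xA yA, (h.hm u x y).2 (iff_of_false hu a), h3⟩
  obtain ⟨v, hv⟩ := not_forall.1 hw'
  have a1 := lt (st xA hu)
  have a2 := lt (st (K := A ⊓ Subgroup.centralizer {u})
    ⟨hw, Subgroup.mem_centralizer_singleton_iff.2 (Subtype.ext wu.symm)⟩ hv)
  have a3 := lt (bot_lt_iff_ne_bot.2 (Subgroup.ne_bot_iff_exists_ne_one.2
    ⟨(⟨z, ⟨zA, cz u⟩, cz v⟩ : (A ⊓ Subgroup.centralizer {u} ⊓ Subgroup.centralizer {v} : Subgroup R)),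
      fun e => h.neg_ne 1 (congrArg (·.1.1) e)⟩))
  rw [Subgroup.card_bot] at a3
  omega

theorem size (x y : R) : ∃ w : R, (¬ ∀ u : R, u.1 * w.1 = w.1 * u.1) ∧ x.1 * w.1 = w.1 * x.1 ∧ y.1 * w.1 = w.1 * y.1 := by
  classical
  have := Fintype.ofFinite (R ⧸ (scalars I4 F).subgroupOf R)
  obtain ⟨a, b, ne, e⟩ := Fintype.exists_ne_map_eq_of_card_lt (fun q : R ⧸ (scalars I4 F).subgroupOf R =>
    (decide (x.1 * q.out.1 = q.out.1 * x.1), decide (y.1 * q.out.1 = q.out.1 * y.1))) (by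
      rw [← Nat.card_eq_fintype_card (α := _ ⧸ _), h.heis.card_quotient]; simp)
  rw [Prod.mk.injEq, decide_eq_decide, decide_eq_decide] at e
  refine ⟨a.out * b.out, fun e' => ne ?_, (h.hm ..).2 e.1, (h.hm ..).2 e.2⟩
  rw [← a.out_eq, ← b.out_eq]
  refine QuotientGroup.eq.2 (Subgroup.mem_subgroupOf.2 ?_)
  have h1 : a.out.1 * a.out.1 ∈ scalars I4 F := by
    rcases h.sq a.out.2 with e | e <;> rw [e]
    exacts [one_mem _, neg_one_mem_scalars7]
  simpa [mul_assoc] using mul_mem (inv_mem h1) (h.scalar_iff.1 e')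

theorem exists_norm {r r' s : GL I4 F} (hr : r ∈ R) (hr' : r' ∈ R) (q : r * r = -1) (q' : r' * r' = -1)
    (e : s * r = -(r * s)) (e' : s * r' = r' * s) : ∃ g ∈ subgroupNormalizer R ⊓ spGL 2 F, g * s * g⁻¹ = r * s := by
  have nm : ∀ {r t : GL I4 F}, r ∈ R → r * r = -1 → t.1 = 1 + r.1 →
      t ∈ subgroupNormalizer R ∧ sadj t.1 * t.1 = (2 : F) • 1 := fun {r t} hr q ht => by
    refine ⟨CL.Even.mem_norm_of_cj_le ?_, ?_⟩
    · rintro _ ⟨x, hx, rfl⟩
      change t * x * t⁻¹ ∈ R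
      rcases h.comm hx hr with e | e
      exacts [(one_add_conj ht e).symm ▸ hx, (one_add_conj' ht q e).symm ▸ mul_mem hr hx]
    · have e : r.1 * r.1 = -1 := congrArg Units.val q
      have e1 : r⁻¹ = -r := inv_eq_of_mul_eq_one_right (by rw [mul_neg, q, neg_neg])
      rw [ht, sadj_add, sadj_one, ← coe_inv_eq_sadj (h.sp hr), e1, Units.val_neg, two_smul]
      linear_combination (norm := noncomm_ring) -e
  obtain ⟨t, ht⟩ := exists_one_add h.two q
  obtain ⟨t', ht'⟩ := exists_one_add h.two q'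
  obtain ⟨n, a⟩ := nm hr q ht
  obtain ⟨n', a'⟩ := nm hr' q' ht'
  refine ⟨t * t' * scal I4 (Units.mk0 2 h.two)⁻¹, ⟨mul_mem (mul_mem n n')
    (Subgroup.center_le_normalizer _ (scalars_le_center (scal_mem _))), mem_sp_of_sadj ?_⟩, ?_⟩
  · simp only [Units.val_mul, coe_scal, Matrix.mul_smul, mul_one, sadj_smul, sadj_mul, Matrix.smul_mul]
    rw [mul_assoc, ← mul_assoc (sadj t.1), a, smul_one_mul, Matrix.mul_smul, a']
    simp [smul_smul, h.two]
  · calc _ = t * (t' * (scal I4 (Units.mk0 2 h.two)⁻¹ * s * (scal I4 (Units.mk0 2 h.two)⁻¹)⁻¹) * t'⁻¹) * t⁻¹ := by group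
      _ = _ := by rw [scal_comm, mul_inv_cancel_right, one_add_conj ht' e', one_add_conj' ht q e]

variable {S : Subgroup (GL I4 F)} (hS : ∀ g ∈ subgroupNormalizer R ⊓ spGL 2 F, ∀ s ∈ S, g * s * g⁻¹ ∈ S)
include hS

theorem irred {s : GL I4 F} (hs : s ∈ S) (hR : s ∈ R) (ns : s ∉ scalars I4 F) :
    (∃ a ∈ R, a * a = 1 ∧ a ∉ scalars I4 F) ∧ R ≤ S := by
  obtain ⟨⟨a, -, h1, h2⟩, h3⟩ := minus_comb (B := fun x y : R => x.1 * y.1 = y.1 * x.1) (Q := fun x => x.1 * x.1 = 1)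
    (S.subgroupOf R) Eq.symm (fun _ => rfl) h.hm h.hq h.minus' h.size (fun s hs r r' q q' e e' => by
      obtain ⟨g, hg, e⟩ := h.exists_norm r.2 r'.2 ((h.sq r.2).resolve_left q) ((h.sq r'.2).resolve_left q')
        ((h.comm s.2 r.2).resolve_left e) e'
      exact (S.mul_mem_cancel_right hs).1 (e ▸ hS g hg s hs)) (s := ⟨s, hR⟩) hs (mt h.scalar_iff.1 ns)
  exact ⟨⟨a, a.2, h1, mt h.scalar_iff.2 h2⟩, fun x hx => h3 ⟨x, hx⟩⟩

theorem le_of_two (h2 : ∀ a ∈ R, ∀ b ∈ R, a ∉ S → b ∉ S → a * b ∈ S) : R ≤ S := by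
  obtain ⟨x, hx, y, hy, e⟩ := h.exists_anti
  have c : ∀ {a b : GL I4 F}, a * b = -(b * a) → a ∉ scalars I4 F := fun {a b} e hs =>
    h.neg_ne (b * a) (e.symm.trans (Subgroup.mem_center_iff.1 (scalars_le_center hs) b).symm)
  by_cases a : x ∈ S
  · exact (h.irred hS a hx (c e)).2
  by_cases b : y ∈ S
  · exact (h.irred hS b hy (c (b := x) (by rw [e, neg_neg]))).2
  · exact (h.irred hS (h2 x hx y hy a b) (mul_mem hx hy) (c (b := y) (by rw [← mul_assoc y, ← neg_mul, ← e]))).2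

omit hS

theorem exists_root : ∃ a ∈ R, a * a = 1 ∧ a ∉ scalars I4 F := by
  obtain ⟨x, hx, hs⟩ := SetLike.not_le_iff_exists.1 ((irr_of_spanAlg_eq_top h.heis.span).not_le_scalars (by simp))
  exact (h.irred (S := ⊤) (fun _ _ _ _ => trivial) trivial hx hs).1

omit [Finite F] in
theorem not_le_stab {W : Submodule F (I4 → F)} (h0 : W ≠ ⊥) (h1 : W ≠ ⊤) : ¬ R ≤ subspaceStabilizer W := fun e =>
  (irr_iff.1 (irr_of_spanAlg_eq_top h.heis.span) W fun _ hg _ hw =>
    (mem_subspaceStabilizer.1 (e hg) _).1 hw).elim h0 h1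

theorem not_le_dec {D : Fin 2 → Submodule F (I4 → F)} (hD : IsMDecomposition 2 D) :
    ¬ subgroupNormalizer R ⊓ spGL 2 F ≤ decompositionStabilizer D := fun e => by
  have mm : ∀ (a b : GL I4 F) i, (D i).map (toLin' (a * b).1) = ((D i).map (toLin' b.1)).map (toLin' a.1) :=
    fun a b i => by rw [Units.val_mul, toLin'_mul, Submodule.map_comp]
  have ms : ∀ g : GL I4 F, g ∈ ⨅ i, subspaceStabilizer (D i) ↔ ∀ i, (D i).map (toLin' g.1) = D i := fun g => by
    rw [Subgroup.mem_iInf]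
    exact forall_congr' fun i => ⟨map_eq_of_mem_subspaceStabilizer, mem_subspaceStabilizer_of_map_eq⟩
  have hR : R ≤ decompositionStabilizer D := (le_inf Subgroup.le_normalizer h.sp).trans e
  refine h.not_le_stab (W := D 0) (fun e => ?_) (fun e => ?_)
    ((h.le_of_two (S := ⨅ i, subspaceStabilizer (D i)) (fun g hg s hs => (ms _).2 fun i => ?_)
      fun a ha b hb a1 b1 => (ms _).2 fun i => ?_).trans (iInf_le _ 0))
  · have := hD.finrank_eq 0
    rw [e, finrank_bot] at this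
    omega
  · have := hD.finrank_eq 0
    rw [e, finrank_top] at this
    simp at this
  · obtain ⟨σ, hσ⟩ := e (inv_mem hg)
    rw [mm, hσ, mm, (ms s).1 hs, ← hσ, ← mm, mul_inv_cancel, Units.val_one, toLin'_one, Submodule.map_id]
  · obtain ⟨σ, hσ⟩ := hR ha
    obtain ⟨τ, hτ⟩ := hR hb
    have : ∀ σ τ : Equiv.Perm (Fin 2), σ ≠ 1 → τ ≠ 1 → ∀ i, σ (τ i) = i := by decide
    rw [mm, hτ, hσ, this σ τ (fun e => a1 ((ms a).2 (by simpa [e] using hσ)))
      fun e => b1 ((ms b).2 (by simpa [e] using hτ))]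

theorem not_le_field {K : Subalgebra F (Matrix I4 I4 F)} (hK : IsFieldSubalgebra 2 K) :
    ¬ subgroupNormalizer R ⊓ spGL 2 F ≤ subalgebraNormalizer K := fun e => by
  obtain ⟨j, hj, h1, h2⟩ := CL.Cls.exists_gen_of_isFieldSubalgebra_two hK
  have h4 : (4 : F) ≠ 0 := by rw [show (4 : F) = 2 * 2 by norm_num]; exact mul_ne_zero h.two h.two
  have t1 : (1 : Matrix I4 I4 F).trace = 4 := by simp
  obtain ⟨d, hd⟩ : ∃ d, d = j - (j.trace / 4) • (1 : Matrix I4 I4 F) := ⟨_, rfl⟩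
  have td : d.trace = 0 := by rw [hd, trace_sub, trace_smul, t1, smul_eq_mul, div_mul_cancel₀ _ h4, sub_self]
  have ns : ∀ c : F, d ≠ c • 1 := fun c e => one_ne_zero (congrFun (h1 1 (c + j.trace / 4) (by
    rw [hd, sub_eq_iff_eq_add, ← add_smul] at e
    rw [congrArg (· *ᵥ 1) e, smul_mulVec, one_mulVec])) (.inl 0))
  have ln : ∀ g ∈ subgroupNormalizer R ⊓ spGL 2 F, ∃ b : F, conjAlg g d = b • d := fun g hg => by
    obtain ⟨a, b, e'⟩ := h2 _ (conj_mem_of_normalizes e hg (k := d) (hd ▸ sub_mem hj (K.smul_mem (one_mem K) _)))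
    have e1 : conjAlg g d = (a + b * (j.trace / 4)) • 1 + b • d := by
      rw [conjAlg_apply, e', hd]; module
    have e2 := trace_conjAlg g d
    rw [e1, trace_add, trace_smul, trace_smul, td, t1, smul_zero, add_zero, smul_eq_mul] at e2
    exact ⟨b, by rw [e1, (mul_eq_zero.1 e2).resolve_right h4, zero_smul, zero_add]⟩
  let S : Subgroup (GL I4 F) := ⟨⟨⟨{g | conjAlg g d = d}, fun {a b} ha hb => by
    change conjAlg _ d = d
    rw [conjAlg_mul, hb, ha]⟩, conjAlg_one d⟩, fun {a} ha => by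
    have := conjAlg_inv_conjAlg a d
    rwa [ha] at this⟩
  have sg : ∀ a ∈ R, a ∉ S → conjAlg a d = -d := fun a ha a1 => by
    obtain ⟨b, hb⟩ := ln a ⟨Subgroup.le_normalizer ha, h.sp ha⟩
    have e1 : conjAlg (a * a) d = d := conjAlg_of_mem_scalars (by
      rcases h.sq ha with e | e <;> rw [e]
      exacts [one_mem _, neg_one_mem_scalars7]) d
    rw [conjAlg_mul, hb, map_smul, hb, smul_smul, ← sub_eq_zero] at e1
    nth_rewrite 2 [← one_smul F d] at e1
    rw [← sub_smul, smul_eq_zero, sub_eq_zero, mul_self_eq_one_iff] at e1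
    rcases e1 with (rfl | rfl) | e1
    exacts [(a1 (hb.trans (one_smul F d))).elim, by rw [hb, neg_smul, one_smul], (ns 0 (by rw [e1, zero_smul])).elim]
  have hle := h.le_of_two (S := S) (fun g hg s hs => by
    obtain ⟨b, hb⟩ := ln g⁻¹ (inv_mem hg)
    change conjAlg _ d = d
    rw [conjAlg_mul, conjAlg_mul, hb, map_smul, show conjAlg s d = d from hs, ← hb, conjAlg_conjAlg_inv])
    fun a ha b hb a1 b1 => by
      change conjAlg _ d = d
      rw [conjAlg_mul, sg b hb b1, map_neg, sg a ha a1, neg_neg]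
  obtain ⟨c, hc⟩ := scalar_of_comm_span h.heis.span (x := d) fun l hl => by
    have : conjAlg l d = d := hle hl
    rw [conjAlg_apply] at this
    rw [← mul_one (l.1 * d), ← gl_inv_mul l, ← mul_assoc, this]
  exact ns c hc

/-- A 2-group normalised by `R` and not scalar meets `R` modulo scalars. -/
theorem le_sup {U P : Subgroup (GL I4 F)} (h2 : IsPGroup 2 R) (hU : IsPGroup 2 U) (hn : R ≤ Subgroup.normalizer U)
    (ns : ¬ U ≤ scalars I4 F) (hUP : U ≤ P)
    (hP : ∀ g ∈ subgroupNormalizer R ⊓ spGL 2 F, ∀ s ∈ P, g * s * g⁻¹ ∈ P) : R ≤ P ⊔ scalars I4 F := by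
  have := Fact.mk Nat.prime_two
  obtain ⟨i, h1, h3⟩ := CL.Even.exists_iter_not_le (CL.Even.exists_iter_eq_bot hU h2 hn) ns
  obtain ⟨x, hx, xs⟩ := SetLike.not_le_iff_exists.1 h1
  rw [Subgroup.commutator_comm] at h3
  obtain ⟨r, hr, c, rfl⟩ := mem_sup_scalars.1 (heis_mem_sup h.heis (x := x) fun r hr =>
    h3 (Subgroup.commutator_mem_commutator hr hx))
  have hx' : r * scal I4 c ∈ P ⊔ scalars I4 F := Subgroup.mem_sup_left (hUP (CL.Even.iter_le hn i hx))
  rw [Subgroup.mul_mem_cancel_right _ (Subgroup.mem_sup_right (scal_mem c))] at hx'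
  refine (h.irred (fun g hg s hs => ?_) hx' hr fun e => xs (mul_mem e (scal_mem c))).2
  obtain ⟨s, hs', c, rfl⟩ := mem_sup_scalars.1 hs
  exact mem_sup_scalars.2 ⟨_, hP g hg s hs', c, by rw [← mul_assoc, mul_assoc _ _ g⁻¹, scal_comm, ← mul_assoc]⟩

end Ex

theorem s5786_7 (hI : Sp4Inv.{u}) [Fintype F] (hodd : Odd (Fintype.card F)) (p : ℕ) (R : Subgroup (GL I4 F))
    (hp : p.Prime) (hF : Fintype.card F = p) (hR : IsSymplecticTypeGroup 2 R)
    (hirr : ActsAbsolutelyIrreducibly (matrixSet R)) (hsp : R ≤ spGL 2 F) (hm : IsOfMinusType 2 R) :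
    IsMaximalIn (spGL 2 F) (subgroupNormalizer R ⊓ spGL 2 F) := by
  have h : Ex R := ⟨two_ne_zero_of_odd hodd, hsp, isHeis_of_symp_two hR hirr, hm⟩
  have := Fact.mk Nat.prime_two
  have hRH : R ≤ subgroupNormalizer R ⊓ spGL 2 F := le_inf Subgroup.le_normalizer hsp
  refine ⟨lt_of_le_of_ne inf_le_right fun e => (rich_spGL le_rfl fun e => absurd (e.2 ▸ hodd) (by decide)
    ).not_le_subgroupNormalizer Nat.prime_two hR.pGroup ((irr_of_spanAlg_eq_top h.heis.span).not_le_scalars (by simp))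
    (fun x hx g hg => mul_mem (mul_mem (hsp hx) hg) (inv_mem (hsp hx))) (e.ge.trans inf_le_left), fun K h1 h2 => ?_⟩
  refine (eq_or_lt_of_le h2).symm.imp_left fun hK => ?_
  obtain ⟨M, hKM, hM⟩ := Finite.exists_le_maximal (p := fun M => M < spGL 2 F) hK
  have hHM := h1.trans hKM
  refine le_antisymm (hKM.trans ?_) h1
  rcases Cfsg.Agent.S5787.result hodd M ⟨hM.1, fun N a b => (eq_or_lt_of_le b).symm.imp_left fun c =>
    le_antisymm (hM.2 c a) a⟩ with ⟨W, h0, hW, rfl⟩ | ⟨D, hD, rfl⟩ | ⟨-, D, hD, -, rfl⟩ | ⟨A, hA, -, -, rfl⟩ |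
    ⟨-, A, hA, -, -, rfl⟩ | ⟨F₀, r, -, -, hr, hc, -⟩ | ⟨-, R', -, -, hR', hirr', -, -, -, -, rfl⟩ | ⟨P, hP, -⟩
  · exact (h.not_le_stab h0 (CL.Sp.ne_top_of_isotropic (CL.Sp.stdForm_nondegenerate _ _)
      (CL.Sp.le_orth_of_sympForm hW) h0) ((hRH.trans hHM).trans inf_le_left)).elim
  · exact (h.not_le_dec hD.decomp (hHM.trans inf_le_left)).elim
  · exact (h.not_le_dec hD (hHM.trans inf_le_left)).elim
  · exact (h.not_le_field hA (hHM.trans inf_le_left)).elim
  · exact (h.not_le_field hA (hHM.trans inf_le_left)).elim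
  · exact (hr.ne_one (((hc ▸ hF ▸ hp : (Nat.card F₀ ^ r).Prime).eq_one_of_pow))).elim
  · have h' := isHeis_of_symp_two hR' hirr'
    have hn := hHM.trans inf_le_left
    have hle := h.le_sup hR.pGroup hR'.pGroup (hRH.trans hn)
      ((irr_of_spanAlg_eq_top h'.span).not_le_scalars (by simp)) le_rfl fun g hg s hs => CL.Even.conj_mem (hn hg) hs
    have hge : R' ≤ R ⊔ scalars I4 F := fun x hx => heis_mem_sup h.heis fun r hr => by
      obtain ⟨y, hy, c, rfl⟩ := mem_sup_scalars.1 (hle hr)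
      obtain ⟨u, hu⟩ := h'.comm x hx y hy
      have : ⁅y * scal I4 c, x⁆ = scal I4 u :=
        calc _ = y * (scal I4 c * x) * (scal I4 c)⁻¹ * y⁻¹ * x⁻¹ := by rw [commutatorElement_def]; group
          _ = y * x * y⁻¹ * x⁻¹ := by rw [scal_comm]; group
          _ = _ := by rw [hu, ← scal_comm]; group
      exact this ▸ scal_mem u
    refine fun g hg => ⟨CL.Even.mem_norm_of_cj_le ?_, hg.2⟩
    rintro _ ⟨r, hr, rfl⟩
    refine h.mem_of_sup ?_ (mul_mem (mul_mem hg.2 (hsp hr)) (inv_mem hg.2))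
    obtain ⟨y, hy, c, rfl⟩ := mem_sup_scalars.1 (hle hr)
    rw [map_mul]
    exact mul_mem (hge (CL.Even.conj_mem hg.1 hy)) (Subgroup.mem_sup_right (scalars_normal.conj_mem _ (scal_mem c) g))
  · exfalso
    have hq := QS.of_core hP
    have hPs := hP.le.trans hM.1.le
    obtain ⟨T, hT, hRT⟩ := CL.Grp.exists_isSylowIn_ge hR.pGroup (hRH.trans hHM)
    have hn : M ≤ Subgroup.normalizer P := mem_normalizer_of_conj hP.normal
    have hTP := hT.inf_of_normalized hP.le hn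
    have hle := h.le_sup hR.pGroup hTP.isPGroup
      (CL.Even.le_norm_inf (hRT.trans Subgroup.le_normalizer) ((hRT.trans hT.le).trans hn)) (fun e => ?_) inf_le_right
      fun g hg => hP.normal g (hHM hg)
    · obtain ⟨a, ha, h1, h2⟩ := h.exists_root
      obtain ⟨t, ht, c, rfl⟩ := mem_sup_scalars.1 (hle ha)
      refine h2 (mul_mem (hI F P h.two hPs hq (core_not_hasTv h.two hP hM.1) t ht ?_) (scal_mem c))
      rcases sp_scalar ((Subgroup.mul_mem_cancel_left _ (hPs ht)).1 (hsp ha)) (scal_mem c) with e | e <;>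
        simpa [e] using h1
    · have := hq.simple
      have := Cfsg.Agent.S0205.result (G := PQ P) (Nat.not_even_iff_odd.1 fun e' =>
        hTP.not_dvd (e'.two_dvd.trans (Subgroup.relIndex_dvd_of_le_left P e)))
      exact hq.nonabelian ⟨⟨IsSimpleGroup.comm_iff_isSolvable.2 this⟩⟩

end CL.Low

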