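/-
A perfect group with a Sylow 3-subgroup of order 9 and at least three classes of non-identity 3-elements: the fusion.
-/
import Cfsg.Agent.Transfer.Abelian
import Cfsg.Agent.Fgs.PiPart
import Cfsg.Agent.Blk.Column

set_option autoImplicit false
open Cfsg Subgroup CL.Fgs

namespace CL.K3

variable {G : Type*} [Group G]

theorem eq_of_card_three {H : Type*} [Group H] (h : Nat.card H = 3) {a : H} (ha : a ≠ 1) (b : H) :
    b = 1 ∨ b = a ∨ b = a⁻¹ := by
  classical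
  have : Finite H := Nat.finite_of_card_ne_zero (by omega)
  have := Fintype.ofFinite H
  have h3 : a ^ 3 = 1 := h ▸ pow_card_eq_one'
  have h1 : a ≠ a⁻¹ := fun e => ha (by
    have : a ^ 3 = a * (a * a) := by rw [pow_succ', pow_two]
    rw [this] at h3
    nth_rewrite 3 [e] at h3
    simpa using h3)
  have h2 : ({1, a, a⁻¹} : Finset H) = Finset.univ := by
    refine Finset.eq_univ_of_card _ ?_
    rw [← Nat.card_eq_fintype_card, h, Finset.card_eq_three]
    exact ⟨1, a, a⁻¹, ha.symm, (inv_ne_one.2 ha).symm, h1, rfl⟩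
  have := h2 ▸ Finset.mem_univ b
  simpa using this

theorem mem_zpowers_three {y : G} (h3 : y ^ 3 = 1) {u : G} (hu : u ∈ zpowers y) : u = 1 ∨ u = y ∨ u = y⁻¹ := by
  by_cases hy : y = 1
  · subst hy; left; simpa using hu
  have : Fact (Nat.Prime 3) := ⟨Nat.prime_three⟩
  have ho : orderOf y = 3 := orderOf_eq_prime h3 hy
  rcases eq_of_card_three (H := zpowers y) (by rw [Nat.card_zpowers, ho]) (a := ⟨y, mem_zpowers y⟩)
    (fun e => hy (congrArg Subtype.val e)) ⟨u, hu⟩ with h | h | h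
  exacts [.inl (congrArg Subtype.val h), .inr (.inl (congrArg Subtype.val h)), .inr (.inr (congrArg Subtype.val h))]

instance fact_three : Fact (Nat.Prime 3) := ⟨Nat.prime_three⟩

/-- The fusion pattern. -/
structure Dat (P : Sylow 3 G) (x y : G) : Prop where
  card : Nat.card (P : Subgroup G) = 9
  hx : x ∈ (P : Subgroup G)
  hy : y ∈ (P : Subgroup G)
  y1 : y ≠ 1
  y3 : y ^ 3 = 1
  xy : x ∉ zpowers y
  nx : ∀ n ∈ normalizer ((P : Subgroup G) : Set G), n * x * n⁻¹ = x ∨ n * x * n⁻¹ = x⁻¹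
  ny : ∀ n ∈ normalizer ((P : Subgroup G) : Set G), n * y * n⁻¹ = y ∨ n * y * n⁻¹ = y⁻¹
  inv : ∃ n ∈ normalizer ((P : Subgroup G) : Set G), n * x * n⁻¹ = x⁻¹ ∧ n * y * n⁻¹ = y⁻¹

theorem comm_of_card_nine {P : Subgroup G} (h : Nat.card P = 9) : IsMulCommutative P :=
  IsPGroup.isMulCommutative_of_card_eq_prime_sq (p := 3) h

section Ex

variable [Finite G] (P : Sylow 3 G)

theorem eq_one_of_fixed (hG : commutator G = ⊤) (hP : IsMulCommutative (P : Subgroup G)) {u : G}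
    (hu : u ∈ (P : Subgroup G)) (h : ∀ n ∈ normalizer ((P : Subgroup G) : Set G), n * u * n⁻¹ = u) : u = 1 := by
  have := CL.Transfer.commutator_inf_centralizer_normalizer_eq_bot P hP
  rw [hG, top_inf_eq, eq_bot_iff] at this
  exact this ⟨hu, mem_centralizer_iff.2 fun n hn => by rw [← mul_inv_eq_iff_eq_mul]; exact h n hn⟩

/-- the conjugates of `u` in `P` -/
def cl (u : G) : Set G := {w | w ∈ (P : Subgroup G) ∧ IsConj u w}

theorem mem_cl (hP : IsMulCommutative (P : Subgroup G)) {u w : G} (hu : u ∈ (P : Subgroup G)) :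
    w ∈ cl P u ↔ ∃ n ∈ normalizer ((P : Subgroup G) : Set G), n * u * n⁻¹ = w := by
  constructor
  · rintro ⟨h1, h2⟩
    obtain ⟨g, rfl⟩ := isConj_iff.1 h2
    exact CL.Transfer.fusion_normalizer_of_comm P hP u hu g h1
  · rintro ⟨n, hn, rfl⟩
    exact ⟨(mem_normalizer_iff.1 hn u).1 hu, isConj_iff.2 ⟨n, rfl⟩⟩

theorem not_dvd_ncard_cl (hP : IsMulCommutative (P : Subgroup G)) {u : G} (hu : u ∈ (P : Subgroup G)) :
    ¬ 3 ∣ (cl P u).ncard := by
  let N := normalizer ((P : Subgroup G) : Set G)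
  let _ : MulAction N G := MulAction.compHom G ((MulAut.conj (G := G)).comp N.subtype)
  have h1 : cl P u = MulAction.orbit N u := by
    ext w
    rw [mem_cl P hP hu]
    exact ⟨fun ⟨n, hn, e⟩ => ⟨⟨n, hn⟩, e⟩, fun ⟨n, e⟩ => ⟨n, n.2, e⟩⟩
  rw [h1, ← MulAction.index_stabilizer]
  have h2 : (P : Subgroup G).subgroupOf N ≤ MulAction.stabilizer N u := fun n hn => by
    change (n : G) * u * (n : G)⁻¹ = u
    rw [mul_inv_eq_iff_eq_mul]
    exact congrArg Subtype.val (hP.is_comm.comm (⟨n, hn⟩ : (P : Subgroup G)) ⟨u, hu⟩)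
  intro h3
  refine P.not_dvd_index (h3.trans ((index_dvd_of_le h2).trans ?_))
  exact relIndex_dvd_index_of_le le_normalizer

theorem good_of_ncard_cl (hG : commutator G = ⊤) (hP : IsMulCommutative (P : Subgroup G)) {u : G}
    (hu : u ∈ (P : Subgroup G)) (hu1 : u ≠ 1) :
    4 ≤ (cl P u).ncard ∨ ((cl P u).ncard = 2 ∧
      ∀ n ∈ normalizer ((P : Subgroup G) : Set G), n * u * n⁻¹ = u ∨ n * u * n⁻¹ = u⁻¹) := by
  have h3 := not_dvd_ncard_cl P hP hu
  have huu : u ∈ cl P u := ⟨hu, IsConj.refl u⟩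
  have hm : ∀ n ∈ normalizer ((P : Subgroup G) : Set G), ∀ w ∈ cl P u, n * w * n⁻¹ ∈ cl P u := fun n hn w hw =>
    ⟨(mem_normalizer_iff.1 hn w).1 hw.1, hw.2.trans (isConj_iff.2 ⟨n, rfl⟩)⟩
  have h1 : (cl P u).ncard ≠ 1 := fun h => by
    obtain ⟨a, ha⟩ := Set.ncard_eq_one.1 h
    refine hu1 (eq_one_of_fixed P hG hP hu fun n hn => ?_)
    have e1 := hm n hn u huu
    rw [ha] at e1 huu
    exact e1.trans huu.symm
  by_cases h2 : (cl P u).ncard = 2
  · refine .inr ⟨h2, ?_⟩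
    obtain ⟨w, hw, e⟩ : ∃ w, u ≠ w ∧ cl P u = {u, w} := by
      obtain ⟨a, b, hab, e⟩ := Set.ncard_eq_two.1 h2
      rw [e] at huu
      rcases huu with rfl | rfl
      exacts [⟨b, hab, e⟩, ⟨a, hab.symm, e.trans (Set.pair_comm _ _)⟩]
    have hww : w ∈ cl P u := e ▸ .inr rfl
    have hc : u * w = w * u := congrArg Subtype.val (hP.is_comm.comm (⟨u, hu⟩ : (P : Subgroup G)) ⟨w, hww.1⟩)
    have h4 : u * w = 1 := eq_one_of_fixed P hG hP (mul_mem hu hww.1) fun n hn => by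
      have e1 := hm n hn u huu
      have e2 := hm n hn w hww
      have e3 : n * u * n⁻¹ ≠ n * w * n⁻¹ := fun h => hw (by simpa using h)
      have e4 : n * (u * w) * n⁻¹ = (n * u * n⁻¹) * (n * w * n⁻¹) := by group
      rw [e] at e1 e2
      rcases e1 with e1 | e1 <;> rcases e2 with e2 | e2
      · exact absurd (e1.trans e2.symm) e3
      · rw [e4, e1, e2]
      · rw [e4, e1, e2, hc]
      · exact absurd (e1.trans e2.symm) e3
    intro n hn
    have e1 := hm n hn u huu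
    rw [e, eq_inv_of_mul_eq_one_right h4] at e1
    exact e1
  · omega

theorem exists_three (h3 : 3 ≤ Nat.card {C : ConjClasses G // ∃ g ∈ C.carrier, g ≠ 1 ∧ orderOf g ∣ 9}) :
    ∃ u v w : G, u ∈ (P : Subgroup G) ∧ v ∈ (P : Subgroup G) ∧ w ∈ (P : Subgroup G) ∧ u ≠ 1 ∧ v ≠ 1 ∧ w ≠ 1 ∧
      ¬ IsConj u v ∧ ¬ IsConj u w ∧ ¬ IsConj v w := by
  have key : ∀ C : {C : ConjClasses G // ∃ g ∈ C.carrier, g ≠ 1 ∧ orderOf g ∣ 9},
      ∃ u ∈ (P : Subgroup G), u ≠ 1 ∧ ConjClasses.mk u = C.1 := by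
    rintro ⟨C, g, h1, h2, h4⟩
    have h5 : IsPiElt {3} g := fun q hq h => by
      have : q ∣ 3 ^ 2 := h.trans h4
      exact (Nat.prime_dvd_prime_iff_eq hq Nat.prime_three).1 (hq.dvd_of_dvd_pow this)
    obtain ⟨c, hc⟩ := h5.exists_conj_mem_sylow P
    refine ⟨_, hc, fun e => h2 (by simpa using e), ?_⟩
    rw [ConjClasses.mem_carrier_iff_mk_eq] at h1
    exact (ConjClasses.mk_eq_mk_iff_isConj.2 (isConj_iff.2 ⟨c, rfl⟩)).symm.trans h1
  have := Fintype.ofFinite {C : ConjClasses G // ∃ g ∈ C.carrier, g ≠ 1 ∧ orderOf g ∣ 9}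
  rw [Nat.card_eq_fintype_card] at h3
  obtain ⟨A, B, C, h1, h2, h4⟩ := Fintype.two_lt_card_iff.1 h3
  obtain ⟨u, u1, u2, u3⟩ := key A
  obtain ⟨v, v1, v2, v3⟩ := key B
  obtain ⟨w, w1, w2, w3⟩ := key C
  refine ⟨u, v, w, u1, v1, w1, u2, v2, w2, fun h => h1 (Subtype.ext ?_), fun h => h2 (Subtype.ext ?_),
    fun h => h4 (Subtype.ext ?_)⟩
  · rw [← u3, ← v3, ConjClasses.mk_eq_mk_iff_isConj.2 h]
  · rw [← u3, ← w3, ConjClasses.mk_eq_mk_iff_isConj.2 h]
  · rw [← v3, ← w3, ConjClasses.mk_eq_mk_iff_isConj.2 h]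

theorem sum_ncard_cl_le (hc : Nat.card (P : Subgroup G) = 9) {u v w : G} (u1 : u ≠ 1) (v1 : v ≠ 1) (w1 : w ≠ 1)
    (h1 : ¬ IsConj u v) (h2 : ¬ IsConj u w) (h3 : ¬ IsConj v w) :
    (cl P u).ncard + (cl P v).ncard + (cl P w).ncard ≤ 8 := by
  have hd : ∀ {a b : G}, ¬ IsConj a b → Disjoint (cl P a) (cl P b) := fun h =>
    Set.disjoint_left.2 fun z ha hb => h (ha.2.trans hb.2.symm)
  have hs : ∀ {a : G}, a ≠ 1 → cl P a ⊆ ((P : Subgroup G) : Set G) \ {1} := fun h z hz =>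
    ⟨hz.1, fun e => h (by have := hz.2; rw [e] at this; exact isConj_one_left.1 this)⟩
  rw [← Set.ncard_union_eq (hd h1), ← Set.ncard_union_eq (Set.disjoint_union_left.2 ⟨hd h2, hd h3⟩)]
  refine (Set.ncard_le_ncard (Set.union_subset (Set.union_subset (hs u1) (hs v1)) (hs w1))).trans ?_
  rw [Set.ncard_sdiff_singleton_of_mem (one_mem (P : Subgroup G))]
  have : ((P : Subgroup G) : Set G).ncard = 9 := hc
  omega

theorem dat_of (hG : commutator G = ⊤) (hc : Nat.card (P : Subgroup G) = 9) {x y : G} (hx : x ∈ (P : Subgroup G))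
    (hy : y ∈ (P : Subgroup G)) (y1 : y ≠ 1) (y3 : y ^ 3 = 1) (xy : x ∉ zpowers y)
    (nx : ∀ n ∈ normalizer ((P : Subgroup G) : Set G), n * x * n⁻¹ = x ∨ n * x * n⁻¹ = x⁻¹)
    (ny : ∀ n ∈ normalizer ((P : Subgroup G) : Set G), n * y * n⁻¹ = y ∨ n * y * n⁻¹ = y⁻¹) : Dat P x y := by
  refine ⟨hc, hx, hy, y1, y3, xy, nx, ny, ?_⟩
  have hP := comm_of_card_nine hc
  have x1 : x ≠ 1 := fun e => xy (e ▸ one_mem _)
  obtain ⟨n, hn, e⟩ : ∃ n ∈ normalizer ((P : Subgroup G) : Set G), n * x * n⁻¹ = x⁻¹ := by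
    by_contra h
    exact x1 (eq_one_of_fixed P hG hP hx fun n hn => (nx n hn).resolve_right fun e => h ⟨n, hn, e⟩)
  obtain ⟨m, hm, e'⟩ : ∃ n ∈ normalizer ((P : Subgroup G) : Set G), n * y * n⁻¹ = y⁻¹ := by
    by_contra h
    exact y1 (eq_one_of_fixed P hG hP hy fun n hn => (ny n hn).resolve_right fun e => h ⟨n, hn, e⟩)
  rcases ny n hn with h1 | h1
  · rcases nx m hm with h2 | h2
    · refine ⟨n * m, mul_mem hn hm, ?_, ?_⟩
      · rw [← e, mul_inv_rev]
        nth_rewrite 2 [← h2]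
        group
      · calc n * m * y * (n * m)⁻¹ = n * (m * y * m⁻¹) * n⁻¹ := by group
          _ = (n * y * n⁻¹)⁻¹ := by rw [e']; group
          _ = y⁻¹ := by rw [h1]
    · exact ⟨m, hm, h2, e'⟩
  · exact ⟨n, hn, e, h1⟩

theorem exists_dat (hG : commutator G = ⊤) (hc : Nat.card (P : Subgroup G) = 9)
    (h3 : 3 ≤ Nat.card {C : ConjClasses G // ∃ g ∈ C.carrier, g ≠ 1 ∧ orderOf g ∣ 9}) : ∃ x y, Dat P x y := by
  have hP := comm_of_card_nine hc
  have two : ∀ x y : G, x ∈ (P : Subgroup G) → y ∈ (P : Subgroup G) → x ≠ 1 → y ≠ 1 → ¬ IsConj x y →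
      (∀ n ∈ normalizer ((P : Subgroup G) : Set G), n * x * n⁻¹ = x ∨ n * x * n⁻¹ = x⁻¹) →
      (∀ n ∈ normalizer ((P : Subgroup G) : Set G), n * y * n⁻¹ = y ∨ n * y * n⁻¹ = y⁻¹) → ∃ x y, Dat P x y := by
    have one : ∀ x y : G, x ∈ (P : Subgroup G) → y ∈ (P : Subgroup G) → x ≠ 1 → y ≠ 1 → ¬ IsConj x y →
        (∀ n ∈ normalizer ((P : Subgroup G) : Set G), n * x * n⁻¹ = x ∨ n * x * n⁻¹ = x⁻¹) →
        (∀ n ∈ normalizer ((P : Subgroup G) : Set G), n * y * n⁻¹ = y ∨ n * y * n⁻¹ = y⁻¹) → y ^ 3 = 1 →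
        Dat P x y := by
      intro x y hx hy x1 y1 h nx ny y3
      refine dat_of P hG hc hx hy y1 y3 (fun hm => ?_) nx ny
      rcases mem_zpowers_three y3 hm with e | e | e
      · exact x1 e
      · exact h (e ▸ IsConj.refl x)
      · refine y1 (eq_one_of_fixed P hG hP hy fun n hn => (ny n hn).resolve_right fun e' => h ?_)
        exact (isConj_iff.2 ⟨n, e'.trans e.symm⟩).symm
    intro x y hx hy x1 y1 h nx ny
    by_cases y3 : y ^ 3 = 1
    · exact ⟨x, y, one x y hx hy x1 y1 h nx ny y3⟩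
    by_cases x3 : x ^ 3 = 1
    · exact ⟨y, x, one y x hy hx y1 x1 (fun e => h e.symm) ny nx x3⟩
    have x9 : (x ^ 3) ^ 3 = 1 := by
      rw [← pow_mul]
      have : (⟨x, hx⟩ : (P : Subgroup G)) ^ 9 = 1 := hc ▸ pow_card_eq_one'
      exact congrArg Subtype.val this
    refine ⟨x, x ^ 3, dat_of P hG hc hx (pow_mem hx 3) x3 x9 (fun hm => x3 ?_) nx fun n hn => ?_⟩
    · obtain ⟨k, hk⟩ := hm
      have hk' : (x ^ 3) ^ k = x := hk
      rw [← hk', ← zpow_natCast, ← zpow_mul, mul_comm, zpow_mul, zpow_natCast, x9, one_zpow]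
    · rw [← conj_pow]
      rcases nx n hn with e | e <;> rw [e]
      · exact .inl rfl
      · exact .inr (inv_pow x 3)
  obtain ⟨u, v, w, hu, hv, hw, u1, v1, w1, h1, h2, h4⟩ := exists_three P h3
  have h5 := sum_ncard_cl_le P hc u1 v1 w1 h1 h2 h4
  rcases good_of_ncard_cl P hG hP hu u1 with a | ⟨a, a'⟩ <;> rcases good_of_ncard_cl P hG hP hv v1 with b | ⟨b, b'⟩ <;>
    rcases good_of_ncard_cl P hG hP hw w1 with c | ⟨c, c'⟩
  · omega
  · omega
  · omega
  · exact two v w hv hw v1 w1 h4 b' c'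
  · omega
  · exact two u w hu hw u1 w1 h2 a' c'
  · exact two u v hu hv u1 v1 h1 a' b'
  · exact two u v hu hv u1 v1 h1 a' b'

end Ex

namespace Dat

variable {P : Sylow 3 G} {x y : G} (D : Dat P x y)
include D

theorem comm : IsMulCommutative (P : Subgroup G) := comm_of_card_nine D.card

theorem mulc {a b : G} (ha : a ∈ (P : Subgroup G)) (hb : b ∈ (P : Subgroup G)) : a * b = b * a :=
  congrArg Subtype.val (D.comm.is_comm.comm (⟨a, ha⟩ : (P : Subgroup G)) ⟨b, hb⟩)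

theorem flip : Dat P x y⁻¹ where
  card := D.card
  hx := D.hx
  hy := inv_mem D.hy
  y1 := inv_ne_one.2 D.y1
  y3 := by rw [inv_pow, D.y3, inv_one]
  xy := by rw [zpowers_inv]; exact D.xy
  nx := D.nx
  ny := fun n hn => by
    rw [← conj_inv]
    rcases D.ny n hn with e | e <;> rw [e]
    exacts [.inl rfl, .inr rfl]
  inv := by
    obtain ⟨n, hn, e1, e2⟩ := D.inv
    exact ⟨n, hn, e1, by rw [← conj_inv, e2]⟩

theorem le : zpowers y ≤ (P : Subgroup G) := zpowers_le.2 D.hy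

theorem normal : ((zpowers y).subgroupOf (P : Subgroup G)).Normal :=
  ⟨fun a ha b => by rwa [D.comm.is_comm.comm b a, mul_inv_cancel_right]⟩

theorem card_quot : Nat.card ((P : Subgroup G) ⧸ (zpowers y).subgroupOf (P : Subgroup G)) = 3 := by
  have h1 := ((zpowers y).subgroupOf (P : Subgroup G)).card_mul_index
  rw [D.card, Nat.card_congr (subgroupOfEquivOfLe D.le).toEquiv, Nat.card_zpowers,
    orderOf_eq_prime D.y3 D.y1] at h1
  rw [← index_eq_card]
  omega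

theorem cases {u : G} (hu : u ∈ (P : Subgroup G)) : u ∈ zpowers y ∨ x⁻¹ * u ∈ zpowers y ∨ x * u ∈ zpowers y := by
  have := D.normal
  rcases eq_of_card_three D.card_quot (a := ((⟨x, D.hx⟩ : (P : Subgroup G)) : _ ⧸ _))
    (fun e => D.xy (mem_subgroupOf.1 ((QuotientGroup.eq_one_iff _).1 e))) ((⟨u, hu⟩ : (P : Subgroup G)) : _ ⧸ _) with
    h | h | h
  · exact .inl (mem_subgroupOf.1 ((QuotientGroup.eq_one_iff _).1 h))
  · exact .inr (.inl (mem_subgroupOf.1 (QuotientGroup.eq.1 h.symm)))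
  · rw [← QuotientGroup.mk_inv] at h
    have := mem_subgroupOf.1 (QuotientGroup.eq.1 h.symm)
    rw [inv_inv] at this
    exact .inr (.inr this)

theorem cube_mem : x ^ 3 ∈ zpowers y := by
  have := D.normal
  have h : (((⟨x, D.hx⟩ : (P : Subgroup G)) : _ ⧸ (zpowers y).subgroupOf (P : Subgroup G))) ^ 3 = 1 := by
    have := pow_card_eq_one' (x := ((⟨x, D.hx⟩ : (P : Subgroup G)) : _ ⧸ (zpowers y).subgroupOf (P : Subgroup G)))
    rwa [D.card_quot] at this
  rw [← QuotientGroup.mk_pow, QuotientGroup.eq_one_iff] at h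
  exact mem_subgroupOf.1 h

theorem sq_notMem : x * x ∉ zpowers y := fun h => D.xy (by
  have := mul_mem D.cube_mem (inv_mem h)
  rwa [show x ^ 3 * (x * x)⁻¹ = x by group] at this)

theorem mem_centralizer {n : G} (h1 : n * x * n⁻¹ = x) (h2 : n * y * n⁻¹ = y) :
    n ∈ centralizer ((P : Subgroup G) : Set G) := by
  have a1 : x ∈ centralizer ({n} : Set G) := mem_centralizer_singleton_iff.2 (mul_inv_eq_iff_eq_mul.1 h1).symm
  have a2 : zpowers y ≤ centralizer ({n} : Set G) :=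
    zpowers_le.2 (mem_centralizer_singleton_iff.2 (mul_inv_eq_iff_eq_mul.1 h2).symm)
  refine mem_centralizer_iff.2 fun u hu => mem_centralizer_singleton_iff.1 ?_
  rcases D.cases hu with h | h | h
  · exact a2 h
  · simpa using mul_mem a1 (a2 h)
  · simpa using mul_mem (inv_mem a1) (a2 h)

theorem conj_mem {n u : G} (hn : n ∈ normalizer ((P : Subgroup G) : Set G)) (hu : u ∈ zpowers y) :
    n * u * n⁻¹ ∈ zpowers y := by
  obtain ⟨k, rfl⟩ := hu
  change n * y ^ k * n⁻¹ ∈ _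
  rw [← conj_zpow]
  rcases D.ny n hn with e | e <;> rw [e]
  exacts [zpow_mem (mem_zpowers y) k, zpow_mem (inv_mem (mem_zpowers y)) k]

variable [Finite G]

theorem mem_of_isConj {u w : G} (hu : u ∈ zpowers y) (hw : w ∈ (P : Subgroup G)) (h : IsConj u w) :
    w ∈ zpowers y := by
  obtain ⟨n, hn, rfl⟩ := (mem_cl P D.comm (D.le hu)).1 ⟨hw, h⟩
  exact D.conj_mem hn hu

theorem npc_mul : HasNormalPComplement 3 (centralizer ({x * y} : Set G)) := by
  refine CL.Blk.npc_centralizer_of_abelian P (fun a ha b hb => D.mulc ha hb) (mul_mem D.hx D.hy) ?_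
  rintro n ⟨h1, h2⟩
  have h3 : (n * x * n⁻¹) * (n * y * n⁻¹) = x * y := by
    have := mem_centralizer_singleton_iff.1 h1
    calc _ = n * (x * y) * n⁻¹ := by group
      _ = x * y := by rw [this]; group
  rcases D.nx n h2 with e | e
  · rw [e, mul_right_inj] at h3
    exact D.mem_centralizer e h3
  · refine absurd ?_ D.sq_notMem
    have h4 : x * x = (n * y * n⁻¹) * y⁻¹ := by
      rw [e] at h3
      calc x * x = x * (x * y) * y⁻¹ := by group
        _ = _ := by rw [← h3]; group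
    rw [h4]
    exact mul_mem (D.conj_mem h2 (mem_zpowers y)) (inv_mem (mem_zpowers y))

omit [Finite G] in
theorem isConj_of_notMem {u : G} (hu : u ∈ (P : Subgroup G)) (h : u ∉ zpowers y) :
    IsConj x u ∨ IsConj (x * y) u ∨ IsConj (x * y⁻¹) u := by
  have key : ∀ u : G, x⁻¹ * u ∈ zpowers y → IsConj x u ∨ IsConj (x * y) u ∨ IsConj (x * y⁻¹) u := fun u h => by
    rcases mem_zpowers_three D.y3 h with e | e | e <;> rw [inv_mul_eq_iff_eq_mul] at e
    · exact .inl (by rw [e, mul_one])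
    · exact .inr (.inl (by rw [e]))
    · exact .inr (.inr (by rw [e]))
  rcases D.cases hu with h1 | h1 | h1
  · exact absurd h1 h
  · exact key u h1
  · obtain ⟨n, hn, e1, -⟩ := D.inv
    have h2 := D.conj_mem hn h1
    rw [show n * (x * u) * n⁻¹ = (n * x * n⁻¹) * (n * u * n⁻¹) by group, e1] at h2
    have h3 : IsConj (n * u * n⁻¹) u := (isConj_iff.2 ⟨n, rfl⟩).symm
    exact (key _ h2).imp (·.trans h3) (Or.imp (·.trans h3) (·.trans h3))

/-- a real element of order 3 with 3-nilpotent centralizer -/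
theorem exists_real : ∃ u ∈ (P : Subgroup G), u ≠ 1 ∧ u ^ 3 = 1 ∧ IsConj u u⁻¹ ∧
    HasNormalPComplement 3 (centralizer ({u} : Set G)) := by
  obtain ⟨m, hm, e1, e2⟩ := D.inv
  by_cases x3 : x ^ 3 = 1
  · have hc : Commute x y := D.mulc D.hx D.hy
    refine ⟨x * y, mul_mem D.hx D.hy, fun e => D.xy ?_, by rw [hc.mul_pow, x3, D.y3, one_mul],
      isConj_iff.2 ⟨m, ?_⟩, D.npc_mul⟩
    · rw [eq_inv_of_mul_eq_one_left e]
      exact inv_mem (mem_zpowers y)
    · rw [show m * (x * y) * m⁻¹ = (m * x * m⁻¹) * (m * y * m⁻¹) by group, e1, e2, hc.eq, mul_inv_rev]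
  · refine ⟨y, D.hy, D.y1, D.y3, isConj_iff.2 ⟨m, e2⟩, ?_⟩
    refine CL.Blk.npc_centralizer_of_abelian P (fun a ha b hb => D.mulc ha hb) D.hy ?_
    rintro n ⟨h1, h2⟩
    have h3 : n * y * n⁻¹ = y := by rw [mem_centralizer_singleton_iff.1 h1]; group
    rcases D.nx n h2 with e | e
    · exact D.mem_centralizer e h3
    · exfalso
      have h4 : n * x ^ 3 * n⁻¹ = (x ^ 3)⁻¹ := by rw [← conj_pow, e, inv_pow]
      have h5 : n * x ^ 3 * n⁻¹ = x ^ 3 := by
        obtain ⟨k, hk⟩ := D.cube_mem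
        have hk' : y ^ k = x ^ 3 := hk
        rw [← hk', ← conj_zpow, h3]
      have h6 : (x ^ 3) ^ 3 = 1 := by
        rw [← pow_mul]
        have : (⟨x, D.hx⟩ : (P : Subgroup G)) ^ 9 = 1 := D.card ▸ pow_card_eq_one'
        exact congrArg Subtype.val this
      refine x3 ?_
      rw [h5] at h4
      generalize x ^ 3 = t at h4 h6
      calc t = t ^ 3 * (t⁻¹ * t⁻¹) := by group
        _ = 1 := by rw [h6, one_mul]; nth_rewrite 1 [← h4]; exact mul_inv_cancel _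

end Dat

end CL.K3
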