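/-
The generalized character of norm 3 attached to the fusion pattern, and the degrees of its constituents.
-/
import Cfsg.Agent.Low.K3b
import Cfsg.Agent.Char.PiSection2
import Cfsg.Agent.Char.BSChar
import Cfsg.Agent.Char.DegPrime
import Cfsg.Agent.Spor.CharTools
import Cfsg.Agent.Blk.Column2
import Cfsg.Agent.Blk.RkProj
import Cfsg.Agent.Blk.Height
import Cfsg.Agent.Blk.TildeInt

set_option autoImplicit false
open Cfsg Subgroup CL.Fgs CL.Char CL.Blk
open scoped ComplexConjugate Classical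

namespace CL.K3

variable {G : Type*} [Group G] [Finite G]

/-- the 3-section of `u` -/
def sec (u : G) : Set G := {g | IsConj u (piPart {3} g)}

/-- the 3-regular elements of the centralizer -/
def reg (u : G) : Set (centralizer ({u} : Set G)) := {r | IsPiElt ({3}ᶜ : Set ℕ) r}

theorem ncard_sec_le (u : G) : (sec u).ncard ≤ (centralizer ({u} : Set G)).index * (reg u).ncard := by
  let C := centralizer ({u} : Set G)
  let f : (G ⧸ C) × C → G := fun a => a.1.out * (u * a.2) * a.1.out⁻¹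
  have h : sec u ⊆ f '' (Set.univ ×ˢ reg u) := fun g hg => by
    obtain ⟨c, hc⟩ := isConj_iff.1 hg
    obtain ⟨k, hk⟩ := QuotientGroup.mk_out_eq_mul C c
    set d := (c : G ⧸ C).out
    have h1 : d * u * d⁻¹ = piPart {3} g := by
      rw [hk, ← hc, mul_assoc c, mem_centralizer_singleton_iff.1 k.2]; group
    have h2 : d⁻¹ * piPart ({3}ᶜ : Set ℕ) g * d ∈ C := by
      have h3 := (commute_piPart_piPart (π := ({3}ᶜ : Set ℕ)) (σ := {3}) (Commute.refl g)).eq
      rw [← h1] at h3
      refine mem_centralizer_singleton_iff.2 ?_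
      calc _ = d⁻¹ * (piPart ({3}ᶜ : Set ℕ) g * (d * u * d⁻¹)) * d := by group
        _ = _ := by rw [h3]; group
    refine ⟨((c : G ⧸ C), ⟨_, h2⟩), ⟨trivial, ?_⟩, ?_⟩
    · refine isPiElt_coe_iff.1 ?_
      have := (isPiElt_piPart ({3}ᶜ : Set ℕ) g).conj d⁻¹
      rwa [inv_inv] at this
    · change d * (u * (d⁻¹ * piPart ({3}ᶜ : Set ℕ) g * d)) * d⁻¹ = g
      calc _ = d * u * d⁻¹ * piPart ({3}ᶜ : Set ℕ) g := by group
        _ = g := by rw [h1, piPart_mul_piPart_compl]
  refine (Set.ncard_le_ncard h).trans ((Set.ncard_image_le (Set.toFinite _)).trans ?_)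
  rw [Set.ncard_prod, Set.ncard_univ, index_eq_card]

theorem three_mul_ncard_sec_le {u : G} (h1 : u ≠ 1) (h : IsPiElt {3} u) : 3 * (sec u).ncard ≤ Nat.card G := by
  let C := centralizer ({u} : Set G)
  let v : C := ⟨u, mem_centralizer_singleton_iff.2 rfl⟩
  have hv : IsPiElt {3} v := isPiElt_coe_iff.1 h
  have hc : ∀ r : C, Commute v r := fun r => Subtype.ext (mem_centralizer_singleton_iff.1 r.2).symm
  have h2 : Nat.card (zpowers v × reg u) ≤ Nat.card C := by
    refine Nat.card_le_card_of_injective (fun a => (a.1 : C) * (a.2 : C)) fun a b e => ?_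
    have k : ∀ a : zpowers v × reg u, piPart {3} ((a.1 : C) * (a.2 : C)) = a.1 := fun a => by
      refine piPart_mul_eq ?_ (hv.of_mem_zpowers a.1.2) a.2.2
      obtain ⟨i, hi⟩ := a.1.2
      rw [← hi]
      exact (hc _).zpow_left i
    have e1 : (a.1 : C) = b.1 := by rw [← k a, ← k b]; exact congrArg _ e
    have e2 : (a.1 : C) * (a.2 : C) = (b.1 : C) * (b.2 : C) := e
    rw [e1, mul_right_inj] at e2
    exact Prod.ext (Subtype.ext e1) (Subtype.ext e2)
  have h3 : 3 ≤ orderOf v := by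
    obtain ⟨k, hk⟩ := (isPiElt_singleton_iff Nat.prime_three).1 hv
    rcases k with _ | k
    · exact absurd (congrArg Subtype.val (orderOf_eq_one_iff.1 hk)) h1
    · rw [hk]; exact Nat.le_self_pow (by omega) 3
  rw [Nat.card_prod, Nat.card_zpowers, Nat.card_coe_set_eq] at h2
  calc 3 * (sec u).ncard ≤ 3 * (C.index * (reg u).ncard) := Nat.mul_le_mul_left _ (ncard_sec_le u)
    _ = C.index * (3 * (reg u).ncard) := by ring
    _ ≤ C.index * Nat.card C := Nat.mul_le_mul_left _ ((Nat.mul_le_mul_right _ h3).trans h2)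
    _ = Nat.card G := C.index_mul_card

theorem nine_mul_ncard_sec_le (P : Sylow 3 G) (hP : Nat.card (P : Subgroup G) = 9) {u : G}
    (hu : (P : Subgroup G) ≤ centralizer ({u} : Set G)) (h : HasNormalPComplement 3 (centralizer ({u} : Set G))) :
    9 * (sec u).ncard ≤ Nat.card G := by
  let C := centralizer ({u} : Set G)
  obtain ⟨N, hN, -, -, h3⟩ := exists_normal_of_npc Nat.prime_three h
  rw [pPart_card_eq_of_sylow_le P hu, hP] at h3
  have h2 : (reg u).ncard ≤ Nat.card N := by
    refine Set.ncard_le_ncard (t := (N : Set C)) fun r hr => IsPiElt.mem_of_index (π := {3}ᶜ) ?_ hr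
    rw [compl_compl, h3]
    exact isPiNum_singleton_pow Nat.prime_three 2
  calc 9 * (sec u).ncard ≤ 9 * (C.index * (reg u).ncard) := Nat.mul_le_mul_left _ (ncard_sec_le u)
    _ = C.index * (9 * (reg u).ncard) := by ring
    _ ≤ C.index * (N.index * Nat.card N) := Nat.mul_le_mul_left _ (h3 ▸ Nat.mul_le_mul_left _ h2)
    _ = Nat.card G := by rw [N.index_mul_card, C.index_mul_card]

/-- the support of the generalized character -/
def supp (P : Sylow 3 G) (y : G) : Set G :=
  {g | ∃ w ∈ (P : Subgroup G), w ∉ zpowers y ∧ IsConj w (piPart {3} g)}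

/-- the generalized character -/
noncomputable def vv (P : Sylow 3 G) (y : G) : G → ℂ := fun g => if g ∈ supp P y then 3 else 0

namespace Dat

variable {P : Sylow 3 G} {x y : G} (D : Dat P x y)
include D

omit [Finite G] in
theorem le_cent {u : G} (hu : u ∈ (P : Subgroup G)) : (P : Subgroup G) ≤ centralizer ({u} : Set G) :=
  fun _ ha => mem_centralizer_singleton_iff.2 (D.mulc ha hu)

theorem ncard_supp_le : 9 * (supp P y).ncard ≤ 5 * Nat.card G := by
  have h : supp P y ⊆ sec x ∪ sec (x * y) ∪ sec (x * y⁻¹) := by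
    rintro g ⟨w, h1, h2, h3⟩
    rcases D.isConj_of_notMem h1 h2 with h | h | h
    exacts [.inl (.inl (h.trans h3)), .inl (.inr (h.trans h3)), .inr (h.trans h3)]
  have h1 := (Set.ncard_le_ncard h).trans ((Set.ncard_union_le _ _).trans
    (Nat.add_le_add_right (Set.ncard_union_le _ _) _))
  have h2 := three_mul_ncard_sec_le (u := x) (fun e => D.xy (e ▸ one_mem _)) (isPiElt_singleton_of_mem P.isPGroup' D.hx)
  have h3 := nine_mul_ncard_sec_le P D.card (D.le_cent (mul_mem D.hx D.hy)) D.npc_mul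
  have h4 := nine_mul_ncard_sec_le P D.card (D.le_cent (mul_mem D.hx D.flip.hy)) D.flip.npc_mul
  omega

theorem isGenChar_vv : IsGeneralizedCharacter G (vv P y) := by
  have := D.normal
  let K := (zpowers y).subgroupOf (P : Subgroup G)
  have hl : IsGeneralizedCharacter (P : Subgroup G) fun u => if (u : G) ∈ zpowers y then (0 : ℂ) else 3 := by
    convert ((isCharacter_one (G := (P : Subgroup G))).isGeneralizedCharacter.nsmul 3).sub
      ((isCharacter_regChar (G := (P : Subgroup G) ⧸ K)).isGeneralizedCharacter.comp (QuotientGroup.mk' K)) using 2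
    rename_i u
    simp only [Pi.sub_apply, Pi.smul_apply, regChar, QuotientGroup.mk'_apply, QuotientGroup.eq_one_iff, K,
      mem_subgroupOf, D.card_quot]
    split_ifs <;> simp
  refine brauer_characterization_nilpotent (fun h g => ?_) fun E _ => ?_
  · have : g * h * g⁻¹ ∈ supp P y ↔ h ∈ supp P y := by
      have h1 : IsConj (piPart {3} h) (piPart {3} (g * h * g⁻¹)) := isConj_piPart _ (isConj_iff.2 ⟨g, rfl⟩)
      exact ⟨fun ⟨w, a, b, c⟩ => ⟨w, a, b, c.trans h1.symm⟩, fun ⟨w, a, b, c⟩ => ⟨w, a, b, c.trans h1⟩⟩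
    simp only [vv, this]
  · have hp : IsPGroup 3 (E.subtype.comp (piPartHom E {3})).range := by
      rintro ⟨_, e, rfl⟩
      obtain ⟨k, hk⟩ := (isPiElt_singleton_iff Nat.prime_three).1 ((isPiElt_piPart {3} e).map E.subtype)
      exact ⟨k, Subtype.ext (hk ▸ pow_orderOf_eq_one _)⟩
    obtain ⟨Q, hQ⟩ := hp.exists_le_sylow
    obtain ⟨c, hc⟩ := MulAction.exists_smul_eq G Q P
    have hm : ∀ e : E, ((MulAut.conj c).toMonoidHom.comp (E.subtype.comp (piPartHom E {3}))) e ∈ (P : Subgroup G) := by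
      intro e
      rw [← hc]
      exact smul_mem_pointwise_smul _ (MulAut.conj c) _ (hQ ⟨e, rfl⟩)
    convert hl.comp (MonoidHom.codRestrict _ _ hm) using 2
    rename_i e
    have h1 : IsConj (c * piPart {3} (e : G) * c⁻¹) (piPart {3} (e : G)) := (isConj_iff.2 ⟨c, rfl⟩).symm
    have h2 : c * piPart {3} (e : G) * c⁻¹ ∈ (P : Subgroup G) := by rw [← coe_piPart]; exact hm e
    have h3 : ((MonoidHom.codRestrict _ _ hm e : (P : Subgroup G)) : G) = c * piPart {3} (e : G) * c⁻¹ := by
      rw [← coe_piPart]; rfl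
    rw [h3, vv]
    by_cases h : c * piPart {3} (e : G) * c⁻¹ ∈ zpowers y
    · rw [if_pos h, if_neg]
      rintro ⟨w, a, b, d⟩
      exact b (D.mem_of_isConj h a (h1.trans d.symm))
    · rw [if_neg h, if_pos ⟨_, h2, h, h1⟩]

omit D in
theorem vv_eq_zero {g : G} (hg : ¬ 3 ∣ orderOf g) : vv P y g = 0 := by
  refine if_neg ?_
  rintro ⟨w, -, b, c⟩
  rw [piPart_eq_one ((isPiElt_compl_singleton_iff Nat.prime_three).2 hg), isConj_one_left] at c
  exact b (c ▸ one_mem _)

theorem exists_irr : ∃ χ₁ χ₂ : G → ℂ, IsIrrCharacter G χ₁ ∧ IsIrrCharacter G χ₂ ∧ χ₁ ≠ (fun _ => 1) ∧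
    χ₂ ≠ (fun _ => 1) ∧ ∀ g, ¬ 3 ∣ orderOf g → 1 + χ₂ g - χ₁ g = 0 := by
  have := Fintype.ofFinite G
  obtain ⟨n, hn⟩ := D.isGenChar_vv.exists_int_classInner isCharacter_one.isGeneralizedCharacter
  have h0 : (Nat.card G : ℂ) ≠ 0 := Nat.cast_ne_zero.2 Nat.card_pos.ne'
  have h1 : ∑ g, vv P y g = 3 * (supp P y).ncard := by
    simp only [vv]
    rw [← Finset.sum_filter, Finset.sum_const, Set.ncard_eq_toFinset_card', nsmul_eq_mul, mul_comm]
    congr 3
    ext g
    simp
  have h2 : n * (Nat.card G : ℤ) = 3 * (supp P y).ncard := by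
    rw [classInner] at hn
    simp only [map_one, mul_one] at hn
    rw [h1, inv_mul_eq_iff_eq_mul₀ h0, mul_comm (Nat.card G : ℂ)] at hn
    exact_mod_cast hn.symm
  have h3 := D.ncard_supp_le
  have h4 : 0 < (supp P y).ncard := (Set.ncard_pos).2 ⟨x, x, D.hx, D.xy, by
    rw [piPart_eq_self (isPiElt_singleton_of_mem P.isPGroup' D.hx)]⟩
  have h5 : 0 < Nat.card G := Nat.card_pos
  have h6 : n = 1 := by
    have : 0 < n := by by_contra h; nlinarith
    have : n < 2 := by by_contra h; nlinarith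
    omega
  rw [h6, Int.cast_one] at hn
  have h7 : classInner (vv P y) (vv P y) = 3 := by
    rw [← mul_one (3 : ℂ), ← hn, classInner, classInner, mul_left_comm,
      Finset.mul_sum _ _ (3 : ℂ)]
    congr 2
    funext g
    simp only [vv]
    split_ifs
    · rw [map_ofNat, map_one, mul_one]
    · simp
  obtain ⟨χ₁, χ₂, a, b, c, d, -, e⟩ := bs_norm_three D.isGenChar_vv h7 hn (vv_eq_zero (by simp))
  exact ⟨χ₁, χ₂, a, b, c, d, fun g hg => by rw [← e, vv_eq_zero hg]⟩

theorem not_dvd_degree {M : Ideal AlgInt} (hM : IsPModular 3 M) {χ : IrrCharacter G} (hχ : χ ∈ principalBlock M G)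
    (h1 : χ ≠ irrOne G) : ¬ 3 ∣ charDegree (χ : G → ℂ) := by
  intro hd
  obtain ⟨u, hu, u1, u3, ui, hC⟩ := D.exists_real
  have ho : orderOf u = 3 := orderOf_eq_prime u3 u1
  have h9 : 3 ∣ Nat.card G := ho ▸ orderOf_dvd_natCard u
  have hz : ∀ ψ : IrrCharacter G, ∃ z : ℤ, (ψ : G → ℂ) u = z := fun ψ =>
    CL.Spor.exists_int_of_isConj_pow ψ.2.isCharacter fun m hm => by
      rcases mem_zpowers_three u3 (pow_mem (mem_zpowers u) m) with e | e | e
      · have := orderOf_dvd_of_pow_eq_one e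
        rw [ho] at this
        exact absurd (Nat.eq_one_of_dvd_coprimes hm this h9) (by norm_num)
      · rw [e]
      · rw [e]; exact ui
  choose z hz using hz
  have hi : ∀ ψ : IrrCharacter G, (ψ : G → ℂ) u⁻¹ = z ψ := fun ψ => by
    rw [← hz, ψ.2.isClassFunction.apply_eq_of_isConj ui]
  have hs := sum_principal_column_self hM (x := u) ⟨1, by rw [ho, pow_one]⟩
  rw [degSq_of_npc hM hC, pPart_card_eq_of_sylow_le P (D.le_cent hu), D.card] at hs
  simp only [hz, hi] at hs
  have hs' : ∑ ψ : IrrCharacter G with ψ ∈ principalBlock M G, z ψ * z ψ = 9 := by exact_mod_cast hs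
  have hle : ∑ ψ ∈ ({χ, irrOne G} : Finset (IrrCharacter G)), z ψ * z ψ ≤ 9 := by
    rw [← hs']
    refine Finset.sum_le_sum_of_subset_of_nonneg (fun ψ h => ?_) fun ψ _ _ => mul_self_nonneg _
    simp only [Finset.mem_insert, Finset.mem_singleton] at h
    rcases h with rfl | rfl
    · simpa using hχ
    · simpa using irrOne_mem_principal hM
  have h2 : z (irrOne G) = 1 := by
    have : ((z (irrOne G) : ℤ) : ℂ) = 1 := (hz _).symm
    exact_mod_cast this
  rw [Finset.sum_pair h1, h2] at hle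
  have h3 : z χ ≠ 0 := fun e => principal_apply_ne_zero hM hχ (not_dvd_index_centralizer_of_sylow_le P (D.le_cent hu))
    (by rw [hz, e, Int.cast_zero])
  have h4 := card_dvd_sub_of_const χ.2.isGeneralizedCharacter (zpowers u) (d := charDegree (χ : G → ℂ)) (a := z χ)
    (by rw [Int.cast_natCast, χ.2.cast_charDegree]) fun w hw w1 => by
      rcases mem_zpowers_three u3 hw with e | e | e
      exacts [absurd e w1, e ▸ hz χ, e ▸ hi χ]
  rw [Nat.card_zpowers, ho] at h4
  obtain ⟨k, hk⟩ : (3 : ℤ) ∣ z χ := by omega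
  have h5 : k ≠ 0 := by rintro rfl; exact h3 hk
  have h6 : 0 < k * k := mul_self_pos.2 h5
  rw [hk] at hle
  nlinarith

/-- two non-principal irreducible characters of consecutive degrees prime to 3 -/
theorem exists_degrees : ∃ χ₁ χ₂ : IrrCharacter G, χ₁ ≠ irrOne G ∧ χ₂ ≠ irrOne G ∧
    charDegree (χ₁ : G → ℂ) = charDegree (χ₂ : G → ℂ) + 1 ∧ ¬ 3 ∣ charDegree (χ₁ : G → ℂ) ∧
      ¬ 3 ∣ charDegree (χ₂ : G → ℂ) := by
  have := Fintype.ofFinite G
  obtain ⟨χ₁, χ₂, a, b, c, d, e⟩ := D.exists_irr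
  obtain ⟨M, hM⟩ := CL.Blk.exists_isPModular Nat.prime_three
  have h3 : ¬ 3 ∣ orderOf (1 : G) := by simp
  have h0 := e 1 h3
  have h1 := blockPart_congr_of_pRegular hM (blockIdem_mem_OG hM (isPBlock_principal M))
    (ϑ := (irrOne G : G → ℂ) + χ₂ - χ₁) (ϑ' := 0) e h3
  rw [Rk.blockPart_sub, Rk.blockPart_add, Rk.blockPart_zero, Rk.blockPart_irr_of_mem (irrOne_mem_principal hM)] at h1
  simp only [Pi.sub_apply, Pi.add_apply, Pi.zero_apply] at h1
  rw [show (irrOne G : G → ℂ) 1 = 1 from rfl] at h1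
  rw [← a.cast_charDegree, ← b.cast_charDegree] at h0
  have h2 : charDegree χ₁ = charDegree χ₂ + 1 := by
    have : (charDegree χ₁ : ℂ) = charDegree χ₂ + 1 := by linear_combination -h0
    exact_mod_cast this
  have h4 := b.charDegree_pos
  have m : (⟨χ₁, a⟩ : IrrCharacter G) ∈ principalBlock M G ∧ (⟨χ₂, b⟩ : IrrCharacter G) ∈ principalBlock M G := by
    by_cases m1 : (⟨χ₁, a⟩ : IrrCharacter G) ∈ principalBlock M G <;>
      by_cases m2 : (⟨χ₂, b⟩ : IrrCharacter G) ∈ principalBlock M G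
    · exact ⟨m1, m2⟩
    · rw [blockPart_irr_apply_of_mem m1, blockPart_irr_apply_of_notMem m2] at h1
      have : (charDegree χ₁ : ℂ) = 1 := by rw [a.cast_charDegree]; linear_combination -h1
      have : charDegree χ₁ = 1 := by exact_mod_cast this
      omega
    · rw [blockPart_irr_apply_of_notMem m1, blockPart_irr_apply_of_mem m2] at h1
      have : (charDegree χ₂ : ℂ) + 1 = 0 := by rw [b.cast_charDegree]; linear_combination h1
      have : charDegree χ₂ + 1 = 0 := by exact_mod_cast this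
      omega
    · rw [blockPart_irr_apply_of_notMem m1, blockPart_irr_apply_of_notMem m2] at h1
      simp at h1
  have c' : (⟨χ₁, a⟩ : IrrCharacter G) ≠ irrOne G := fun h => c (congrArg Subtype.val h)
  have d' : (⟨χ₂, b⟩ : IrrCharacter G) ≠ irrOne G := fun h => d (congrArg Subtype.val h)
  exact ⟨⟨χ₁, a⟩, ⟨χ₂, b⟩, c', d', h2, D.not_dvd_degree hM m.1 c', D.not_dvd_degree hM m.2 d'⟩

end Dat

end CL.K3
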