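/-
Faithful characters of small degree: the order of a Sylow subgroup, and the solvability of 2-local subgroups.
-/
import Cfsg.Agent.Blk.AbelChar
import Cfsg.Agent.Inv.BT1
import Cfsg.Agent.Char.LinGrp1
import Cfsg.Agent.Char.Burnside
import Cfsg.Agent.Transfer.Abelian
import Cfsg.Agent.Even.NGrp.Sieve1

set_option autoImplicit false
open Cfsg Subgroup CL.Char CL.Blk
open scoped ComplexConjugate Classical

namespace CL.K3

variable {G : Type*} [Group G] [Finite G]

/-- A simple group with an irreducible character of prime degree `q` has Sylow `q`-subgroups of order `q`. -/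
theorem card_sylow_eq_of_degree [IsSimpleGroup G] (hG : ¬ IsMulCommutative G) {q : ℕ} [hq : Fact q.Prime]
    {η : IrrCharacter G} (hd : charDegree (η : G → ℂ) = q) (Q : Sylow q G) : Nat.card (Q : Subgroup G) = q := by
  have := Fintype.ofFinite (Q : Subgroup G)
  have h1 : η ≠ irrOne G := by
    rintro rfl
    have h := (irrOne G).2.cast_charDegree
    rw [hd, show (irrOne G : G → ℂ) 1 = 1 from rfl] at h
    exact hq.out.ne_one (by exact_mod_cast h)
  have hv : ∀ z : G, z ≠ 1 → z ∈ centralizer ((Q : Subgroup G) : Set G) → (η : G → ℂ) z = 0 := fun z z1 hz =>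
    CL.Inv.PO.apply_eq_zero_of_degree_pow hG h1 (i := 1) (by rw [hd, pow_one]) Q z1 hz
  have he : (η : G → ℂ) 1 = q := by rw [← η.2.cast_charDegree, hd]
  have hr : IsCharacter (Q : Subgroup G) fun u => (η : G → ℂ) u := η.2.isCharacter.restrict _
  have hdvd : q ∣ Nat.card (Q : Subgroup G) := Q.dvd_card_of_dvd_card (hd ▸ η.2.charDegree_dvd_card)
  by_cases h : ∀ ψ, IsIrrCharacter (Q : Subgroup G) ψ → classInner (fun u : (Q : Subgroup G) => (η : G → ℂ) u) ψ ≠ 0 →
      ψ 1 = 1
  · have h2 : commutator (Q : Subgroup G) = ⊥ := eq_bot_iff.2 fun g hg => by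
      have h3 := hr.mem_charKer.1 (hr.mem_charKer_iff_forall.2 fun ψ hψ hne => hψ.one_eq_one_iff.1 (h ψ hψ hne) hg)
      have h4 : (g : G) ∈ charKer (η : G → ℂ) := η.2.mem_charKer.2 h3
      rw [η.2.charKer_eq_bot_of_simple fun e => h1 (Subtype.ext e)] at h4
      exact Subtype.ext h4
    have h3 : IsMulCommutative (Q : Subgroup G) := (commutator_eq_bot_iff _).1 h2
    exact Nat.dvd_antisymm (card_dvd_degree_of_vanishing η.2.isGeneralizedCharacter _
      (fun z hz z1 => hv z z1 ((Q : Subgroup G).le_centralizer hz)) he) hdvd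
  · exfalso
    push Not at h
    obtain ⟨ψ, hψ, hne, h2⟩ := h
    obtain ⟨k, hk⟩ := Q.isPGroup'.exists_card_eq
    obtain ⟨j, -, hj⟩ := (Nat.dvd_prime_pow hq.out).1 (hk ▸ hψ.charDegree_dvd_card)
    have h3 := CL.Inv.PO.sum_charDegree_le hr {⟨ψ, hψ⟩} (by simpa using hne) he
    rw [Finset.sum_singleton] at h3
    have h4 : j ≠ 0 := by
      rintro rfl
      exact h2 (by rw [← hψ.cast_charDegree, hj]; simp)
    have h5 : charDegree ψ = q := le_antisymm h3 (hj ▸ Nat.le_self_pow h4 q)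
    have h6 := eq_of_classInner_ne_zero_of_one_eq hr hψ hne (by rw [← hψ.cast_charDegree, h5]; exact he)
    obtain ⟨z, z1, hz, hz'⟩ := CL.Inv.PO.exists_central_of_dvd (hd ▸ η.2.charDegree_dvd_card) Q
    have h7 := norm_apply_of_mem_charCenter (hψ.center_le_charCenter (x := ⟨z, hz⟩)
      (mem_center_iff.2 fun g => Subtype.ext (mem_centralizer_iff.1 hz' g g.2)))
    rw [← h6] at h7
    change ‖(η : G → ℂ) z‖ = ‖(η : G → ℂ) 1‖ at h7
    rw [hv z z1 hz', he] at h7
    exact hq.out.ne_zero (by simpa using h7.symm)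

/-- The normalizer of an abelian subgroup `U` permutes the non-principal constituents of a faithful character. -/
theorem exists_action {χ : G → ℂ} (hχ : IsCharacter G χ) (hk : charKer χ = ⊥) {d : ℕ} (hd : χ 1 = d)
    {U : Subgroup G} (hU : ∀ a b : U, a * b = b * a) (hne : U ≠ ⊥) :
    ∃ (n : ℕ) (f : normalizer (U : Set G) →* Equiv.Perm (Fin n)), 0 < n ∧ n ≤ d ∧
      ∀ g i, f g i = i → ∃ u ∈ U, u ≠ 1 ∧ u * g = g * u := by
  have := Fintype.ofFinite U
  let O := {ψ : U →* ℂˣ // ψ ≠ 1 ∧ classInner (lin ψ) (fun u : U => χ u) ≠ 0}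
  let _ : MulAction (normalizer (U : Set G)) O :=
    { smul := fun n ψ => ⟨conjLin n ψ.1, by rw [Ne, conjLin_eq_one_iff]; exact ψ.2.1, by
        rw [classInner_conjLin_res hχ.isClassFunction]; exact ψ.2.2⟩
      one_smul := fun ψ => Subtype.ext (conjLin_one ψ.1)
      mul_smul := fun n n' ψ => Subtype.ext (conjLin_mul n n' ψ.1) }
  have hr : IsCharacter U fun u => χ u := hχ.restrict _
  let e := Fintype.equivFin O
  refine ⟨Fintype.card O, e.permCongrHom.toMonoidHom.comp (MulAction.toPermHom _ O), ?_, ?_, fun g i h => ?_⟩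
  · by_contra h0
    have h1 : IsEmpty O := Fintype.card_eq_zero_iff.1 (by omega)
    refine hne (eq_bot_iff.2 fun u hu => ?_)
    rw [← hk, hχ.mem_charKer]
    refine (apply_eq_sum_lin hU (fun u : U => χ u) ⟨u, hu⟩).trans
      (Eq.trans (Finset.sum_congr rfl fun ψ _ => ?_) (apply_eq_sum_lin hU (fun u : U => χ u) 1).symm)
    by_cases h2 : ψ = 1
    · rw [h2, lin_one_apply, lin_one_apply]
    · have h3 : classInner (lin ψ) (fun u : U => χ u) = 0 := by
        by_contra h3
        exact h1.false ⟨ψ, h2, h3⟩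
      rw [← conj_classInner, h3, map_zero, zero_mul, zero_mul]
  · let j : O → IrrCharacter U := fun ψ => ⟨lin ψ.1, isIrrCharacter_lin _⟩
    have hj : Function.Injective j := fun a b h => Subtype.ext (MonoidHom.ext fun u => Units.ext
      (congrFun (congrArg Subtype.val h) u))
    have h1 := CL.Inv.PO.sum_charDegree_le hr (Finset.univ.image j) (fun ψ h => by
      obtain ⟨a, -, rfl⟩ := Finset.mem_image.1 h
      rw [← conj_classInner]
      simpa using a.2.2) hd
    rw [Finset.sum_image fun a _ b _ h => hj h] at h1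
    refine le_trans (le_of_eq ?_) h1
    rw [Finset.sum_congr rfl (g := fun _ => 1) fun a _ => ?_]
    · simp
    · have := (j a).2.cast_charDegree
      rw [show (j a : U → ℂ) 1 = 1 from lin_apply_one _] at this
      exact_mod_cast this
  · by_contra hc
    push Not at hc
    have h1 : conjLin g (e.symm i).1 = (e.symm i).1 := by
      have : g • e.symm i = e.symm i := by
        rw [eq_comm, Equiv.symm_apply_eq]; exact h.symm
      exact congrArg Subtype.val this
    have h2 : Function.Injective fun u : U => (g⁻¹ • u) * u⁻¹ := fun u v huv => by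
      have h3 : ((g⁻¹ • u : U) : G) * (u : G)⁻¹ = ((g⁻¹ • v : U) : G) * (v : G)⁻¹ := congrArg Subtype.val huv
      rw [coe_normalizer_smul, coe_normalizer_smul, InvMemClass.coe_inv, inv_inv] at h3
      by_contra h4
      refine hc ((v : G)⁻¹ * u) (mul_mem (inv_mem v.2) u.2) (fun h5 => h4 (Subtype.ext (inv_mul_eq_one.1 h5).symm)) ?_
      calc (v : G)⁻¹ * u * g = (v : G)⁻¹ * g * ((g : G)⁻¹ * u * g * (u : G)⁻¹) * u := by group
        _ = _ := by rw [h3]; group
    refine (e.symm i).2.1 (MonoidHom.ext fun w => ?_)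
    obtain ⟨u, rfl⟩ := Finite.surjective_of_injective h2 w
    rw [map_mul, ← conjLin_apply, h1, ← map_mul, mul_inv_cancel, map_one, MonoidHom.one_apply]

omit [Finite G] in
theorem nine_dvd_of_mod {n a : ℕ} (h : n ∣ 9 * 2 ^ a) (h7 : n ≡ 1 [MOD 7]) (h3 : 3 ∣ n) : 9 ∣ n := by
  obtain ⟨m, rfl⟩ := h3
  have h1 : m ∣ 3 * 2 ^ a := Nat.dvd_of_mul_dvd_mul_left (k := 3) (by norm_num) (by rwa [← mul_assoc])
  by_contra h9
  have h2 : ¬ 3 ∣ m := fun ⟨k, hk⟩ => h9 ⟨k, by rw [hk]; ring⟩
  obtain ⟨j, -, rfl⟩ := (Nat.dvd_prime_pow Nat.prime_two).1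
    (((Nat.Prime.coprime_iff_not_dvd Nat.prime_three).2 h2).symm.dvd_of_dvd_mul_left h1)
  have h4 : 2 ^ j % 7 = 1 ∨ 2 ^ j % 7 = 2 ∨ 2 ^ j % 7 = 4 := by
    clear h h7 h1 h9 h2
    induction j with
    | zero => simp
    | succ j ih => rw [pow_succ]; omega
  unfold Nat.ModEq at h7
  omega

instance fact_seven : Fact (Nat.Prime 7) := ⟨by norm_num⟩

theorem nine_dvd_index {a : ℕ} (hc : Nat.card G ∣ 9 * 7 * 2 ^ a) {y : G} (hy : orderOf y = 7)
    (h3 : 3 ∣ (normalizer (zpowers y : Set G)).index) : 9 ∣ (normalizer (zpowers y : Set G)).index := by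
  have h1 : (zpowers y).index ∣ 9 * 2 ^ a := by
    rw [← (zpowers y).card_mul_index, Nat.card_zpowers, hy] at hc
    exact Nat.dvd_of_mul_dvd_mul_left (k := 7) (by norm_num) (by rwa [← mul_assoc, mul_comm 7 9])
  have h2 : IsPGroup 7 (zpowers y) := IsPGroup.of_card (n := 1) (by rw [Nat.card_zpowers, hy, pow_one])
  let Q := h2.toSylow fun h => by
    rcases (Nat.Prime.dvd_mul (by norm_num)).1 (h.trans h1) with h | h
    · omega
    · exact absurd (Nat.Prime.dvd_of_dvd_pow (by norm_num) h) (by norm_num)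
  have h4 := card_sylow_modEq_one 7 G
  rw [Q.card_eq_index_normalizer] at h4
  exact nine_dvd_of_mod ((index_dvd_of_le le_normalizer).trans h1) h4 h3

theorem five_dvd_of_perm {H : Subgroup (Equiv.Perm (Fin 7))} {σ : Equiv.Perm (Fin 7)} (hσ : σ ∈ H) (h7 : σ ^ 7 = 1)
    (hf : ∀ i, σ i ≠ i) (h9 : 9 ∣ Nat.card H) : 5 ∣ Nat.card H := by
  have : Fact (Nat.Prime 3) := ⟨Nat.prime_three⟩
  have h1 : σ.IsCycle := Equiv.Perm.isCycle_of_prime_order'' (by simp; norm_num)
    (by rw [Fintype.card_fin]; exact orderOf_eq_prime h7 fun e => hf 0 (by rw [e]; rfl))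
  have : MulAction.IsPretransitive H (Fin 7) := ⟨fun a b => by
    obtain ⟨i, hi⟩ := h1.exists_zpow_eq (hf a) (hf b)
    exact ⟨⟨σ ^ i, zpow_mem hσ i⟩, hi⟩⟩
  have h2 : MulAction.IsPreprimitive H (Fin 7) := MulAction.IsPreprimitive.of_prime_card (by simp; norm_num)
  obtain ⟨R, hR⟩ := Sylow.exists_subgroup_card_pow_prime (G := H) 3 (n := 2) h9
  have hR' : Nat.card (R.map H.subtype) = 9 := by rw [card_subtype, hR]; rfl
  have h3 : IsPGroup 3 (R.map H.subtype) := IsPGroup.of_card (n := 2) hR'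
  let S := h3.toSylow fun h => by
    have := (R.map H.subtype).card_mul_index
    rw [hR', Nat.card_perm, Nat.card_fin] at this
    simp only [Nat.factorial] at this
    omega
  have h4 : (Equiv.swap (0 : Fin 7) 1 * Equiv.swap 0 2).IsThreeCycle :=
    Equiv.Perm.isThreeCycle_swap_mul_swap_same (by decide) (by decide) (by decide)
  obtain ⟨c, hc⟩ := CL.Fgs.IsPiElt.exists_conj_mem_sylow
    ((CL.Fgs.isPiElt_singleton_iff Nat.prime_three).2 ⟨1, h4.orderOf⟩) S
  have h5 := Equiv.Perm.alternatingGroup_le_of_isPreprimitive_of_isThreeCycle_mem h2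
    (g := c * (Equiv.swap (0 : Fin 7) 1 * Equiv.swap 0 2) * c⁻¹) (Equiv.Perm.cycleType_conj.trans h4)
    (map_subtype_le R hc)
  refine Dvd.dvd.trans ?_ (card_dvd_of_le h5)
  rw [nat_card_alternatingGroup]
  simp [Nat.factorial]

omit [Finite G] in
theorem prime_cases {n a q r : ℕ} (hq : q.Prime) (h : n ∣ 9 * q * 2 ^ a) (hr : r.Prime) (hd : r ∣ n) :
    r = 2 ∨ r = 3 ∨ r = q := by
  rcases hr.dvd_mul.1 (hd.trans h) with h1 | h1
  · rcases hr.dvd_mul.1 h1 with h2 | h2
    · exact .inr (.inl ((Nat.prime_dvd_prime_iff_eq hr Nat.prime_three).1 (hr.dvd_of_dvd_pow (n := 2) h2)))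
    · exact .inr (.inr ((Nat.prime_dvd_prime_iff_eq hr hq).1 h2))
  · exact .inl ((Nat.prime_dvd_prime_iff_eq hr Nat.prime_two).1 (hr.dvd_of_dvd_pow h1))

theorem isSolvable_seven {a : ℕ} (hc : Nat.card G = 9 * 7 * 2 ^ a)
    (hC : ∀ x : G, orderOf x = 7 → centralizer ({x} : Set G) = zpowers x) {M : Subgroup G}
    (f : M →* Equiv.Perm (Fin 7)) (hf : ∀ g : M, orderOf g = 7 → ∀ i, f g i ≠ i) {y : M} (hy : orderOf y = 7) :
    Group.IsSolvable M := by
  have hM : Nat.card M ∣ 9 * 7 * 2 ^ a := hc ▸ M.card_subgroup_dvd_card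
  have hK7 : ¬ 7 ∣ Nat.card f.ker := fun h => by
    obtain ⟨z, hz⟩ := exists_prime_orderOf_dvd_card' 7 h
    exact hf z (by rw [orderOf_coe, hz]) 0 (by rw [z.2]; rfl)
  have hK : Group.IsSolvable f.ker := isSolvable_of_two_primes Nat.prime_two Nat.prime_three fun r hr hd => by
    rcases prime_cases (by norm_num) (f.ker.card_subgroup_dvd_card.trans hM) hr hd with h | h | h
    exacts [.inl h, .inr h, absurd (h ▸ hd) hK7]
  have hmul : Nat.card f.ker * Nat.card f.range = Nat.card M := by rw [← index_ker, card_mul_index]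
  suffices h : ¬ 3 ∣ Nat.card f.range by
    have : Group.IsSolvable f.range := isSolvable_of_two_primes Nat.prime_two (q := 7) (by norm_num) fun r hr hd => by
      rcases prime_cases (by norm_num) ((Dvd.intro_left _ hmul).trans hM) hr hd with h1 | h1 | h1
      exacts [.inl h1, absurd (h1 ▸ hd) h, .inr h1]
    exact Group.isSolvable_of_ker_le_range f.ker.subtype f.rangeRestrict (by simp)
  intro h3
  have hy' : orderOf (y : G) = 7 := by rw [orderOf_coe, hy]
  have y7 : y ^ 7 = 1 := hy ▸ pow_orderOf_eq_one y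
  have h27 : ¬ 9 * 3 ∣ 9 * 7 * 2 ^ a := fun h8 => by
    have h9 : 3 ∣ 7 * 2 ^ a := Nat.dvd_of_mul_dvd_mul_left (k := 9) (by norm_num) (by rwa [← mul_assoc])
    rcases Nat.prime_three.dvd_mul.1 h9 with h | h
    · omega
    · exact absurd (Nat.prime_three.dvd_of_dvd_pow h) (by norm_num)
  -- the normalizer of a Sylow 7-subgroup of `G` has order prime to 3
  have hN : ¬ 3 ∣ Nat.card (normalizer (zpowers (y : G) : Set G)) := by
    set N := normalizer (zpowers (y : G) : Set G)
    have h1 := CL.Transfer.relIndex_centralizer_normalizer_dvd (zpowers (y : G))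
    rw [IsCyclic.card_mulAut, Nat.card_zpowers, hy', zpowers_eq_closure, centralizer_closure, hC _ hy',
      ← zpowers_eq_closure] at h1
    have h2 : Nat.card (zpowers (y : G)) * (zpowers (y : G)).relIndex N = Nat.card N := by
      rw [← Nat.card_congr (subgroupOfEquivOfLe (le_normalizer (H := zpowers (y : G)))).toEquiv]
      exact card_mul_index _
    have h4 := N.card_mul_index
    rw [Nat.card_zpowers, hy'] at h2
    have h5 : ¬ 9 ∣ Nat.card N := fun h => by
      have h6 : Nat.card N ∣ 7 * 6 := h2 ▸ Nat.mul_dvd_mul_left 7 h1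
      exact absurd (h.trans h6) (by norm_num)
    have h6 : 9 ∣ N.index := nine_dvd_index hc.dvd hy' (by
      by_contra h6
      refine h5 (Nat.Coprime.dvd_of_dvd_mul_right (n := N.index) ?_ (h4 ▸ hc ▸ ⟨7 * 2 ^ a, by ring⟩))
      exact Nat.Coprime.pow_left 2 ((Nat.Prime.coprime_iff_not_dvd Nat.prime_three).2 h6))
    intro h7
    exact h27 (hc ▸ h4 ▸ mul_comm _ N.index ▸ Nat.mul_dvd_mul h6 h7)
  have hM9 : 9 ∣ Nat.card M := by
    refine (nine_dvd_index hM hy ?_).trans (index_dvd_card _)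
    have h1 : 3 ∣ Nat.card (normalizer (zpowers y : Set M)) * (normalizer (zpowers y : Set M)).index := by
      rw [card_mul_index]; exact h3.trans (Dvd.intro_left _ hmul)
    refine (Nat.prime_three.dvd_mul.1 h1).resolve_left fun h => hN (h.trans ?_)
    rw [← card_subtype]
    refine card_dvd_of_le ((le_normalizer_map _).trans (le_of_eq ?_))
    rw [MonoidHom.map_zpowers]
    rfl
  have hK3 : ¬ 3 ∣ Nat.card f.ker := fun h => by
    have := Fintype.ofFinite f.ker
    have h1 := Equiv.Perm.card_compl_support_modEq (p := 7) (n := 1)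
      (σ := MulAut.toPerm f.ker (MulAut.conjNormal y)) (by rw [pow_one, ← map_pow, ← map_pow, y7, map_one, map_one])
    have h2 : (MulAut.toPerm f.ker (MulAut.conjNormal y)).supportᶜ = {1} := by
      ext z
      rw [Finset.mem_compl, Equiv.Perm.notMem_support, Finset.mem_singleton]
      refine ⟨fun e => ?_, fun e => by rw [e]; exact map_one (MulAut.conjNormal y : MulAut f.ker)⟩
      have e1 : (y : G) * z * (y : G)⁻¹ = z := congrArg (fun t : f.ker => ((t : M) : G)) e
      have e2 : ((z : M) : G) ∈ zpowers (y : G) :=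
        hC _ hy' ▸ mem_centralizer_singleton_iff.2 (mul_inv_eq_iff_eq_mul.1 e1).symm
      have e3 := orderOf_dvd_of_mem_zpowers e2
      rw [hy', orderOf_coe, orderOf_coe] at e3
      rcases (Nat.dvd_prime (by norm_num)).1 e3 with e4 | e4
      · exact orderOf_eq_one_iff.1 e4
      · exact absurd (e4.symm.dvd.trans (_root_.orderOf_dvd_natCard z)) hK7
    rw [h2, Finset.card_singleton, ← Nat.card_eq_fintype_card] at h1
    have h4 : Nat.card f.ker ∣ 9 * 2 ^ a := by
      refine Nat.Coprime.dvd_of_dvd_mul_left (m := 7) ((Nat.Prime.coprime_iff_not_dvd (by norm_num)).2 hK7).symm ?_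
      rw [← mul_assoc, mul_comm 7 9]
      exact f.ker.card_subgroup_dvd_card.trans hM
    exact h27 ((hmul ▸ Nat.mul_dvd_mul (nine_dvd_of_mod h4 h1.symm h) h3).trans hM)
  have h9 : 9 ∣ Nat.card f.range := Nat.Coprime.dvd_of_dvd_mul_left
    (Nat.Coprime.pow_left 2 ((Nat.Prime.coprime_iff_not_dvd Nat.prime_three).2 hK3)) (hmul ▸ hM9)
  have h5 := five_dvd_of_perm (H := f.range) ⟨y, rfl⟩ (by rw [← map_pow, y7, map_one]) (hf y hy) h9
  rcases prime_cases (by norm_num) ((Dvd.intro_left _ hmul).trans hM) Nat.prime_five h5 with h | h | h <;> omega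

theorem n2_of {a q : ℕ} [hq : Fact q.Prime] (hq2 : q ≠ 2) (hc : Nat.card G = 9 * q * 2 ^ a)
    (hC : ∀ x : G, orderOf x = q → centralizer ({x} : Set G) = zpowers x) {χ : G → ℂ} (hχ : IsCharacter G χ)
    (hk : charKer χ = ⊥) {d : ℕ} (hd : χ 1 = d) (h : d < q ∨ (q = 7 ∧ d = 7)) : CL.NGrp.N2 G := by
  rintro _ ⟨T, hT, hT1, rfl⟩
  let U := (center T).map T.subtype
  have hle : normalizer (T : Set G) ≤ normalizer (U : Set G) := CL.Grp.normalizer_le_normalizer_map_subtype _
  refine CL.NGrp.solv_of_le hle ?_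
  have hU2 : IsPGroup 2 U := (hT.to_subgroup _).map _
  have hU1 : U ≠ ⊥ := by
    have : Nontrivial T := (nontrivial_iff_ne_bot T).2 hT1
    have := hT.center_nontrivial
    rw [Ne, map_eq_bot_iff_of_injective _ T.subtype_injective]
    exact (nontrivial_iff_ne_bot _).1 this
  have hU : ∀ a b : U, a * b = b * a := by
    rintro ⟨_, a, ha, rfl⟩ ⟨_, b, hb, rfl⟩
    exact Subtype.ext (congrArg T.subtype (mem_center_iff.1 hb a))
  obtain ⟨n, f, h0, hn, hf⟩ := exists_action hχ hk hd hU hU1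
  have hf' : ∀ g, orderOf g = q → ∀ i, f g i ≠ i := fun g hg i hi => by
    obtain ⟨u, hu, u1, e⟩ := hf g i hi
    have h1 : u ∈ zpowers (g : G) := hC g (by rw [orderOf_coe, hg]) ▸ mem_centralizer_singleton_iff.2 e
    have h2 := orderOf_dvd_of_mem_zpowers h1
    rw [orderOf_coe, hg] at h2
    obtain ⟨k, hk⟩ := IsPGroup.iff_orderOf.1 hU2 ⟨u, hu⟩
    rw [← orderOf_coe] at hk
    rcases (Nat.dvd_prime hq.out).1 h2 with h3 | h3
    · exact u1 (orderOf_eq_one_iff.1 h3)
    · exact hq2 ((Nat.prime_dvd_prime_iff_eq hq.out Nat.prime_two).1 (hq.out.dvd_of_dvd_pow (h3.symm.trans hk).dvd))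
  by_cases hM : q ∣ Nat.card (normalizer (U : Set G))
  · obtain ⟨y, hy⟩ := exists_prime_orderOf_dvd_card' q hM
    have h1 : q ∣ n := by
      by_contra h1
      obtain ⟨i, hi⟩ := Equiv.Perm.exists_fixed_point_of_prime (p := q) (n := 1) (σ := f y) (by rwa [Fintype.card_fin])
        (by rw [pow_one, ← map_pow, ← hy, pow_orderOf_eq_one, map_one])
      exact hf' y hy i hi
    have h2 := Nat.le_of_dvd h0 h1
    obtain ⟨rfl, rfl⟩ : q = 7 ∧ n = 7 := by omega
    exact isSolvable_seven hc hC f hf' hy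
  · refine isSolvable_of_two_primes Nat.prime_two Nat.prime_three fun r hr hd => ?_
    rcases prime_cases hq.out (hc ▸ card_subgroup_dvd_card _) hr hd with h | h | h
    exacts [.inl h, .inr h, absurd (h ▸ hd) hM]

end CL.K3
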