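/-
Project LOWDIM, step `CitSp4`: the groups `SL₂(2ⁿ)` and `Sz(2²ᵐ⁺¹)`.
-/
import Cfsg.Agent.Low.CitB
import Cfsg.Agent.Low.Res3
import Cfsg.Agent.Cls.SL2Sylow
import Cfsg.Agent.Chev.SzSub2

set_option autoImplicit false

namespace CL.Low.Cit4

open Matrix Cfsg Cfsg.Geo CL.Asch CL.SLn Module
open scoped MatrixGroups

universe u

variable {F : Type u} [Field F]

/-- A faithful absolutely irreducible symplectic representation in which all involutions have type `c₂`. -/
structure Rep {G : Type*} [Group G] (ρ : G →* GL I4 F) : Prop where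
  two : (2 : F) = 0
  inj : Function.Injective ρ
  sp : ∀ g, ρ g ∈ spGL 2 F
  span : spanAlg ρ.range = ⊤
  c2 : ∀ g, g ≠ 1 → g * g = 1 → ∃ e, C2 (ρ g) e

theorem Rep.comp {G G' : Type*} [Group G] [Group G'] {ρ : G →* GL I4 F} (h : Rep ρ) (e : G' ≃* G) :
    Rep (ρ.comp e.toMonoidHom) :=
  ⟨h.two, h.inj.comp e.injective, fun _ => h.sp _, by
    rw [MonoidHom.range_comp, MonoidHom.range_eq_top.2 e.surjective, ← MonoidHom.range_eq_map]; exact h.span,
    fun g h1 h2 => h.c2 _ (by simpa using h1) (by rw [← map_mul, h2, map_one])⟩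

theorem range_comp_equiv {G G' : Type*} [Group G] [Group G'] (ρ : G →* GL I4 F) (e : G' ≃* G) :
    (ρ.comp e.toMonoidHom).range = ρ.range := by
  rw [MonoidHom.range_comp, MonoidHom.range_eq_top.2 e.surjective, ← MonoidHom.range_eq_map]

/-- The field of the traces is bounded by the values of the form on an orbit. -/
theorem tr_fix (τ : F →+* F) {P : Subgroup (GL I4 F)} (hs : P ≤ spGL 2 F) (hP : spanAlg P = ⊤) {e : I4 → F}
    (he : e ≠ 0) {κ : F} (h : ∀ g ∈ P, ∃ a, τ a = a ∧ sβ F e (g • e) = κ * a) {g : GL I4 F} (hg : g ∈ P) :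
    τ (tr g) = tr g := by
  classical
  let S : Set (I4 → F) := {v | ∃ k ∈ P, v = k • e}
  have hS : Submodule.span F S = ⊤ :=
    (irr_iff.1 (irr_of_spanAlg_eq_top hP) (Submodule.span F S) fun k hk x hx => by
      change k • x ∈ _
      induction hx using Submodule.span_induction with
      | mem x hx =>
        obtain ⟨l, hl, rfl⟩ := hx
        exact Submodule.subset_span ⟨k * l, mul_mem hk hl, (mul_smul _ _ _).symm⟩
      | zero => rw [smul_zero]; exact zero_mem _
      | add x y _ _ hx hy => rw [smul_add]; exact add_mem hx hy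
      | smul a x _ hx => rw [smul_comm]; exact Submodule.smul_mem _ _ hx).resolve_left fun e0 =>
      he ((Submodule.mem_bot F).1 (e0 ▸ Submodule.subset_span ⟨1, one_mem _, (one_smul _ _).symm⟩))
  obtain ⟨B, hB, h1, h2⟩ := exists_linearIndependent F S
  let b : Basis B F (I4 → F) := Basis.mk h2 (by rw [Subtype.range_coe_subtype, Set.ofPred_mem_eq, h1, hS])
  have : Fintype B := FiniteDimensional.fintypeBasisIndex b
  have hb : ∀ i, b i ∈ S := fun i => by rw [Basis.mk_apply]; exact hB i.2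
  have hβ : ∀ u ∈ S, ∀ v ∈ S, ∃ a, τ a = a ∧ sβ F u v = κ * a := by
    rintro _ ⟨k, hk, rfl⟩ _ ⟨l, hl, rfl⟩
    rw [sβ_smul_left (hs hk), ← mul_smul]
    exact h _ (mul_mem (inv_mem hk) hl)
  have key : ∀ x ∈ S, ∀ k, τ (b.repr x k) = b.repr x k := fun x hx => by
    have e1 : ∑ k, τ (b.repr x k) • b k = x := by
      refine sub_eq_zero.1 ((CL.Sp.stdForm_nondegenerate (Fin 2) F).2 _ fun y => ?_)
      have e2 : (sβ F).flip (∑ k, τ (b.repr x k) • b k - x) = 0 := b.ext fun i => by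
        choose γ hγ hγ' using fun k => hβ _ (hb i) _ (hb k)
        obtain ⟨μ, hμ, hμ'⟩ := hβ _ (hb i) _ hx
        have e3 : κ * ∑ k, b.repr x k * γ k = κ * μ := by
          rw [← hμ']
          conv_rhs => rw [← b.sum_repr x]
          simp only [map_sum, map_smul, smul_eq_mul, hγ', Finset.mul_sum]
          exact Finset.sum_congr rfl fun k _ => by ring
        have e4 : κ * τ (∑ k, b.repr x k * γ k) = κ * μ := by
          rcases mul_eq_mul_left_iff.1 e3 with e4 | e4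
          · rw [e4, hμ]
          · simp [e4]
        change sβ F (b i) _ = 0
        simp only [map_sub, map_sum, map_smul, smul_eq_mul, hγ', hμ', ← e4, map_mul, hγ, Finset.mul_sum]
        exact sub_eq_zero.2 (Finset.sum_congr rfl fun k _ => by ring)
      exact LinearMap.congr_fun e2 y
    intro k
    conv_rhs => rw [← e1]
    rw [b.repr_sum_self]
  rw [tr, ← Matrix.trace_toLin'_eq, LinearMap.trace_eq_matrix_trace F b, Matrix.trace, map_sum]
  refine Finset.sum_congr rfl fun i _ => ?_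
  obtain ⟨k, hk, e1⟩ := hb i
  rw [diag_apply, LinearMap.toMatrix_apply]
  exact key _ ⟨g * k, mul_mem hg hk, by rw [mul_smul, ← e1]; rfl⟩ i

section L2

variable {K : Type*} [Field K]

/-- The diagonal torus of `SL₂`. -/
def dg : Kˣ →* SL(2, K) where
  toFun c := ⟨!![(c : K), 0; 0, (c⁻¹ : Kˣ)], by simp⟩
  map_one' := Subtype.ext (by simp [one_fin_two])
  map_mul' a b := Subtype.ext (show _ = !![_, _; _, _] * !![_, _; _, _] by simp [mul_comm])

theorem coe_dg (c : Kˣ) : (dg c : Matrix (Fin 2) (Fin 2) K) = !![(c : K), 0; 0, (c⁻¹ : Kˣ)] := rfl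

theorem dg_upT (c : Kˣ) (b : K) : dg c * SL2.upT b * (dg c)⁻¹ = SL2.upT ((c : K) ^ 2 * b) := by
  rw [mul_inv_eq_iff_eq_mul]
  refine Subtype.ext ?_
  simp only [Matrix.SpecialLinearGroup.coe_mul, coe_dg, SL2.coe_upT]
  ext i j
  fin_cases i <;> fin_cases j <;> simp [sq, mul_right_comm]

theorem upT_mul (a b : K) : SL2.upT a * SL2.upT b = SL2.upT (a + b) := Subtype.ext (by
  simp only [Matrix.SpecialLinearGroup.coe_mul, SL2.coe_upT]
  ext i j
  fin_cases i <;> fin_cases j <;> simp [add_comm])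

theorem l2even [Finite K] (h2 : (2 : K) = 0) {ρ : SL(2, K) →* GL I4 F} (h : Rep ρ) :
    ∃ Q : (I4 → F) → F, IsNondegenerateQuadraticForm Q ∧ FixesQuadForm (matrixSet ρ.range) Q := by
  have h11 : (1 : K) + 1 = 0 := one_add_one_eq_two.trans h2
  obtain ⟨w, hw⟩ : ∃ w : SL(2, K), (w : Matrix (Fin 2) (Fin 2) K) = !![0, 1; 1, 0] :=
    ⟨⟨_, by rw [det_fin_two_of]; linear_combination -h2⟩, rfl⟩
  have u0 : SL2.upT (0 : K) = 1 := Subtype.ext (by rw [SL2.coe_upT, Matrix.SpecialLinearGroup.coe_one, one_fin_two])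
  have ww : w * w = 1 := Subtype.ext (by simp [hw, one_fin_two])
  obtain ⟨e, c⟩ := h.c2 (SL2.upT 1) (fun e => one_ne_zero (SL2.upT_injective (e.trans u0.symm)))
    (by rw [upT_mul, h11, u0])
  refine SL2Dat.exists_quad (w := ρ w) (H := (ρ.comp dg).range) ⟨?_, h.span, ⟨w, rfl⟩, ?_, ?_, ?_, ?_, ?_, ?_, ?_, ?_⟩ c
  · rintro _ ⟨g, rfl⟩; exact h.sp g
  · rintro _ ⟨g, rfl⟩; exact ⟨_, rfl⟩
  · rw [← map_mul, ww, map_one]
  · simp only [← map_mul]
    exact congrArg ρ (Subtype.ext (by simp [hw, SL2.coe_upT, h11]))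
  · rintro _ ⟨a, rfl⟩ _ ⟨b, rfl⟩
    rw [← map_mul, ← map_mul, mul_comm]
  · rintro _ ⟨a, rfl⟩
    rw [← map_inv, MonoidHom.comp_apply, MonoidHom.comp_apply, ← map_mul, ← map_mul]
    exact congrArg ρ (Subtype.ext (by simp [hw, coe_dg]))
  · rintro _ ⟨a, rfl⟩
    have := Fintype.ofFinite K
    have : CharP K 2 := CharTwo.of_one_ne_zero_of_two_eq_zero one_ne_zero h2
    have h3 := FiniteField.even_card_of_char_two (ringChar.eq K 2)
    have h4 := Fintype.card_pos (α := K)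
    refine ⟨(Fintype.card K - 1) / 2, ?_⟩
    rw [show 2 * ((Fintype.card K - 1) / 2) + 1 = Nat.card Kˣ by rw [Nat.card_units, Nat.card_eq_fintype_card]; omega,
      ← map_pow, pow_card_eq_one', map_one]
  · rintro _ ⟨a, rfl⟩
    simp only [MonoidHom.comp_apply, ← map_inv, ← map_mul]
    rw [map_inv, dg_upT, upT_mul, upT_mul, add_comm]
  · rintro Q h1 h3 h4 _ ⟨g, rfl⟩
    have hu : ∀ b, Q (ρ (SL2.upT b)) := fun b => by
      by_cases hb : b = 0
      · rw [hb, u0, ← ww, map_mul]; exact h4 _ _ h3 h3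
      obtain ⟨a, ha⟩ := exists_sq_of_two_eq_zero h2 b
      have := h1 _ ⟨Units.mk0 a fun e => hb (by rw [← ha, e]; ring), rfl⟩
      rwa [MonoidHom.comp_apply, ← map_inv, ← map_mul, ← map_mul, dg_upT, Units.val_mk0, ha, mul_one] at this
    refine SL2.sl_induction (P := fun g => Q (ρ g)) hu (fun b => ?_) (fun a b ha hb => by rw [map_mul]; exact h4 _ _ ha hb) g
    rw [show SL2.loT b = w * SL2.upT b * w from Subtype.ext (by simp [hw, SL2.coe_upT, SL2.coe_loT]), map_mul, map_mul]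
    exact h4 _ _ (h4 _ _ h3 (hu b)) h3

end L2

section Sz

open CL.Chev.Sz

variable {G K : Type*} [Group G] [Field K] [Finite K] [Fintype F] (M : Model G K) {ρ : G →* GL I4 F}

include M in
theorem card_eq_of_sz (h : Rep ρ) (htr : ∀ F₀ : Subfield F, (∀ l ∈ ρ.range, tr l ∈ F₀) → F₀ = ⊤) :
    Nat.card K = Nat.card F := by
  have h11 : (1 : K) + 1 = 0 := one_add_one_eq_two.trans M.two
  have hbb : ∀ b : K, b + b = 0 := fun b => by rw [← two_mul, M.two, zero_mul]
  have hz : ∀ b : K, b ≠ 0 → ∃ e, C2 (ρ (M.T 0 b)) e := fun b hb =>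
    h.c2 _ (fun e => hb (M.T_eq_one.1 e).2) (by rw [M.T_mul]; simp [hbb])
  obtain ⟨e, c⟩ := hz 1 one_ne_zero
  have hc : ∀ a b, ρ (M.T a b) * ρ (M.T 0 1) = ρ (M.T 0 1) * ρ (M.T a b) := fun a b => by
    rw [← map_mul, ← map_mul, M.T_mul, M.T_mul]; simp [add_comm]
  have hT : ∀ a b, ρ (M.T a b) • e = e := fun a b => c.fix (h.sp _) (hc a b)
  have hD : ∀ d, ∃ a : F, ρ (M.D d) • e = a • e := fun d =>
    c.prop_of_root (h.sp _) (hc 1 0) (by rw [← map_mul, M.T_mul]; simp [h11]) (by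
      have := hT (M.σ ↑d⁻¹ * 1) (M.σ ↑d⁻¹ * ↑d⁻¹ ^ 2 * 0)
      rwa [← M.D_conj_T, map_inv M.D, inv_inv, map_mul, map_mul, map_inv, mul_smul, mul_smul, inv_smul_eq_iff] at this)
  choose χ hχ using hD
  have hinj : ∀ d, χ d = 1 → d = 1 := fun d hd => by
    refine Units.ext (M.toTits.σ_mul_sq_inj ?_)
    by_contra hb
    rw [Units.val_one, map_one, one_pow, one_mul] at hb
    have e1 := M.D_conj_T d 0 1
    rw [mul_zero, mul_one] at e1
    obtain ⟨e', c'⟩ := hz (1 + M.σ d * d ^ 2) fun e => hb (by linear_combination e - h11)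
    obtain ⟨v, hv⟩ := exists_sβ_eq_one c'.ne
    have e2 := c'.phi v
    have e3 := c.phi_conj (h.sp (M.D d)) v
    rw [← map_inv, ← map_mul, ← map_mul, e1, hχ, hd, one_smul] at e3
    have e4 := c.iso (c.fix_sub v) (c.fix_sq (h.sp _) (hc (M.σ d) 0) v)
    rw [← map_mul, M.T_mul, hbb, M.σσ, add_zero, zero_add, mul_comm] at e4
    rw [show M.T 0 (1 + M.σ d * d ^ 2) = M.T 0 1 * M.T 0 (M.σ d * d ^ 2) by rw [M.T_mul]; simp, map_mul, mul_smul,
      ← c.adj, hv] at e2
    simp only [map_sub, LinearMap.sub_apply, sβ_self, e2, e3, c.adj v v, c.phi] at e4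
    exact one_ne_zero (α := F) (by linear_combination e4 + sβ F e v ^ 2 * h.two)
  have hmul : ∀ a b, χ (a * b) = χ a * χ b := fun a b => smul_left_injective F c.ne (by
    simp only [← hχ, map_mul, mul_smul]
    rw [hχ b, smul_comm, hχ a, smul_comm])
  have hone : χ 1 = 1 := smul_left_injective F c.ne (by simp only [← hχ, map_one, one_smul])
  let χ' : Kˣ →* F := ⟨⟨χ, hone⟩, hmul⟩
  have h1 := Nat.card_le_card_of_injective _ ((injective_iff_map_eq_one χ'.toHomUnits).2 fun d hd =>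
    hinj d (congrArg Units.val hd))
  rw [Nat.card_units, Nat.card_units] at h1
  obtain ⟨m, hm, hK⟩ := M.exists_card_field
  have : CharP F 2 := CharTwo.of_one_ne_zero_of_two_eq_zero one_ne_zero h.two
  have hτ : ∀ d, iterateFrobenius F 2 (2 * m + 1) (χ d) = χ d := fun d => by
    change χ' d ^ 2 ^ (2 * m + 1) = χ' d
    rw [← map_pow, ← hK, ← Nat.sub_add_cancel (Nat.card_pos (α := K)), pow_succ, ← Nat.card_units, pow_card_eq_one',
      one_mul]
  have h3 := htr (fixSub (iterateFrobenius F 2 (2 * m + 1))) fun l hl =>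
    tr_fix _ (by rintro _ ⟨g, rfl⟩; exact h.sp g) h.span c.ne (κ := sβ F e (ρ M.w • e)) (by
      rintro _ ⟨g, rfl⟩
      by_cases hg : g • M.inf = M.inf
      · obtain ⟨a, b, d, rfl⟩ := M.eq_TD_of_fix hg
        exact ⟨0, map_zero _, by rw [map_mul, mul_smul, hχ, smul_comm, hT, map_smul, sβ_self, smul_zero, mul_zero]⟩
      · obtain ⟨x, y, a, b, d, rfl⟩ := M.eq_TwTD_of_not_fix hg
        refine ⟨χ d, hτ d, ?_⟩
        simp only [map_mul, mul_smul]
        rw [hχ, smul_comm _ (χ d), hT, ← sβ_smul (h.sp (M.T x y)) e (ρ M.w • e), hT, smul_comm _ (χ d),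
          smul_comm _ (χ d), map_smul, smul_eq_mul, mul_comm]) hl
  have h4 := card_le_of_pow (F := F) (k := 2 ^ (2 * m + 1)) (Nat.one_lt_two_pow (by omega)) fun x =>
    mem_fixSub.1 (h3 ▸ Subfield.mem_top x)
  rw [← hK, ← Nat.card_eq_fintype_card] at h4
  have := Nat.card_pos (α := K)
  have := Nat.card_pos (α := F)
  omega

end Sz

end CL.Low.Cit4
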