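/-
Project LOWDIM, step `CitSp4`: the cross-characteristic cases and the conclusion.
-/
import Cfsg.Agent.Low.CitC
import Cfsg.Agent.Low.D3Dih
import Cfsg.Agent.Low.DataL
import Cfsg.Agent.Cit.Thm
import Cfsg.Agent.Cit.Cor1
import Cfsg.Agent.Perm.SpecAlt

set_option autoImplicit false

namespace CL.Low.Cit4

open Matrix Cfsg Cfsg.Geo CL.Asch CL.SLn Module
open scoped MatrixGroups

universe u

variable {F : Type u} [Field F] {g h : GL I4 F}

theorem coe_inv_sp (hg : g ∈ spGL 2 F) : (g⁻¹).1 = -J (Fin 2) F * g.1ᵀ * J (Fin 2) F :=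
  Units.inv_eq_of_mul_eq_one_left (by
    simp only [Matrix.neg_mul, SymplecticGroup.inv_left_mul_aux ((CL.Sp.mem_spGL_iff_mem_symplecticGroup g).1 hg)])

/-- The trace of the upper left block. -/
def ht (A : Matrix I4 I4 F) : F := A (.inl 0) (.inl 0) + A (.inl 1) (.inl 1)

theorem ht_add (A B : Matrix I4 I4 F) : ht (A + B) = ht A + ht B := by simp only [ht, Matrix.add_apply]; ring

theorem ht_add_inv (hg : g ∈ spGL 2 F) : ht (g.1 + (g⁻¹).1) = tr g := by
  rw [coe_inv_sp hg]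
  simp [ht, J, trace, mul_apply, Fintype.sum_sum_type, Fin.sum_univ_two]
  ring

theorem tr_inv_sp (hg : g ∈ spGL 2 F) : tr g⁻¹ = tr g := by
  rw [← ht_add_inv hg, ← ht_add_inv (inv_mem hg), inv_inv, add_comm]

theorem pfaff (hg : g ∈ spGL 2 F) :
    ∃ b : F, (g.1 + (g⁻¹).1) * (g.1 + (g⁻¹).1) = tr g • (g.1 + (g⁻¹).1) + b • (1 : Matrix I4 I4 F) := by
  refine ⟨((g.1 + (g⁻¹).1) * (g.1 + (g⁻¹).1) - tr g • (g.1 + (g⁻¹).1)) (.inl 0) (.inl 0), ?_⟩
  rw [coe_inv_sp hg]
  ext i j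
  rcases i with i | i <;> rcases j with j | j <;> fin_cases i <;> fin_cases j <;>
    simp [J, trace, mul_apply, Fintype.sum_sum_type, Fin.sum_univ_two] <;> ring

theorem tr_mul_self (h2 : (2 : F) = 0) (g : GL I4 F) : tr (g * g) = tr g ^ 2 := by
  have : ∀ i j, g.1 i j * g.1 j i + g.1 j i * g.1 i j = 2 * (g.1 i i * g.1 j j) := fun i j => by
    linear_combination (g.1 i j * g.1 j i - g.1 i i * g.1 j j) * h2
  simp only [tr, Units.val_mul, trace, diag_apply, mul_apply, Fintype.sum_sum_type, Fin.sum_univ_two]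
  linear_combination this (.inl 0) (.inl 1) + this (.inl 0) (.inr 0) + this (.inl 0) (.inr 1) + this (.inl 1) (.inr 0) +
    this (.inl 1) (.inr 1) + this (.inr 0) (.inr 1)

theorem tr_one_two (h2 : (2 : F) = 0) : tr (1 : GL I4 F) = 0 := by
  simp only [tr, Units.val_one, trace_one, Fintype.card_sum, Fintype.card_fin]
  push_cast
  linear_combination 2 * h2

/-- `Sp₄(2ⁿ)` has no element of order seven conjugate to its square. -/
theorem eq_one_of_seven (h2 : (2 : F) = 0) (hg : g ∈ spGL 2 F) (h7 : g ^ 7 = 1) (hc : h * g * h⁻¹ = g ^ 2) : g = 1 := by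
  have hr : ∀ i j, (g ^ i).1 * (g ^ j).1 = (g ^ ((i + j) % 7)).1 := fun i j => by
    rw [← Units.val_mul, ← pow_add, ← pow_eq_pow_mod _ h7]
  have hh : ∀ i, h.1 * (g ^ i).1 * (h⁻¹).1 = (g ^ (2 * i % 7)).1 := fun i => by
    rw [← Units.val_mul, ← Units.val_mul, ← conj_pow, hc, ← pow_mul, ← pow_eq_pow_mod _ h7]
  have hM : ∀ A : Matrix I4 I4 F, A + A = 0 := fun A => by rw [← two_smul F, h2, zero_smul]
  obtain ⟨b, hb⟩ := pfaff hg
  have ha : tr g ^ 2 = tr g := by rw [← tr_mul_self h2, ← sq, ← hc, tr_conj]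
  rw [show g⁻¹ = g ^ 6 from inv_eq_of_mul_eq_one_right (by rw [← pow_succ', h7])] at hb
  generalize tr g = a at ha hb
  have e1 : ((g ^ 1).1 + (g ^ 6).1) * ((g ^ 1).1 + (g ^ 6).1) = (g ^ 2).1 + (g ^ 5).1 := by
    simp only [mul_add, add_mul, hr, Nat.reduceAdd, Nat.reduceMod]
    linear_combination (norm := abel) hM (g ^ 0).1
  have e2 : ((g ^ 1).1 + (g ^ 6).1) * ((g ^ 2).1 + (g ^ 5).1) = (g ^ 1).1 + (g ^ 6).1 + ((g ^ 4).1 + (g ^ 3).1) := by
    simp only [mul_add, add_mul, hr, Nat.reduceAdd, Nat.reduceMod]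
    abel
  have hj : ∀ i j k l : ℕ, (g ^ i).1 + (g ^ j).1 = a • ((g ^ k).1 + (g ^ l).1) + b • (1 : Matrix I4 I4 F) →
      (g ^ (2 * i % 7)).1 + (g ^ (2 * j % 7)).1 = a • ((g ^ (2 * k % 7)).1 + (g ^ (2 * l % 7)).1) + b • 1 :=
    fun i j k l e => by
      have := congrArg (fun A => h.1 * A * (h⁻¹).1) e
      simpa only [mul_add, add_mul, Matrix.mul_smul, Matrix.smul_mul, hh, mul_one, Units.mul_inv] using this
  have p1 : (g ^ 2).1 + (g ^ 5).1 = a • ((g ^ 1).1 + (g ^ 6).1) + b • (1 : Matrix I4 I4 F) := by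
    rw [← e1, pow_one, hb]
  have p2 := hj _ _ _ _ p1
  have p3 := hj _ _ _ _ p2
  simp only [Nat.reduceMul, Nat.reduceMod] at p2 p3
  have h3 : (g ^ 2).1 + (g ^ 5).1 = 0 := by
    generalize (g ^ 1).1 + (g ^ 6).1 = x at *
    generalize (g ^ 2).1 + (g ^ 5).1 = y at *
    generalize (g ^ 4).1 + (g ^ 3).1 = z at *
    have e3 : y = x ∧ z = x := by
      rcases eq_zero_or_one_of_sq_eq_self ha with rfl | rfl
      · rw [zero_smul] at p1 p2 p3
        exact ⟨p1.trans p3.symm, p2.trans p3.symm⟩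
      · rw [one_smul] at p1 p2 p3
        exact ⟨by rw [p3, p2, add_assoc, hM, add_zero], by rw [p2, p1, add_assoc, hM, add_zero]⟩
    rw [← e1, ← hM x]
    rwa [e3.1, e3.2] at e2
  have h4 : g ^ 2 = g ^ 5 := Units.ext (by rw [← add_zero (g ^ 2).1, ← hM (g ^ 5).1, ← add_assoc, h3, zero_add])
  have h5 : g ^ 3 = 1 := mul_left_cancel (a := g ^ 2) (by rw [← pow_add, mul_one, h4])
  rw [← h7, show 7 = 1 + 3 * 2 from rfl, pow_add, pow_mul, h5, one_pow, mul_one, pow_one]

section Rep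

variable {G : Type*} [Group G] {ρ : G →* GL I4 F} (r : Rep ρ)
include r

theorem Rep.not_seven {x y : G} (h7 : x ^ 7 = 1) (hc : y * x * y⁻¹ = x ^ 2) : x = 1 :=
  r.inj ((eq_one_of_seven (h := ρ y) r.two (r.sp x) (by rw [← map_pow, h7, map_one])
    (by rw [← map_inv, ← map_mul, ← map_mul, hc, map_pow])).trans (map_one ρ).symm)

/-- A product of generators of order two and four fixes no hyperbolic pair. -/
theorem Rep.fpf {t s : G} (ht : t * t = 1) (ht1 : t ≠ 1) (hs : s * s * (s * s) = 1) (hs1 : s * s ≠ 1)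
    (gen : Subgroup.closure {t, s} = ⊤) {u v : I4 → F} (hu : ρ (t * s) • u = u) (hv : ρ (t * s) • v = v) :
    sβ F u v = 0 := by
  by_contra huv
  obtain ⟨f, c⟩ := r.c2 t ht1 ht
  obtain ⟨e, c'⟩ := r.c2 _ hs1 hs
  have hc : ρ s * ρ (s * s) = ρ (s * s) * ρ s := by rw [← map_mul, ← map_mul, mul_assoc]
  have h0 : ∀ x : I4 → F, ρ t • x = x → ρ s • x = x → x = 0 := fun x h1 h2 => eq_zero_of_fix r.span (by
    rintro _ ⟨k, rfl⟩
    exact (show ⊤ ≤ (MulAction.stabilizer _ x).comap ρ by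
      rw [← gen, Subgroup.closure_le]; rintro _ (rfl | rfl) <;> assumption) (Subgroup.mem_top k))
  have hst : ∀ x : I4 → F, ρ (t * s) • x = x → ρ s • x = ρ t • x := fun x hx => by
    rw [← c.tt (ρ s • x), ← mul_smul _ (ρ s), ← map_mul, hx]
  have hn : ∀ x : I4 → F, ρ (t * s) • x = x → sβ F e (ρ t • x - x) = 0 := fun x hx => by
    rw [← hst x hx]; exact c'.d1 (r.sp s) hc x
  have hind : ∀ a b : F, a • (ρ t • u - u) + b • (ρ t • v - v) = 0 → a = 0 ∧ b = 0 := fun a b e0 => by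
    have e1 : ρ t • (a • u + b • v) = a • u + b • v := by
      rw [smul_add, smul_comm _ a, smul_comm _ b]
      generalize ρ t • u = x at e0
      generalize ρ t • v = y at e0
      linear_combination (norm := module) e0
    have e2 := h0 _ e1 (by rw [hst _ (by rw [smul_add, smul_comm _ a, smul_comm _ b, hu, hv]), e1])
    have e3 := congrArg (sβ F u) e2
    have e4 := congrArg (sβ F · v) e2
    simpa [sβ_self, huv] using And.intro e4 e3
  have key : ∀ x : I4 → F, ρ t • x = x → (¬ ∃ a : F, x = a • f) → sβ F e x = 0 → sβ F e f ≠ 0 := fun x h1 h2 h3 h4 =>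
    c'.ne (h0 e (c.fix_of_perp fun y hy => by
      obtain ⟨a, b, rfl⟩ := (c.span x y h1 hy).resolve_left h2
      rw [sβ_comm r.two]
      simp [h3, h4]) (c'.fix (r.sp s) hc))
  by_cases h1 : ∃ a : F, ρ t • u - u = a • f
  · obtain ⟨a, ha⟩ := h1
    have ha0 : a ≠ 0 := fun e0 => one_ne_zero (hind 1 0 (by simp [ha, e0])).1
    refine key _ (c.fix_sub v) ?_ (hn v hv) ?_
    · rintro ⟨b, hb⟩
      exact ha0 (neg_eq_zero.1 (hind b (-a) (by rw [ha, hb]; module)).2)
    · simpa [ha, ha0] using hn u hu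
  · obtain ⟨a, b, hab⟩ := (c.span _ _ (c.fix_sub u) (c.fix_sub v)).resolve_left h1
    have ha0 : a ≠ 0 := fun e0 => one_ne_zero (hind (-b) 1 (by simp [hab, e0])).2
    refine key _ (c.fix_sub u) h1 (hn u hu) ?_
    have := hn v hv
    rw [hab, map_add, map_smul, map_smul, hn u hu] at this
    simpa [ha0] using this

omit r in
theorem tr_five (h2 : (2 : F) = 0) (hg : g ∈ spGL 2 F) (h5 : g ^ 5 = 1)
    (h : ∀ u v : I4 → F, g • u = u → g • v = v → sβ F u v = 0) : tr g ^ 2 = tr g := by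
  let N : Matrix I4 I4 F := 1 + (g.1 + (g⁻¹).1) + ((g * g).1 + ((g * g)⁻¹).1)
  have e4 : g⁻¹ = g * g * g * g := inv_eq_of_mul_eq_one_right (by rw [← h5]; simp only [pow_succ, pow_zero, one_mul, mul_assoc])
  have e3 : (g * g)⁻¹ = g * g * g := inv_eq_of_mul_eq_one_right (by rw [← h5]; simp only [pow_succ, pow_zero, one_mul, mul_assoc])
  have hN : ∀ v, N *ᵥ v = v + (g • v + g • g • g • g • v) + (g • g • v + g • g • g • v) := fun v => by
    simp only [N, add_mulVec, one_mulVec, e3]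
    rw [e4]
    simp only [← mul_smul, ← mul_assoc]
    rfl
  have h1 : ∀ v, g • N *ᵥ v = N *ᵥ v := fun v => by
    have : g • g • g • g • g • v = v := by
      simp only [← mul_smul, ← mul_assoc]
      rw [← e4, inv_mul_cancel, one_smul]
    simp only [hN, smul_add, this]
    abel
  have h3 : N = 0 := CL.Sp.matrix_ext_mulVec fun v => sβ_ext fun u => by
    have e1 := h _ _ (h1 v) (h1 u)
    have e2 : ∀ x, sβ F (N *ᵥ v) (g • x) = sβ F (N *ᵥ v) x := fun x => by rw [← sβ_smul hg _ x, h1]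
    rw [hN u] at e1
    simp only [map_add, e2] at e1
    rw [zero_mulVec, map_zero, LinearMap.zero_apply]
    linear_combination e1 - 2 * sβ F (N *ᵥ v) u * h2
  have h4 := congrArg ht h3
  rw [ht_add, ht_add, ht_add_inv hg, ht_add_inv (mul_mem hg hg), tr_mul_self h2] at h4
  simp only [ht, one_apply_eq, Matrix.zero_apply] at h4
  linear_combination h4 - (1 + tr g) * h2

end Rep

section A6

open Equiv Equiv.Perm

/-- Generators of `A₆`. -/
def t6' : alternatingGroup (Fin 6) := ⟨swap 0 1 * swap 2 4, mem_alternatingGroup.2 (by decide)⟩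
def s6' : alternatingGroup (Fin 6) := ⟨swap 0 1 * swap 1 2 * swap 2 3 * swap 4 5, mem_alternatingGroup.2 (by decide)⟩

/-- Words for the three-cycles. -/
def words6 : List (List ℕ) :=
  [[1, 2, 3], [2, 3, 1], [3, 1, 2], [1, 1, 2, 3], [1, 2, 3, 1], [1, 2, 3, 3], [1, 3, 2, 2], [2, 1, 3, 2], [2, 2, 1, 3],
   [2, 3, 1, 1], [3, 1, 2, 3], [3, 3, 1, 2], [0, 1, 2, 3, 0], [0, 1, 3, 1, 1], [0, 2, 1, 2, 1], [0, 2, 3, 1, 0],
   [0, 3, 1, 2, 0], [0, 3, 2, 3, 2], [1, 2, 1, 2, 3], [1, 2, 1, 3, 1], [1, 2, 3, 1, 2], [1, 2, 3, 2, 3],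
   [1, 3, 2, 1, 3], [1, 3, 2, 3, 3], [2, 1, 2, 3, 1], [2, 1, 3, 1, 1], [2, 1, 3, 1, 3], [2, 3, 1, 2, 1],
   [2, 3, 1, 2, 3], [2, 3, 2, 3, 1], [3, 1, 2, 3, 2], [3, 2, 3, 2, 0], [0, 1, 2, 1, 3, 1], [0, 2, 1, 2, 3, 1],
   [0, 2, 1, 2, 3, 3], [1, 3, 2, 1, 2, 1], [2, 2, 1, 2, 3, 3], [2, 2, 3, 2, 3, 3], [2, 3, 2, 1, 2, 2],
   [0, 1, 3, 2, 3, 2, 3]]

theorem three6 : ∀ σ : Perm (Fin 6), σ.support.card = 3 →
    ∃ w ∈ words6, σ = (w.map fun k => (s6' : Perm (Fin 6)) ^ k * t6').prod := by decide +kernel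

theorem rel6' : t6' * t6' = 1 ∧ t6' ≠ 1 ∧ s6' * s6' * (s6' * s6') = 1 ∧ s6' * s6' ≠ 1 ∧ (t6' * s6') ^ 5 = 1 ∧
    t6' * s6' ≠ 1 := by decide +kernel

theorem gen6 : Subgroup.closure {t6', s6'} = ⊤ := by
  rw [← (Subgroup.map_injective (alternatingGroup (Fin 6)).subtype_injective).eq_iff, ← MonoidHom.range_eq_map,
    Subgroup.range_subtype]
  refine le_antisymm (Subgroup.map_subtype_le _) (closure_three_cycles_eq_alternating.ge.trans ?_)
  rw [Subgroup.closure_le]
  intro σ hσ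
  obtain ⟨w, -, rfl⟩ := three6 σ hσ.card_support
  refine list_prod_mem fun x hx => ?_
  obtain ⟨k, -, rfl⟩ := List.mem_map.1 hx
  exact mul_mem (pow_mem (Subgroup.mem_map_of_mem _ (x := s6') (Subgroup.subset_closure (.inr rfl))) k)
    (Subgroup.mem_map_of_mem _ (x := t6') (Subgroup.subset_closure (.inl rfl)))

theorem Rep.tr_alt6 {ρ : alternatingGroup (Fin 6) →* GL I4 F} (r : Rep ρ) (x : alternatingGroup (Fin 6)) :
    tr (ρ x) ^ 2 = tr (ρ x) := by
  obtain ⟨r1, r2, r3, r4, r5, r6⟩ := rel6'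
  have ho : orderOf x ∈ [1, 2, 3, 4, 5] := by
    have : orderOf x ∈ Perm.Spec (alternatingGroup (Fin 6)) := ⟨_, rfl⟩
    rwa [Perm.spec_alt6] at this
  by_cases h5 : orderOf x = 5
  · have := Fact.mk Nat.prime_five
    have key : ∀ z : alternatingGroup (Fin 6), orderOf z = 5 → (z : Perm (Fin 6)).cycleType = {5} := fun z hz => by
      rw [← Subgroup.orderOf_coe] at hz
      obtain ⟨n, hn⟩ := cycleType_prime_order (σ := (z : Perm (Fin 6))) (hz ▸ Nat.prime_five)
      have := (z : Perm (Fin 6)).sum_cycleType_le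
      rw [hn, hz, Multiset.sum_replicate, smul_eq_mul, Fintype.card_fin] at this
      obtain rfl : n = 0 := by omega
      rw [hn, hz]; rfl
    obtain ⟨k, hk⟩ := isConj_iff.mp (isConj_iff_cycleType_eq.mpr ((key _ (orderOf_eq_prime r5 r6)).trans (key _ h5).symm))
    obtain rfl : MulAut.conjNormal k (t6' * s6') = x := Subtype.ext hk
    have r' := r.comp (MulAut.conjNormal k)
    exact tr_five r.two (r'.sp _) (by rw [← map_pow, ← map_pow, r5, map_one, map_one]) fun u v => r'.fpf r1 r2 r3 r4 gen6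
  by_cases h3 : orderOf x = 3
  · rw [← tr_mul_self r.two, ← tr_inv_sp (r.sp x), ← map_mul, ← map_inv,
      eq_inv_of_mul_eq_one_left (show x * x * x = 1 by rw [← pow_three', ← h3, pow_orderOf_eq_one])]
  have h4 : x * x * (x * x) = 1 := by
    rw [← sq, ← sq, ← pow_mul, ← orderOf_dvd_iff_pow_eq_one]
    simp only [List.mem_cons, List.not_mem_nil, or_false] at ho
    rcases ho with e | e | e | e | e <;> first | exact absurd e h3 | exact absurd e h5 | simp [e]
  have h0 := tr_one_two r.two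
  rw [← map_one ρ, ← h4, map_mul, tr_mul_self r.two, map_mul, tr_mul_self r.two] at h0
  simp [show tr (ρ x) = 0 by simpa using h0]

end A6

/-- An element conjugating `g32` to its square. -/
def h32' : SpecialLinearGroup (Fin 3) (ZMod 2) := ⟨!![1, 0, 0; 0, 0, 1; 0, 1, 1], by decide⟩

theorem h32_g32 : h32' * g32 * h32'⁻¹ = g32 ^ 2 := by decide

end CL.Low.Cit4

namespace CL.Low

open Matrix Cfsg Cfsg.Geo CL.Asch CL.SLn Module Cit4
open scoped MatrixGroups

universe u

theorem citSp4 : CitSp4.{u} := by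
  intro F _ _ P h2 h4 hs hP hc hspan htr hQ hinv
  have r : Rep P.subtype := ⟨h2, P.subtype_injective, fun g => hs g.2, by rwa [Subgroup.range_subtype], fun g h1 hg => by
    have := Fact.mk Nat.prime_two
    obtain ⟨a, b⟩ := hinv g g.2 ((Subgroup.orderOf_coe g).trans (orderOf_eq_prime ((sq g).trans hg) h1))
    exact exists_c2 h2 (hs g.2) (congrArg Subtype.val hg) a b⟩
  have hF : CharP F 2 := CharTwo.of_one_ne_zero_of_two_eq_zero one_ne_zero h2
  have hC : CL.Cit.IsCIT P := fun t ht g => by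
    obtain ⟨e, c⟩ := r.c2 t (fun e => by simp [e] at ht) ((sq t).symm.trans (orderOf_dvd_iff_pow_eq_one.1 ht.dvd))
    exact ⟨2, Subtype.ext (Subtype.ext (c.pow_four (r.sp g)
      (congrArg Subtype.val (Subgroup.mem_centralizer_singleton_iff.1 g.2))))⟩
  rcases CL.Cit.cit_simple CL.Cit.citThm hc hC with ⟨K, _, _, n, -, hK, ⟨e⟩⟩ | ⟨K, _, _, m, hm, hK, ⟨e⟩⟩ |
    ⟨K, _, _, h7, hK, ⟨e⟩⟩ | ⟨K, _, _, hK, ⟨e⟩⟩
  · have hK2 := CL.Chev.Sz.two_eq_zero_of_card hK
    have hb : Subgroup.center SL(2, K) = ⊥ := eq_bot_iff.2 fun z hz => by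
      obtain ⟨a, ha, hz⟩ := Matrix.SpecialLinearGroup.mem_center_iff.1 hz
      rw [Fintype.card_fin] at ha
      rw [sq_inj_two hK2 (ha.trans (one_pow 2).symm), map_one] at hz
      exact Subtype.ext hz.symm
    let e' : SL(2, K) ≃* P := (QuotientGroup.quotientBot.symm.trans (QuotientGroup.quotientMulEquivOfEq hb.symm)).trans e.symm
    have := l2even hK2 (r.comp e')
    rw [range_comp_equiv, Subgroup.range_subtype] at this
    exact absurd this hQ
  · let M := (CL.Chev.Sz.modelLie hm hK).ofEquiv e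
    have h5 := card_eq_of_sz M r (by rwa [Subgroup.range_subtype])
    have h6 : Fintype.card F = 2 ^ (2 * m + 1) := by rw [← Nat.card_eq_fintype_card, ← h5, Nat.card_eq_fintype_card, hK]
    exact ⟨m, hm, h6, M.nonempty_equiv (CL.Chev.Sz.modelLie hm h6) h5.symm⟩
  · exfalso
    have r' := r.comp e.symm
    have hne : ((upA 1 : SL(2, K)) : PSL(2, K)) ≠ 1 := fun e0 => upA_one_not_mem ((QuotientGroup.eq_one_iff _).1 e0)
    have hodd : Fintype.card K % 2 = 1 := by
      rcases hK with hK | ⟨hK, -⟩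
      · rw [hK]
      · exact hK.eq_two_or_odd.resolve_left (by omega)
    have h8 := sl2_cross (K := K) (F := F) (fun e0 => by
      have := FiniteField.even_card_of_char_two (e0.symm.trans (ringChar.eq F 2)); omega)
      ((SLn.glReindex finSumFinEquiv).toMonoidHom.comp ((P.subtype.comp e.symm.toMonoidHom).comp (QuotientGroup.mk' _)))
      fun e0 => hne (r'.inj (((SLn.glReindex finSumFinEquiv).map_eq_one_iff.1 e0).trans (map_one _).symm))
    rw [Nat.card_eq_fintype_card] at h8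
    by_cases h9 : Fintype.card K = 9
    · obtain ⟨e'⟩ := Cfsg.Agent.S0254.result h9
      have h3 := htr (fixSub (frobenius F 2)) fun l hl => by
        have := (r'.comp e'.symm).tr_alt6 (e' (e ⟨l, hl⟩))
        simpa [mem_fixSub, frobenius_def] using this
      have := card_le_of_pow (F := F) one_lt_two fun x => mem_fixSub.1 (h3 ▸ Subfield.mem_top x)
      omega
    have h0 : ((7 : ℕ) : K) = 0 := by rw [← show Fintype.card K = 7 by omega]; exact FiniteField.cast_card_eq_zero K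
    push_cast at h0
    obtain ⟨g, hg⟩ := exists_torus (Units.mk0 (3 : K) fun e0 => one_ne_zero (α := K) (by linear_combination h0 - 2 * e0))
    have hp : ∀ n : ℕ, upA (1 : K) ^ n = upA (n : K) := fun n => by
      induction n with
      | zero => exact Subtype.ext (by simp [coe_upA, one_fin_two])
      | succ n ih => rw [pow_succ, ih, Nat.cast_succ, upA_add]
    refine hne (r'.not_seven (y := ((g⁻¹ : SL(2, K)) : PSL(2, K))) ?_ ?_)
    · rw [← QuotientGroup.mk_pow, hp, show ((7 : ℕ) : K) = (0 : ℕ) by push_cast; exact h0, ← hp, pow_zero,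
        QuotientGroup.mk_one]
    · rw [← QuotientGroup.mk_pow, ← QuotientGroup.mk_inv, ← QuotientGroup.mk_mul, ← QuotientGroup.mk_mul, inv_inv,
        mul_assoc, hg, inv_mul_cancel_left, hp]
      congr 2
      rw [Units.val_mk0]
      push_cast
      linear_combination h0
  · exfalso
    have : CharP K 2 := CharTwo.of_one_ne_zero_of_two_eq_zero one_ne_zero (CL.Chev.Sz.two_eq_zero_of_card (n := 2) hK)
    let φ := (QuotientGroup.mk' (Subgroup.center SL(3, K))).comp
      (Matrix.SpecialLinearGroup.map (n := Fin 3) (ZMod.castHom (dvd_refl 2) K))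
    have h1 := (r.comp e.symm).not_seven (x := φ g32) (y := φ h32') (by rw [← map_pow, g32_pow, map_one])
      (by rw [← map_inv, ← map_mul, ← map_mul, h32_g32, map_pow])
    obtain ⟨a, -, ha⟩ := Matrix.SpecialLinearGroup.mem_center_iff.1 ((QuotientGroup.eq_one_iff _).1 h1)
    have : _ = ZMod.castHom (dvd_refl 2) K 1 := congrFun (congrFun ha 0) 2
    simp at this

end CL.Low
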