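/-
The minimal index of a proper subgroup of `SU₃(q)` from the list of the maximal subgroups.
-/
import Cfsg.Agent.Low.Res3
import Cfsg.Agent.Low.DataL
import Cfsg.Agent.Low.DataB
import Cfsg.Agent.Low.T3B2
import Cfsg.Agent.S5778
import Cfsg.Agent.Known.MinDegU6
import Cfsg.Agent.Char.Prod
import Cfsg.Agent.Char.Constituent
import Cfsg.Agent.Cls.QuadClass
import Cfsg.Agent.Grp.PGroupFrattini

set_option autoImplicit false
set_option linter.unusedSectionVars false

namespace CL.Low.MinU3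

open Matrix Cfsg Cfsg.Geo CL.Asch CL.Uni CL.MinU Module MulAction
open scoped Pointwise

universe u

section General

/-- An intransitive subgroup of a doubly transitive group has index at least the degree. -/
theorem card_le_index_of_not_trans {G Ω : Type*} [Group G] [Finite G] [MulAction G Ω] [Finite Ω] [Nontrivial Ω]
    (h2 : IsMultiplyPretransitive G Ω 2) (H : Subgroup G) (hnt : ¬ IsPretransitive H Ω) : Nat.card Ω ≤ H.index := by
  classical
  have := Fintype.ofFinite G
  have htr := isPretransitive_of_is_two_pretransitive (G := G) (α := Ω)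
  have hχ := (CL.Char.isIrrCharacter_card_fixedBy_sub_one_iff (G := G) Ω).mpr h2
  have hθ := CL.Char.isCharacter_card_fixedBy_sub_one (G := G) (G ⧸ H)
  have horb : Nat.card (orbitRel.Quotient G ((G ⧸ H) × Ω)) = Nat.card (orbitRel.Quotient H Ω) := by
    symm
    refine Nat.card_congr (Equiv.ofBijective (Quotient.map (fun ω => (((1 : G) : G ⧸ H), ω)) ?_) ⟨?_, ?_⟩)
    · rintro a b ⟨h, rfl⟩
      refine ⟨h, Prod.ext ?_ rfl⟩
      change (((h : G) * 1 : G) : G ⧸ H) = (1 : G)
      rw [QuotientGroup.eq]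
      simp
    · intro a b
      induction a using Quotient.inductionOn with | h a => ?_
      induction b using Quotient.inductionOn with | h b => ?_
      intro e
      obtain ⟨g, hg⟩ := Quotient.exact e
      have e1 : ((g * 1 : G) : G ⧸ H) = (1 : G) := congrArg Prod.fst hg
      rw [QuotientGroup.eq] at e1
      exact Quotient.sound ⟨⟨g, by simpa using e1⟩, congrArg Prod.snd hg⟩
    · intro x
      induction x using Quotient.inductionOn with | h x => ?_
      obtain ⟨x, ω⟩ := x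
      induction x using QuotientGroup.induction_on with | H g => ?_
      refine ⟨Quotient.mk _ (g⁻¹ • ω), Quotient.sound ⟨g⁻¹, Prod.ext ?_ rfl⟩⟩
      change ((g⁻¹ * g : G) : G ⧸ H) = (1 : G)
      rw [inv_mul_cancel]
  have ht : 1 < Nat.card (orbitRel.Quotient H Ω) := by
    rw [Finite.one_lt_card_iff_nontrivial, ← not_subsingleton_iff_nontrivial,
      ← pretransitive_iff_subsingleton_quotient]
    exact hnt
  have hinner : classInner (fun g : G => (Nat.card (fixedBy (G ⧸ H) g) : ℂ) - 1)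
      (fun g : G => (Nat.card (fixedBy Ω g) : ℂ) - 1) = ((Nat.card (orbitRel.Quotient H Ω) - 1 : ℕ) : ℂ) := by
    have e1 := CL.Char.classInner_card_fixedBy (G := G) (G ⧸ H) Ω
    have e2 := CL.Char.classInner_card_fixedBy_one (G := G) (G ⧸ H)
    have e3 := CL.Char.classInner_card_fixedBy_one (G := G) Ω
    rw [CL.Char.card_orbits_of_isPretransitive] at e2 e3
    have e4 : classInner (fun _ : G => (1 : ℂ)) (fun g : G => (Nat.card (fixedBy Ω g) : ℂ)) = 1 := by
      rw [← CL.Char.conj_classInner, e3]; simp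
    have e5 := (CL.Char.isIrrCharacter_one (G := G)).classInner_self
    have e6 : ∀ f : G → ℂ, (fun g => f g - 1) = f - fun _ => 1 := fun f => rfl
    rw [e6, e6, CL.Char.classInner_sub_left, CL.Char.classInner_sub_right, CL.Char.classInner_sub_right,
      e1, e2, e4, e5, horb, Nat.cast_sub ht.le]
    simp
  have h1 : 1 < Nat.card Ω := Finite.one_lt_card
  have h0 : 1 ≤ H.index := Nat.one_le_iff_ne_zero.2 Subgroup.index_ne_zero_of_finite
  have := CL.Char.mul_degree_le_of_classInner hθ hχ hinner (a := H.index - 1) (d := Nat.card Ω - 1)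
    (by rw [fixedBy_one_eq_univ, Nat.card_univ, Nat.cast_sub h0, Nat.cast_one, Subgroup.index_eq_card])
    (by rw [fixedBy_one_eq_univ, Nat.card_univ, Nat.cast_sub h1.le]; simp)
  have h3 := Nat.mul_le_mul_right (Nat.card Ω - 1) (show 1 ≤ Nat.card (orbitRel.Quotient H Ω) - 1 by omega)
  omega

theorem card_le_mul_of_fiber {H X : Type*} [Group H] [Finite X] (Z : Subgroup H) (φ : H → X)
    (h : ∀ a b, φ a = φ b → a⁻¹ * b ∈ Z) : Nat.card H ≤ Nat.card X * Nat.card Z := by
  rw [Subgroup.card_eq_card_quotient_mul_card_subgroup Z]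
  refine Nat.mul_le_mul_right _ (Nat.card_le_card_of_injective (fun x : H ⧸ Z => φ x.out) fun x y e => ?_)
  rw [← x.out_eq', ← y.out_eq']
  exact QuotientGroup.eq.2 (h _ _ e)

end General

section Points

variable {F V : Type*} [Field F] {q : ℕ} {σ : F →+* F} [AddCommGroup V] [Module F V] [FiniteDimensional F V]
  {B : V →ₛₗ[σ] V →ₗ[F] F}

theorem index_iso3 (h : IsHerm B q) (h3 : finrank F V = 3) {v : V} (hv : v ≠ 0) (hvv : B v v = 0) :
    (stabilizer (SUG B) (Submodule.span F {v})).index = q ^ 3 + 1 := by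
  have k := index_iso h h3.ge hv hvv
  have h2 := h.bar.two_le
  rw [h3, isoCount, if_neg (by decide), mul_comm] at k
  exact Nat.eq_of_mul_eq_mul_right (by have := Nat.pow_le_pow_left h2 2; omega) k

theorem index_noniso3 (h : IsHerm B q) (h3 : finrank F V = 3) {v : V} (hvv : B v v ≠ 0) :
    q ^ 3 + 1 ≤ (stabilizer (SUG B) (Submodule.span F {v})).index := by
  have k := index_noniso h h3.ge hvv
  have h2 := h.bar.two_le
  rw [h3, normCount, if_neg (by decide)] at k
  by_contra hc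
  have := Nat.mul_le_mul_left (q + 1) (not_le.1 hc).le
  rw [k, mul_comm (q + 1)] at this
  have h4 : q ^ 2 ≤ q + 1 := Nat.le_of_mul_le_mul_left (by rwa [mul_comm] at this) (Nat.succ_pos _)
  nlinarith

theorem le_index_of_stab (h : IsHerm B q) (h3 : finrank F V = 3) {K : Subgroup (SUG B)} {v : V} (hv : v ≠ 0)
    (hK : ∀ g ∈ K, g.1 v ∈ Submodule.span F {v}) : q ^ 3 + 1 ≤ K.index := by
  have := finite_SUG h
  have hle : K ≤ stabilizer (SUG B) (Submodule.span F {v}) := fun g hg => by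
    obtain ⟨a, ha⟩ := Submodule.mem_span_singleton.1 (hK g hg)
    rw [mem_stabilizer_iff, smul_span_singleton, ← ha]
    refine Submodule.span_singleton_smul_eq (Ne.isUnit fun h0 => hv ?_) _
    rw [← g.1.map_eq_zero_iff, ← ha, h0, zero_smul]
  refine le_trans ?_ (Nat.le_of_dvd (Nat.pos_of_ne_zero Subgroup.index_ne_zero_of_finite)
    (Subgroup.index_dvd_of_le hle))
  by_cases hvv : B v v = 0
  · exact (index_iso3 h h3 hv hvv).ge
  · exact index_noniso3 h h3 hvv

theorem le_index_of_intrans (h : IsHerm B q) (h3 : finrank F V = 3) {K : Subgroup (SUG B)} {u v : V} (hu0 : u ≠ 0)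
    (hu : B u u = 0) (hv0 : v ≠ 0) (hv : B v v = 0) (hK : ∀ g ∈ K, ∀ a : F, g.1 u ≠ a • v) : q ^ 3 + 1 ≤ K.index := by
  have := finite_SUG h
  have hc : Nat.card (orbit (SUG B) (Submodule.span F {u})) = q ^ 3 + 1 := by
    rw [← index_iso3 h h3 hu0 hu, index_stabilizer]; rfl
  have : Finite (orbit (SUG B) (Submodule.span F {u})) := Nat.finite_of_card_ne_zero (by omega)
  have : Nontrivial (orbit (SUG B) (Submodule.span F {u})) := by
    rw [← Finite.one_lt_card_iff_nontrivial, hc]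
    have := Nat.pow_le_pow_left h.bar.two_le 3
    omega
  have hrep : ∀ a : orbit (SUG B) (Submodule.span F {u}), ∃ x, x ≠ 0 ∧ B x x = 0 ∧ a.1 = Submodule.span F {x} := by
    rintro ⟨_, g, rfl⟩
    exact ⟨g.1 u, g.1.map_ne_zero_iff.2 hu0, by rw [SUG_le_UG g.2, hu], smul_span_singleton g u⟩
  have hne : ∀ {x y : V}, x ≠ 0 → y ≠ 0 → B x x = 0 → B y y = 0 → Submodule.span F {x} ≠ Submodule.span F {y} →
      B x y ≠ 0 := fun hx hy hxx hyy hn => T3B.form_ne_zero h h3 hxx hyy hx fun c e => hn (by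
    rw [e]
    exact (Submodule.span_singleton_smul_eq (Ne.isUnit (by rintro rfl; exact hy (by rw [e, zero_smul]))) _).symm)
  rw [← hc]
  refine card_le_index_of_not_trans (is_two_pretransitive_iff.2 fun {a b c d} hab hcd => ?_) K fun ht => ?_
  · obtain ⟨x, x0, hx, ex⟩ := hrep a
    obtain ⟨y, y0, hy, ey⟩ := hrep b
    obtain ⟨z, z0, hz, ez⟩ := hrep c
    obtain ⟨w, w0, hw, ew⟩ := hrep d
    obtain ⟨g, hg, s, t, hs, ht, e1, e2⟩ := h.exists_mem_SUG_points hx hy
      (hne x0 y0 hx hy fun e => hab (Subtype.ext (by rw [ex, ey, e]))) hz hw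
      (hne z0 w0 hz hw fun e => hcd (Subtype.ext (by rw [ez, ew, e])))
    refine ⟨⟨g, hg⟩, Subtype.ext ?_, Subtype.ext ?_⟩
    · change (⟨g, hg⟩ : SUG B) • a.1 = c.1
      rw [ex, ez, smul_span_singleton, e1, Submodule.span_singleton_smul_eq hs.isUnit]
    · change (⟨g, hg⟩ : SUG B) • b.1 = d.1
      rw [ey, ew, smul_span_singleton, e2, Submodule.span_singleton_smul_eq ht.isUnit]
  · obtain ⟨k, hk⟩ := exists_SUG_app_eq h h3.ge hu0 hv0 (hu.trans hv.symm)
    obtain ⟨g, hg⟩ := ht.exists_smul_eq ⟨_, mem_orbit_self _⟩ ⟨_, mem_orbit _ k⟩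
    have e : g.1 • Submodule.span F {u} = k • Submodule.span F {u} := congrArg Subtype.val hg
    rw [smul_span_singleton, smul_span_singleton, hk] at e
    obtain ⟨a, ha⟩ := Submodule.mem_span_singleton.1 (e ▸ Submodule.mem_span_singleton_self _)
    exact hK g.1 g.2 a ha.symm

theorem le_index_of_cover (h : IsHerm B q) (h3 : finrank F V = 3) {K : Subgroup (SUG B)} {u : V} (hu0 : u ≠ 0)
    (hu : B u u = 0) {X : Type*} [Finite X] (hX : Nat.card X ≤ q ^ 3) (f : X → V)
    (hf : ∀ g ∈ K, ∃ (x : X) (a : F), g.1 u = a • f x) : q ^ 3 + 1 ≤ K.index := by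
  by_contra hc
  have hsub : orbit (SUG B) (Submodule.span F {u}) ⊆ Set.range fun x => Submodule.span F {f x} := by
    rintro _ ⟨k, rfl⟩
    have hv0 : k.1 u ≠ 0 := k.1.map_ne_zero_iff.2 hu0
    have := mt (le_index_of_intrans h h3 (K := K) hu0 hu hv0 (by rw [SUG_le_UG k.2, hu])) hc
    push Not at this
    obtain ⟨g, hg, a, ha⟩ := this
    obtain ⟨x, b, hb⟩ := hf g hg
    have hg0 : g.1 u ≠ 0 := g.1.map_ne_zero_iff.2 hu0
    refine ⟨x, Eq.trans ?_ (smul_span_singleton k u).symm⟩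
    rw [← Submodule.span_singleton_smul_eq (r := a) (Ne.isUnit (by rintro rfl; exact hg0 (by rw [ha, zero_smul]))),
      ← ha, hb, Submodule.span_singleton_smul_eq (Ne.isUnit (by rintro rfl; exact hg0 (by rw [hb, zero_smul])))]
  have k1 := Set.ncard_le_ncard hsub (Set.finite_range _)
  rw [← index_stabilizer, index_iso3 h h3 hu0 hu, ← Set.image_univ] at k1
  have k2 := (Set.ncard_image_le (f := fun x => Submodule.span F {f x}) (s := Set.univ)).trans_eq (Set.ncard_univ X)
  omega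

/-- The stabiliser of an orthogonal frame is not transitive on the isotropic points. -/
theorem le_index_of_frame (h : IsHerm B q) (h3 : finrank F V = 3) (hq : 3 ≤ q) {K : Subgroup (SUG B)} {d : Fin 3 → V}
    (hd : ∀ i j, B (d i) (d j) = if i = j then 1 else 0) (hK : ∀ g ∈ K, ∃ (i : Fin 3) (a : F), g.1 (d 2) = a • d i) :
    q ^ 3 + 1 ≤ K.index := by
  obtain ⟨e, he⟩ := h.bar.exists_norm_eq (a := -1) (by simp)
  obtain ⟨x, hx0, hx⟩ := h.bar.exists_norm_ne_one hq
  obtain ⟨c, hc⟩ := h.bar.exists_norm_eq (a := x * σ x - 1) (by rw [map_sub, h.bar.norm_fixed, map_one])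
  have he0 : e ≠ 0 := by rintro rfl; simp at he
  have hc0 : c ≠ 0 := by rintro rfl; exact hx (by rw [zero_mul] at hc; linear_combination -hc)
  have hv : ∀ i, B (d i) (d 0 + (x * e) • d 1 + c • d 2) ≠ 0 := fun i => by
    fin_cases i <;> simp [hd, hx0, he0, hc0]
  refine le_index_of_intrans h h3 (u := d 0 + e • d 1) (v := d 0 + (x * e) • d 1 + c • d 2)
    (fun e0 => by simpa [hd] using congrArg (B (d 0)) e0) ?_ (fun e0 => hv 0 (by rw [e0, map_zero])) ?_
    fun g hg a ha => ?_
  · simp [hd, LinearMap.map_smulₛₗ]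
    linear_combination he
  · simp [hd, LinearMap.map_smulₛₗ]
    linear_combination hc + x * σ x * he
  · obtain ⟨i, b, hb⟩ := hK g hg
    have k := SUG_le_UG g.2 (d 2) (d 0 + e • d 1)
    rw [ha, hb] at k
    have k2 : B (d 2) (d 0 + e • d 1) = 0 := by simp [hd]
    rw [k2, LinearMap.map_smulₛₗ, LinearMap.map_smulₛₗ, LinearMap.smul_apply, smul_eq_mul, smul_eq_mul, mul_eq_zero,
      mul_eq_zero, map_eq_zero, map_eq_zero] at k
    rcases k with rfl | rfl | k
    · rw [zero_smul, LinearEquiv.map_eq_zero_iff] at ha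
      simpa [hd] using congrArg (B (d 0)) ha
    · rw [zero_smul, LinearEquiv.map_eq_zero_iff] at hb
      simpa [hb] using hd 2 2
    · exact hv i k

end Points

section Classes

variable {F : Type u} [Field F] [Finite F] {H P : Subgroup (GL (Fin 3) F)}

theorem card_scalars_dvd (hH : H ≤ specialLinear (Fin 3) F) : Nat.card ((scalars (Fin 3) F).subgroupOf H) ∣ 3 := by
  have := isCyclic_scalars (ι := Fin 3) (F := F)
  have : IsCyclic ((scalars (Fin 3) F).subgroupOf H) :=
    isCyclic_of_injective ((H.subtype.comp (Subgroup.subtype _)).codRestrict (scalars (Fin 3) F) fun x => x.2)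
      fun x y e => Subtype.ext (Subtype.ext (congrArg (fun z : scalars (Fin 3) F => z.1) e))
  rw [← IsCyclic.exponent_eq_card]
  exact Monoid.exponent_dvd_of_forall_pow_eq_one fun z =>
    Subtype.ext (Subtype.ext (pow_card_eq_one_of_scalar z.2 (hH z.1.2)))

theorem card_le_of_le_sup (hP : H ≤ P ⊔ scalars (Fin 3) F) :
    Nat.card H ≤ Nat.card (PQ P) * Nat.card ((scalars (Fin 3) F).subgroupOf H) := by
  choose p hp c hc using fun h : H => mem_sup_scalars.1 (hP h.2)
  refine card_le_mul_of_fiber _ (fun h => ((⟨p h, hp h⟩ : P) : PQ P)) fun a b e => ?_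
  have k : (p a)⁻¹ * p b ∈ scalars (Fin 3) F := (QuotientGroup.eq (s := (scalars (Fin 3) F).subgroupOf P)).1 e
  rw [Subgroup.mem_subgroupOf, Subgroup.coe_mul, Subgroup.coe_inv, hc a, hc b, _root_.mul_inv_rev, mul_assoc,
    ← mul_assoc (p a)⁻¹]
  exact mul_mem (inv_mem (scal_mem _)) (mul_mem k (scal_mem _))

theorem card_le_three_mul (hH : H ≤ specialLinear (Fin 3) F) (hP : H ≤ P ⊔ scalars (Fin 3) F) :
    Nat.card H ≤ Nat.card (PQ P) * 3 :=
  (card_le_of_le_sup hP).trans (Nat.mul_le_mul_left _ (Nat.le_of_dvd (by norm_num) (card_scalars_dvd hH)))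

/-- The normaliser of an extraspecial group of order `27`. -/
theorem card_le_of_heis {R : Subgroup (GL (Fin 3) F)} (hR : IsHeis R) (h27 : Nat.card R = 27)
    (hH : H ≤ specialLinear (Fin 3) F) (hN : H ≤ subgroupNormalizer R) : Nat.card H ≤ 27 * 27 * 3 := by
  obtain ⟨x, hx, y, hy, u, hu, e⟩ := hR.exists_not_comm (by simp)
  have hle : Subgroup.closure {x, y} ≤ R := (Subgroup.closure_le _).2 (by rintro _ (rfl | rfl) <;> assumption)
  have hgen : Subgroup.closure {x, y} = R := by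
    have hd := Subgroup.card_dvd_of_le hle
    rw [h27, show 27 = 3 ^ 3 by norm_num] at hd
    obtain ⟨k, hk, hk'⟩ := (Nat.dvd_prime_pow Nat.prime_three).1 hd
    by_cases h3 : k = 3
    · exact Subgroup.eq_of_le_of_card_ge hle (by rw [h27, hk', h3]; norm_num)
    · have := Fact.mk Nat.prime_three
      have := CL.Grp.isMulCommutative_of_card_dvd_prime_sq (G := Subgroup.closure {x, y}) (p := 3)
        (hk' ▸ pow_dvd_pow 3 (by omega))
      have k := congrArg Subtype.val (this.is_comm.comm (⟨y, Subgroup.subset_closure (by simp)⟩ : Subgroup.closure {x, y})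
        ⟨x, Subgroup.subset_closure (by simp)⟩)
      change y * x = x * y at k
      rw [k, left_eq_mul] at e
      exact absurd (scal_injective (e.trans (map_one _).symm)) hu
  have hn : ∀ h : H, ∀ z ∈ R, h.1 * z * h.1⁻¹ ∈ R := fun h z hz => (Subgroup.mem_normalizer_iff.1 (hN h.2) z).1 hz
  have := card_le_mul_of_fiber ((scalars (Fin 3) F).subgroupOf H)
    (fun h => ((⟨_, hn h x hx⟩, ⟨_, hn h y hy⟩) : R × R)) fun a b e => by
      have e1 : a.1 * x * a.1⁻¹ = b.1 * x * b.1⁻¹ := congrArg (fun p : R × R => p.1.1) e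
      have e2 : a.1 * y * a.1⁻¹ = b.1 * y * b.1⁻¹ := congrArg (fun p : R × R => p.2.1) e
      refine mem_scalars_of_comm_span hR.span fun l hl => ?_
      rw [← hgen] at hl
      refine (Subgroup.closure_le (Subgroup.centralizer {a.1⁻¹ * b.1})).2 ?_ hl _ rfl |>.symm
      have key : ∀ z : GL (Fin 3) F, a.1 * z * a.1⁻¹ = b.1 * z * b.1⁻¹ → a.1⁻¹ * b.1 * z = z * (a.1⁻¹ * b.1) :=
        fun z ez => calc a.1⁻¹ * b.1 * z = a.1⁻¹ * (b.1 * z * b.1⁻¹) * b.1 := by group
          _ = _ := by rw [← ez]; group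
      rintro _ (rfl | rfl) _ rfl
      · exact key _ e1
      · exact key _ e2
  rw [Nat.card_prod, h27] at this
  exact this.trans (Nat.mul_le_mul_left _ (Nat.le_of_dvd (by norm_num) (card_scalars_dvd hH)))

/-- A rational structure carrying a hermitian form has an isotropic vector. -/
theorem exists_rat_isotropic {q : ℕ} {σ : F →+* F} (h : IsBar σ q) {F₀ : Subfield F} {c : GL (Fin 3) F}
    (hc : IsFormRationalStructure (hermForm 3 F q) F₀ 1 c) :
    ∃ x : Fin 3 → F₀, x ≠ 0 ∧ stdB σ (Fin 3) (c • (F₀.subtype ∘ x)) (c • (F₀.subtype ∘ x)) = 0 := by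
  let B := stdB σ (Fin 3)
  have hB := isHerm_stdB h (Fin 3)
  let e : Fin 3 → Fin 3 → F := fun i => c • (Pi.single i 1 : Fin 3 → F)
  have hm : ∀ i j, B (e i) (e j) ∈ F₀ := fun i j => by
    have hs : ∀ i k : Fin 3, (Pi.single i 1 : Fin 3 → F) k ∈ F₀ := fun i k => by
      by_cases hk : k = i <;> simp [hk]
    have := hc _ _ (hs j) (hs i)
    rwa [one_mul, hermForm_eq h] at this
  let K : Subfield F := F₀ ⊓ IsBar.fixedField σ
  let a : Fin 3 → K := fun i => ⟨B (e i) (e i), hm i i, hB.self_fixed _⟩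
  let b : Fin 3 → Fin 3 → K := fun i j => ⟨B (e i) (e j) + B (e j) (e i), add_mem (hm i j) (hm j i), by
    change σ _ = _
    rw [map_add, hB.symm, hB.symm, add_comm]
    rfl⟩
  obtain ⟨x, y, z, h0, k⟩ := CL.Cls.exists_zero_ternary (a 0) (a 1) (a 2) (b 0 1) (b 0 2) (b 1 2)
  refine ⟨![⟨x, x.2.1⟩, ⟨y, y.2.1⟩, ⟨z, z.2.1⟩], fun e0 => ?_, ?_⟩
  · rcases h0 with h0 | h0 | h0
    · exact h0 (Subtype.ext (congrArg (fun t : F₀ => t.1) (congrFun e0 0)))
    · exact h0 (Subtype.ext (congrArg (fun t : F₀ => t.1) (congrFun e0 1)))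
    · exact h0 (Subtype.ext (congrArg (fun t : F₀ => t.1) (congrFun e0 2)))
  · have e1 : c • (F₀.subtype ∘ ![⟨x, x.2.1⟩, ⟨y, y.2.1⟩, ⟨z, z.2.1⟩]) = x.1 • e 0 + y.1 • e 1 + z.1 • e 2 := by
      simp only [e, ← smul_comm c, ← smul_add]
      congr 1
      funext i
      fin_cases i <;> simp
    have k' := congrArg Subtype.val k
    have hx : σ x = x := x.2.2
    have hy : σ y = y := y.2.2
    have hz : σ z = z := z.2.2
    rw [e1]
    simp only [map_add, LinearMap.add_apply, LinearMap.map_smulₛₗ, LinearMap.smul_apply, smul_eq_mul, hx, hy, hz,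
      RingHom.id_apply]
    simp only [a, b, B] at k'
    push_cast at k'
    linear_combination k'

theorem card_residual (hD : D3.{u}) [Fintype F] {q : ℕ} (hF : Fintype.card F = q ^ 2) (hq : 3 ≤ q)
    (hH : IsMaximalIn (SUm 3 F q) H) (hS : InUnitaryResidualClass H) :
    Nat.card H ≤ q ^ 3 * (q ^ 2 - 1) ∨ (q = 5 ∧ Nat.card H ≤ 7560) := by
  obtain ⟨P, hc, hp, h⟩ := s5779_of hD l27Data a6Data a7Data q hF hq hH hS
  have hQ := QS.of_core hc
  have hSL : H ≤ specialLinear (Fin 3) F := hH.1.le.trans inf_le_right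
  have hq0 := (isBar_bar hF).cast_q
  have hne : ∀ r : ℕ, r.Prime → q ≠ r → (r : F) ≠ 0 := fun r hr hn h0 => by
    have := (Nat.isCoprime_iff_coprime.2 ((Nat.coprime_primes hp hr).2 hn)).map (Int.castRingHom F)
    simp [hq0, h0] at this
  have big : 11 ≤ q → 2000 ≤ q ^ 3 * (q ^ 2 - 1) := fun h11 => by
    have h1 := Nat.pow_le_pow_left h11 3
    have h2 := Nat.pow_le_pow_left h11 2
    exact le_trans (by norm_num) (Nat.mul_le_mul h1 (Nat.sub_le_sub_right h2 1))
  have hsn : SelfNorm P → H ≤ P ⊔ scalars (Fin 3) F := fun hn g hg => hn g (hc.normal g hg)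
  rcases h with ⟨⟨e⟩, h5, h7⟩ | ⟨⟨e⟩, h6⟩ | ⟨⟨e⟩, rfl⟩
  · have hn := hsn (l27Data F P hQ (by exact_mod_cast hne 7 (by norm_num) (by omega)) ⟨e⟩).2.1
    have hc : Nat.card (PQ P) = 168 := (Nat.card_congr e.toEquiv).trans card_L32
    left
    by_cases h3 : q = 3
    · subst h3
      have k := card_le_of_le_sup hn
      rw [hc, (coprime_card_scalars_char H Nat.prime_three hq0).eq_one_of_dvd (card_scalars_dvd hSL)] at k
      omega
    · have k := card_le_three_mul hSL hn
      have : 11 ≤ q := by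
        by_contra h11
        obtain rfl | rfl : q = 6 ∨ q = 10 := by omega
        all_goals norm_num at hp
      have := big this
      omega
  · have hd := a6Data F P hQ (by exact_mod_cast hne 3 (by norm_num) (by omega)) ⟨e⟩
    have hc' : Nat.card (PQ P) = 360 := by
      rw [Nat.card_congr e.toEquiv, nat_card_alternatingGroup]; simp [Nat.factorial]
    by_cases h5 : q = 5
    · refine Or.inr ⟨h5, ?_⟩
      classical
      have k := card_le_mul_of_fiber ((P ⊔ scalars (Fin 3) F).subgroupOf H)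
        (fun h => decide (h.1 ∈ P ⊔ scalars (Fin 3) F)) fun a b e => by
          rw [decide_eq_decide] at e
          rcases hd.2.2 a⁻¹.1 b.1 (hc.normal _ a⁻¹.2) (hc.normal _ b.2) with k | k | k
          · exact mul_mem k (e.1 (inv_mem_iff.1 k))
          · exact mul_mem (inv_mem (e.2 k)) k
          · exact k
      have k2 := card_le_three_mul (H := (P ⊔ scalars (Fin 3) F) ⊓ H) (inf_le_right.trans hSL) inf_le_left
      rw [← Subgroup.inf_subgroupOf_right, Nat.card_congr (Subgroup.subgroupOfEquivOfLe inf_le_right).toEquiv] at k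
      simp only [Nat.card_eq_fintype_card, Fintype.card_bool] at k
      simp only [Nat.card_eq_fintype_card] at k2 hc' ⊢
      omega
    · have k := card_le_three_mul hSL (hsn (hd.2.1 (by exact_mod_cast hne 5 (by norm_num) h5)))
      have := big (by omega)
      left; omega
  · have k := card_le_three_mul hSL (hsn (a7Data F P hQ (by exact_mod_cast hq0) ⟨e⟩).2.1)
    have hc' : Nat.card (PQ P) = 2520 := by
      rw [Nat.card_congr e.toEquiv, nat_card_alternatingGroup]; simp [Nat.factorial]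
    exact Or.inr ⟨rfl, by omega⟩

end Classes

section Main

variable {F : Type u} [Field F] [Fintype F] {q : ℕ}

theorem card_SUG3 (hF : Fintype.card F = q ^ 2) :
    Nat.card (SUG (stdB (bar hF) (Fin 3))) = q ^ 3 * (q ^ 2 - 1) * (q ^ 3 + 1) := by
  have k := (isHerm_stdB (isBar_bar hF) (Fin 3)).card_SUG
  rw [finrank_fin_fun, guOrder] at k
  simp only [Finset.prod_range_succ, Finset.prod_range_zero] at k
  norm_num at k
  refine Nat.eq_of_mul_eq_mul_left (Nat.succ_pos q) (k.trans ?_)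
  rw [Nat.succ_eq_add_one]
  ring

/-- Every proper subgroup of `SU₃(q)` has index at least `q³ + 1`, or `q = 5` and its order is at most `7560`. -/
theorem su3_cases (hD : D3.{u}) (hF : Fintype.card F = q ^ 2) (hq : 3 ≤ q) (K : Subgroup (SUG (stdB (bar hF) (Fin 3))))
    (hK : K ≠ ⊤) : q ^ 3 + 1 ≤ K.index ∨ (q = 5 ∧ Nat.card K ≤ 7560) := by
  have hb := isBar_bar hF
  have hB := isHerm_stdB hb (Fin 3)
  have h3 : finrank F (Fin 3 → F) = 3 := finrank_fin_fun F
  let H₀ : Subgroup (GL (Fin 3) F) := (K.map (SUG _).subtype).comap (glEquiv (Fin 3) F).toMonoidHom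
  have h0 : H₀ < SUm 3 F q := by
    refine lt_of_le_of_ne (fun A ⟨g, _, e⟩ => (glEquiv_mem_SUG hb A).1 (e ▸ g.2)) fun e => hK ?_
    rw [eq_top_iff]
    intro g _
    have : (glEquiv (Fin 3) F).symm g.1 ∈ H₀ := e ▸ (glEquiv_mem_SUG hb _).1 (by simp)
    obtain ⟨g', hg', e'⟩ := this
    rwa [show g = g' from Subtype.ext (e'.trans (by simp)).symm]
  obtain ⟨H, hle, hmax⟩ := Finite.exists_le_maximal (p := (· < SUm 3 F q)) h0
  have hH : IsMaximalIn (SUm 3 F q) H := ⟨hmax.1, fun M h1 h2 =>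
    h2.lt_or_eq.imp_left fun h => (hmax.eq_of_le h h1).symm⟩
  have hrep : ∀ g ∈ K, ∃ A ∈ H, ∀ x, g.1 x = A • x := fun g hg =>
    ⟨(glEquiv (Fin 3) F).symm g.1, hle ⟨g, hg, by simp⟩, fun x => by
      change _ = ((glEquiv (Fin 3) F).symm g.1).val *ᵥ x
      rw [← glEquiv_apply, MulEquiv.apply_symm_apply]⟩
  have hcard : Nat.card K ≤ Nat.card H := Nat.card_le_card_of_injective
    (fun g : K => (⟨(glEquiv (Fin 3) F).symm g.1.1, hle ⟨g.1, g.2, by simp⟩⟩ : H)) fun a b e =>
      Subtype.ext (Subtype.ext ((glEquiv (Fin 3) F).symm.injective (congrArg Subtype.val e)))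
  have hq2 : 0 < q ^ 2 - 1 := by have := Nat.pow_le_pow_left hq 2; omega
  have hidx : Nat.card H ≤ q ^ 3 * (q ^ 2 - 1) → q ^ 3 + 1 ≤ K.index := fun h => by
    have k := K.card_mul_index
    rw [card_SUG3] at k
    exact Nat.le_of_mul_le_mul_left (k.ge.trans (Nat.mul_le_mul_right _ (hcard.trans h))) (by positivity)
  have hSL : H ≤ specialLinear (Fin 3) F := hH.1.le.trans inf_le_right
  have hpt : ∀ W : Submodule F (Fin 3 → F), finrank F W = 1 → H ≤ subspaceStabilizer W → q ^ 3 + 1 ≤ K.index :=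
    fun W h1 h2 => by
      obtain ⟨v, hv0, hv⟩ := finrank_eq_one_iff'.1 h1
      have e : W = Submodule.span F {v.1} := le_antisymm (fun w hw => by
        obtain ⟨c, hc⟩ := hv ⟨w, hw⟩
        exact Submodule.mem_span_singleton.2 ⟨c, congrArg Subtype.val hc⟩) (by simp)
      refine le_index_of_stab hB h3 (v := v.1) (fun e => hv0 (Subtype.ext e)) fun g hg => ?_
      obtain ⟨A, hA, eA⟩ := hrep g hg
      rw [eA, ← e]
      exact (h2 hA _).1 v.2
  have hsub : ∀ (F₀ : Subfield F) (r : ℕ) (c : GL (Fin 3) F), 2 ≤ r → Fintype.card F = Nat.card F₀ ^ r →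
      IsFormRationalStructure (hermForm 3 F q) F₀ 1 c → H ≤ subfieldSubgroup F₀ c → q ^ 3 + 1 ≤ K.index :=
    fun F₀ r c hr hc hf hs => by
      obtain ⟨x, hx0, hx⟩ := exists_rat_isotropic hb hf
      have hle : Nat.card F₀ ≤ q := by
        rw [← Nat.pow_le_pow_iff_left two_ne_zero, ← hF, hc]
        exact Nat.pow_le_pow_right Nat.card_pos hr
      refine le_index_of_cover hB h3 (fun e => hx0 ?_) hx (X := Fin 3 → F₀)
        (by rw [Nat.card_fun, Nat.card_fin]; exact Nat.pow_le_pow_left hle 3) (fun y => c • (F₀.subtype ∘ y))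
        fun g hg => ?_
      · have : F₀.subtype ∘ x = 0 := by rw [← inv_smul_smul c (F₀.subtype ∘ x), e, smul_zero]
        exact funext fun i => Subtype.ext (congrFun this i)
      · obtain ⟨A, hA, eA⟩ := hrep g hg
        obtain ⟨a, s, rfl⟩ := Asch.mem_subfieldSubgroup.1 (hs hA)
        refine ⟨(a : Matrix (Fin 3) (Fin 3) F₀) *ᵥ x, s, ?_⟩
        have e1 : ∀ y : Fin 3 → F, scal (Fin 3) s • y = (s : F) • y := fun y => by
          change (scal (Fin 3) s).val *ᵥ y = _
          rw [coe_scal, smul_mulVec, one_mulVec]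
        rw [eA, mul_smul, e1, smul_comm]
        congr 1
        change (c * GeneralLinearGroup.map F₀.subtype a * c⁻¹) • c • (F₀.subtype ∘ x) = _
        rw [mul_smul, mul_smul, inv_smul_smul]
        exact congrArg (c • ·) (funext fun i => (RingHom.map_mulVec F₀.subtype _ x i).symm)
  rcases Cfsg.Agent.S5778.result q hF hq H hH with ⟨W, hW0, hW, e⟩ | ⟨W, hW0, -, hW, e⟩ | ⟨-, D, hD', e⟩ |
    ⟨hq3, -, A, hA, -, e⟩ | ⟨F₀, r, c, hr, -, hc, hf, e⟩ | ⟨-, -, F₀, c, hc, hf, e⟩ |
    ⟨p, R, -, rfl, -, h11, hR, hirr, -, h27, hZ, e⟩ | hS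
  · refine Or.inl (hpt W ?_ (e.le.trans inf_le_left))
    have k := hB.finrank_add_finrank_perp W
    have k2 := Submodule.finrank_mono (show W ≤ perp _ W from fun x hx w hw => (hermForm_eq hb x w).symm.trans
      (hW x hx w hw))
    have k3 : finrank F W ≠ 0 := fun h => hW0 (Submodule.finrank_eq_zero.1 h)
    omega
  · have k3 : finrank F W ≠ 0 := fun h => hW0 (Submodule.finrank_eq_zero.1 h)
    exact Or.inl (hpt W (by omega) (e.le.trans inf_le_left))
  · left
    have hd : ∀ i, ∃ d ∈ D i, stdB (bar hF) (Fin 3) d d = 1 := fun i =>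
      hB.exists_mem_self_eq (hB.disjoint_perp_iff.2 fun u hu h => by
        by_contra h0
        obtain ⟨x, hx, h1⟩ := (hD'.2 i u hu h0).1
        exact h1 ((hermForm_eq hb x u).trans (h x hx))) (fun e => by
          have := hD'.1.3 i
          rw [e] at this
          simp at this) (map_one _)
    choose d hd hd1 using hd
    refine le_index_of_frame hB h3 hq (d := d) (fun i j => ?_) fun g hg => ?_
    · split_ifs with hij
      · rw [hij, hd1]
      · exact (hermForm_eq hb _ _).symm.trans (hD'.3 j i (Ne.symm hij) _ (hd j) _ (hd i))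
    · obtain ⟨A, hA, eA⟩ := hrep g hg
      obtain ⟨π, hπ⟩ := (e.le hA).1
      have k : A • d 2 ∈ D (π 2) := hπ 2 ▸ ⟨d 2, hd 2, rfl⟩
      obtain ⟨a, ha⟩ := (finrank_eq_one_iff_of_nonzero' (⟨d (π 2), hd _⟩ : D (π 2)) fun e => by
        simpa [show d (π 2) = 0 from congrArg Subtype.val e] using hd1 (π 2)).1 (hD'.1.3 _) ⟨_, k⟩
      exact ⟨π 2, a, (eA _).trans (congrArg Subtype.val ha).symm⟩
  · refine Or.inl (hidx ?_)
    obtain ⟨c, h1, -, h2⟩ := card_dvd_of_field hb (by norm_num) hA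
    have e1 : (q ^ 2) ^ 3 - 1 = (q ^ 2 - 1) * (q ^ 4 + q ^ 2 + 1) := by
      have h1 : 1 ≤ q ^ 2 := by omega
      have h2 : 1 ≤ (q ^ 2) ^ 3 := Nat.one_le_pow _ _ h1
      zify [h1, h2]
      ring
    rw [e1, Nat.mul_div_cancel_left _ hq2] at h1
    have k := Nat.le_of_dvd (by positivity) (h2.trans (Nat.mul_dvd_mul_left 3 h1))
    rw [e]
    refine k.trans ?_
    obtain ⟨t, rfl⟩ : ∃ t, q = t + 4 := ⟨q - 4, by omega⟩
    rw [show (t + 4) ^ 2 - 1 = t ^ 2 + 8 * t + 15 by rw [Nat.sub_eq_iff_eq_add (by omega)]; ring]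
    ring_nf
    omega
  · exact Or.inl (hsub F₀ r c hr.two_le hc hf (e.le.trans inf_le_left))
  · exact Or.inl (hsub F₀ 2 c le_rfl hc hf (e.le.trans inf_le_left))
  · refine Or.inl (hidx ((card_le_of_heis (isHeis_of_symplecticType hR hirr hZ) h27 hSL
      (e.le.trans inf_le_left)).trans ?_))
    have h1 := Nat.pow_le_pow_left h11 3
    have h2 := Nat.pow_le_pow_left h11 2
    exact le_trans (by norm_num) (Nat.mul_le_mul h1 (Nat.sub_le_sub_right h2 1))
  · exact (card_residual hD hF hq hH hS).imp hidx fun h => ⟨h.1, hcard.trans h.2⟩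

theorem s2148_of (hD : D3.{u}) (hF : Fintype.card F = q ^ 2) (hq : 3 ≤ q) (h5 : q ≠ 5) :
    (∀ H : Subgroup (PSU 3 F q), H ≠ ⊤ → q ^ 3 + 1 ≤ H.index) ∧ ∃ H : Subgroup (PSU 3 F q), H.index = q ^ 3 + 1 := by
  have hB := isHerm_stdB (isBar_bar hF) (Fin 3)
  have h3 : finrank F (Fin 3 → F) = 3 := finrank_fin_fun F
  obtain ⟨v, hv0, hv⟩ := hB.exists_isotropic (by omega)
  exact minDeg_psu hF (fun K hK => (su3_cases hD hF hq K hK).resolve_right fun h => h5 h.1)
    ⟨_, center_le_stabilizer hB (by omega) hv0, index_iso3 hB h3 hv0 hv⟩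

/-- The lower bound for `PSU₃(5)`. -/
theorem su3_five_le (hD : D3.{u}) (hF : Fintype.card F = 5 ^ 2) (K : Subgroup (SUG (stdB (bar hF) (Fin 3))))
    (hK : K ≠ ⊤) : 50 ≤ K.index := by
  rcases su3_cases hD hF (by norm_num) K hK with h | ⟨-, h⟩
  · omega
  · have k := K.card_mul_index
    rw [card_SUG3] at k
    by_contra hc
    have := Nat.mul_le_mul h (show K.index ≤ 49 by omega)
    omega

end Main

end CL.Low.MinU3
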