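/-
Project LOWDIM: the geometric maximal subgroups of `Sp₄(q)`, `q` odd, from the step `Sp4SqB`.
-/
import Cfsg.Agent.Low.MaxHeis
import Cfsg.Agent.Low.MaxJ
import Cfsg.Agent.Low.Sp4Q
import Cfsg.Agent.Low.SqA
import Cfsg.Agent.Low.T4Sub
import Cfsg.Agent.Cls.SpSub2
import Cfsg.Statements.S5786

set_option autoImplicit false

namespace CL.Low

universe u

theorem s5786_of (hB : Sp4SqB.{u}) : type_of% @Cfsg.CfsgFrozen.S5786.{u} := fun {F} _ _ hodd =>
  have h3 : 3 ≤ Fintype.card F := by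
    have := Fintype.one_lt_card (α := F)
    obtain ⟨k, hk⟩ := hodd
    omega
  ⟨fun W h0 hW => CL.Sp.isMaximalIn_stab_isotropic W h0 hW,
    fun D hD => CL.Sp.isMaximalIn_decompositionStabilizer_nondeg D hD (by rw [Nat.card_eq_fintype_card]; omega),
    fun h5 => MJ.s5786_3 sp4Q hodd h5,
    fun K hK hsa halt => CL.Sp.isMaximalIn_subalgebraNormalizer_symp (by omega) Nat.prime_two
      (Or.inl (CL.Sp.exists_ne_zero_one_of_card h3)) K hK hsa halt,
    fun h5 => MJ.s5786_5 sp4Q hodd h5,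
    fun F₀ _ P _ hr hc hζ hP => isMaximalIn_subfieldSubgroup_four (CL.Asch.two_ne_zero_of_odd hodd) rfl F₀ hr hc P hζ hP,
    fun p R hp hF hR hirr hsp _ _ hm => s5786_7 (sp4Inv_of (sp4SqA sp4Q) hB) hodd p R hp hF hR hirr hsp hm⟩

end CL.Low
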