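/-
Project LOWDIM: quasisimple subgroups of `Sp₄(q)`, `q` odd, with only one involution: the group-theoretic set-up.
-/
import Cfsg.Agent.Low.Sp4A1
import Cfsg.Agent.Inv.ZStar3
import Cfsg.Agent.S3966
import Cfsg.Agent.C2Low.Basic
import Cfsg.Agent.Perm.PrimJordan
import Cfsg.Agent.Known.AltOn
import Cfsg.Agent.Cls.SL2Sub

set_option autoImplicit false

namespace CL.Low.S4

open Matrix Cfsg Cfsg.Geo CL.Asch CL.SLn Module Equiv Equiv.Perm
open scoped MatrixGroups

universe u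

section Words

variable {G : Type*} [Group G]

/-- evaluation of a positive word in two letters -/
def ev (x y : G) : List Bool → G
  | [] => 1
  | b :: w => (if b then y else x) * ev x y w

theorem ev_mem {H : Subgroup G} {x y : G} (hx : x ∈ H) (hy : y ∈ H) : ∀ w, ev x y w ∈ H
  | [] => H.one_mem
  | b :: w => H.mul_mem (by cases b <;> assumption) (ev_mem hx hy w)

theorem map_ev {G' : Type*} [Group G'] (f : G →* G') (x y : G) : ∀ w, f (ev x y w) = ev (f x) (f y) w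
  | [] => f.map_one
  | b :: w => by rw [ev, ev, map_mul, map_ev f x y w]; cases b <;> rfl

theorem mem_closure_of_words {n : ℕ} {x y : alternatingGroup (Fin (n + 2))} (s : Finset (Fin (n + 2))) (h0 : 0 ∈ s)
    (h1 : 1 ∈ s) (W : List (List Bool))
    (h : ∀ k ∈ s, 0 ≠ k → 1 ≠ k → ∃ w ∈ W, ev (x : Perm (Fin (n + 2))) y w = Known.c3 0 1 k)
    {g : alternatingGroup (Fin (n + 2))} (hg : ∀ i, (g : Perm (Fin (n + 2))) i ≠ i → i ∈ s) :
    g ∈ Subgroup.closure {x, y} := by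
  have := Known.altOn_le_of_c3 h0 h1 zero_ne_one (H := (Subgroup.closure {x, y}).map (alternatingGroup _).subtype)
    (fun k hk a b => by
      obtain ⟨w, -, hw⟩ := h k hk a b
      exact ⟨ev x y w, ev_mem (Subgroup.subset_closure (by simp)) (Subgroup.subset_closure (by simp)) w,
        (map_ev _ x y w).trans hw⟩) (Known.mem_altOn.2 ⟨g.2, hg⟩)
  obtain ⟨g', h2, h3⟩ := this
  rwa [← Subtype.ext h3]

theorem closure_eq_top_of_words {n : ℕ} {x y : alternatingGroup (Fin (n + 2))} (W : List (List Bool))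
    (h : ∀ k, 0 ≠ k → 1 ≠ k → ∃ w ∈ W, ev (x : Perm (Fin (n + 2))) y w = Known.c3 0 1 k) :
    Subgroup.closure {x, y} = ⊤ :=
  top_le_iff.1 fun _ _ => mem_closure_of_words Finset.univ (Finset.mem_univ _) (Finset.mem_univ _) W
    (fun k _ => h k) fun _ _ => Finset.mem_univ _

theorem cyc_small {n : ℕ} (hn : n ≤ 7) (x : alternatingGroup (Fin n)) :
    (orderOf x = 4 → (x : Perm (Fin n)).cycleType = {4, 2}) ∧ (orderOf x = 6 → (x : Perm (Fin n)).cycleType = {3, 2, 2}) := by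
  have h1 := (x : Perm (Fin n)).sum_cycleType_le
  have h2 : ∀ a ∈ (x : Perm (Fin n)).cycleType, 2 ≤ a := fun a => two_le_of_mem_cycleType
  have h3 := sign_of_cycleType (x : Perm (Fin n))
  rw [mem_alternatingGroup.1 x.2] at h3
  rw [← Subgroup.orderOf_coe, ← lcm_cycleType]
  rw [Fintype.card_fin] at h1
  generalize (x : Perm (Fin n)).cycleType = m at h1 h2 h3
  have h4 := Multiset.card_nsmul_le_sum h2
  rw [smul_eq_mul] at h4
  obtain h | h | h | h : m.card = 0 ∨ m.card = 1 ∨ m.card = 2 ∨ m.card = 3 := by omega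
  · rw [Multiset.card_eq_zero.1 h]; decide
  · obtain ⟨a, rfl⟩ := Multiset.card_eq_one.1 h
    have : a ≤ 7 := by simp at h1; omega
    revert h3
    interval_cases a <;> decide
  · obtain ⟨a, b, rfl⟩ := Multiset.card_eq_two.1 h
    have := h2 a (by simp)
    have := h2 b (by simp)
    have h5 : a + b ≤ 7 := by simp at h1; omega
    have : a ≤ 5 := by omega
    have : b ≤ 5 := by omega
    revert h3 h5
    interval_cases a <;> interval_cases b <;> decide
  · obtain ⟨a, b, c, rfl⟩ := Multiset.card_eq_three.1 h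
    have := h2 a (by simp)
    have := h2 b (by simp)
    have := h2 c (by simp)
    have h5 : a + b + c ≤ 7 := by simp at h1; omega
    have : a ≤ 3 := by omega
    have : b ≤ 3 := by omega
    have : c ≤ 3 := by omega
    revert h3 h5
    interval_cases a <;> interval_cases b <;> interval_cases c <;> decide

end Words

variable {F : Type u} [Field F] {P : Subgroup (GL I4 F)}

theorem scalar_cases {z : GL I4 F} (h : z ∈ spGL 2 F) (hz : z ∈ scalars I4 F) : z = 1 ∨ z = -1 := by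
  obtain ⟨c, hc⟩ := mem_scalars_iff'.1 hz
  rcases mul_self_eq_one_iff.1 (mul_self_eq_one_of_scalar h hc two_pos) with rfl | rfl
  · exact Or.inl (Units.ext (by rw [hc, one_smul]; rfl))
  · exact Or.inr (Units.ext (by rw [hc, neg_one_smul]; rfl))

theorem neg_one_mem_scalars : (-1 : GL I4 F) ∈ scalars I4 F := mem_scalars_iff'.2 ⟨-1, by simp⟩

theorem neg_one_ne_one (h2 : (2 : F) ≠ 0) : (-1 : GL I4 F) ≠ 1 := fun h => by
  have := congrArg tr h
  rw [tr_neg, tr, Units.val_one, trace_one4] at this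
  exact mul_ne_zero h2 (four_ne_zero' h2) (by linear_combination -this)

/-- Two quadratic elements do not generate an absolutely irreducible group. -/
theorem not_quad (hP : spanAlg P = ⊤) {a b : GL I4 F} (h : P ≤ Subgroup.closure {a, b} ⊔ scalars I4 F) (ha : Quad a)
    (hb : Quad b) : False := by
  let A := Algebra.adjoin F ({(a : M4 F), (b : M4 F)} : Set (M4 F))
  let H : Subgroup (GL I4 F) :=
    { carrier := {g | (g : M4 F) ∈ A ∧ ((g⁻¹ : GL I4 F) : M4 F) ∈ A}
      mul_mem' := fun {x y} hx hy => ⟨A.mul_mem hx.1 hy.1, by rw [_root_.mul_inv_rev]; exact A.mul_mem hy.2 hx.2⟩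
      one_mem' := ⟨A.one_mem, A.one_mem⟩
      inv_mem' := fun {x} hx => ⟨hx.2, hx.1⟩ }
  have h0 : ∀ c : F, c • (1 : M4 F) ∈ A := fun c => A.smul_mem A.one_mem c
  have h1 : ∀ g : GL I4 F, Quad g → (g : M4 F) ∈ A → g ∈ H := fun g ⟨α, hg⟩ hA =>
    ⟨hA, by rw [eq_sub_of_add_eq' hg]; exact A.sub_mem (h0 α) hA⟩
  have h2 : ∀ g ∈ scalars I4 F, (g : M4 F) ∈ A := fun g hg => by
    obtain ⟨c, hc⟩ := mem_scalars_iff'.1 hg
    exact hc ▸ h0 c
  have h3 : P ≤ H := h.trans (sup_le ((Subgroup.closure_le _).2 (by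
    rintro _ (rfl | rfl)
    exacts [h1 _ ha (Algebra.subset_adjoin (by simp)), h1 _ hb (Algebra.subset_adjoin (by simp))]))
    fun g hg => ⟨h2 g hg, h2 _ (inv_mem hg)⟩)
  exact ha.adjoin_ne_top hb (top_le_iff.1 (hP.ge.trans (spanAlg_le fun g hg => (h3 hg).1)))

theorem eq_scalar_of_comm (hP : spanAlg P = ⊤) {x : M4 F} (h : ∀ l ∈ P, (l : M4 F) * x = x * l) : ∃ c : F, x = c • 1 := by
  have : x ∈ Set.range (Matrix.scalar I4) := mem_range_scalar_of_commute_single fun i j _ => by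
    have h1 : (single i j 1 : M4 F) ∈ Subalgebra.centralizer F {x} :=
      (hP.ge.trans (spanAlg_le fun l hl => by rintro _ rfl; exact (h l hl).symm)) Algebra.mem_top
    exact (h1 _ rfl).symm
  obtain ⟨γ, hγ⟩ := this
  exact ⟨γ, by rw [← hγ, scalar_apply, smul_one_eq_diagonal]⟩

theorem tr_fix (p : ℕ) [Fact p.Prime] [CharP F p] {l : GL I4 F} (hl : l ∈ spGL 2 F) {m : ℕ} (h : l ^ m = 1)
    (hp : p % m = 1 ∨ (p + 1) % m = 0) : tr l ^ p = tr l := by
  have h1 := tr_pow_char_pow p l 1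
  rw [pow_one] at h1
  rw [← h1]
  rcases hp with hp | hp
  · rw [pow_eq_pow_mod p h, hp, pow_one]
  · rw [eq_inv_of_mul_eq_one_left (show l ^ p * l = 1 by rw [← pow_succ, pow_eq_pow_mod _ h, hp, pow_zero]), tr_inv hl]

theorem tr_fix_of_scalar (p : ℕ) [Fact p.Prime] [CharP F p] (h2 : (2 : F) ≠ 0) {l : GL I4 F} {k : ℕ}
    (h : l ^ p ^ k = 1 ∨ l ^ p ^ k = -1) : tr l ^ p ^ k = tr l := by
  have h1 := tr_pow_char_pow p l k
  have h4 : (4 : F) ^ p ^ k = 4 := by rw [← iterateFrobenius_def]; exact map_ofNat _ 4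
  have hinj := (iterateFrobenius F p k).injective
  have ho : Odd (p ^ k) := ((Fact.out : p.Prime).odd_of_ne_two (by
    rintro rfl; exact h2 (by simpa using CharP.cast_eq_zero F 2))).pow
  rcases h with h | h
  · rw [h, tr, Units.val_one, trace_one4] at h1
    rw [show tr l = 4 from hinj (by simpa [iterateFrobenius_def, h4] using h1.symm), h4]
  · rw [h, tr_neg, tr, Units.val_one, trace_one4] at h1
    rw [show tr l = -4 from hinj (by simpa [iterateFrobenius_def, h4, ho.neg_pow] using h1.symm), ho.neg_pow, h4]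

/-- The standing hypothesis. -/
structure Hyp (P : Subgroup (GL I4 F)) : Prop where
  two : (2 : F) ≠ 0
  sp : P ≤ spGL 2 F
  qs : QS P
  inv : ∀ t ∈ P, t * t = 1 → t ∈ scalars I4 F

namespace Hyp

variable (h : Hyp P) {S : Type*} [Group S] {π : P →* S}
include h

theorem pow_cases (c : Cov π) {l : P} {r : ℕ} (hr : π l ^ r = 1) : (l : GL I4 F) ^ r = 1 ∨ (l : GL I4 F) ^ r = -1 :=
  scalar_cases (h.sp (pow_mem l.2 r)) ((c.ker (l ^ r)).1 (by rw [map_pow, hr]))

theorem eq_or_neg (c : Cov π) {a b : P} (e : π a = π b) : (b : GL I4 F) = a ∨ (b : GL I4 F) = -a := by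
  rcases scalar_cases (h.sp (mul_mem (inv_mem a.2) b.2)) (c.eq_iff.1 e) with h1 | h1
  · exact Or.inl (inv_mul_eq_one.1 h1).symm
  · exact Or.inr (by rw [inv_mul_eq_iff_eq_mul.1 h1, mul_neg_one])

theorem sq_eq (c : Cov π) {l : P} (h1 : π l ≠ 1) (h2 : π l ^ 2 = 1) : (l : GL I4 F) ^ 2 = -1 :=
  (h.pow_cases c h2).resolve_left fun e => h1 ((c.ker l).2 (h.inv _ l.2 (by rw [← sq, e])))

theorem lift_eq (c : Cov π) {a b : P} (e : π a = π b) {r : ℕ} (hr : Odd r) (ha : (a : GL I4 F) ^ r = 1)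
    (hb : (b : GL I4 F) ^ r = 1) : a = b := by
  rcases h.eq_or_neg c e with h1 | h1
  · exact Subtype.ext h1.symm
  · rw [h1, hr.neg_pow, ha] at hb
    exact absurd hb (neg_one_ne_one h.two)

theorem ne_one (c : Cov π) {a : P} {r : ℕ} (hr : Odd r) (ha : (a : GL I4 F) ^ r = 1) (h1 : (a : GL I4 F) ≠ 1) :
    π a ≠ 1 := fun e => h1 (congrArg Subtype.val (h.lift_eq c (e.trans (map_one π).symm) hr ha (one_pow r)))

theorem exists_lift (c : Cov π) {x : S} {r : ℕ} (hr : Odd r) (hx : x ^ r = 1) :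
    ∃ l : P, π l = x ∧ (l : GL I4 F) ^ r = 1 := by
  obtain ⟨l, rfl⟩ := c.surj x
  rcases h.pow_cases c hx with h1 | h1
  · exact ⟨l, rfl, h1⟩
  · refine ⟨l ^ (r + 1), by rw [map_pow, pow_succ, hx, one_mul], ?_⟩
    rw [Subgroup.coe_pow, ← pow_mul, mul_comm, pow_mul, h1, hr.add_one.neg_one_pow]

theorem quad_of_conj (c : Cov π) {a b : P} {y : S} (e : y * π a * y⁻¹ = π b) (ha : Quad (a : GL I4 F)) :
    Quad (b : GL I4 F) := by
  obtain ⟨y, rfl⟩ := c.surj y
  rcases h.eq_or_neg c (a := y * a * y⁻¹) (b := b) (by rw [map_mul, map_mul, map_inv, e]) with h1 | h1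
  · exact h1 ▸ ha.conj y
  · exact h1 ▸ (ha.conj y).neg

theorem not_quad_cov (c : Cov π) {a b : P} (e : Subgroup.closure {π a, π b} = ⊤) (ha : Quad (a : GL I4 F))
    (hb : Quad (b : GL I4 F)) : False := by
  refine not_quad h.qs.span (fun l hl => ?_) ha hb
  have h1 : π ⟨l, hl⟩ ∈ (Subgroup.closure {a, b}).map π := by
    rw [MonoidHom.map_closure, Set.image_pair, e]; trivial
  obtain ⟨k, hk, h2⟩ := h1
  have h3 : (k : GL I4 F) ∈ (Subgroup.closure {a, b}).map P.subtype := ⟨k, hk, rfl⟩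
  rw [MonoidHom.map_closure, Set.image_pair] at h3
  simpa using Subgroup.mul_mem_sup h3 (c.eq_iff.1 h2)

/-- Elements of odd prime order `r` are conjugate up to powers when `r²` does not divide the order. -/
theorem exists_conj_pow [Finite S] (c : Cov π) {r : ℕ} (hr : r.Prime) (ho : Odd r) (hS : ¬ r ^ 2 ∣ Nat.card S) {g l : P}
    (hg : (g : GL I4 F) ^ r = 1) (g1 : (g : GL I4 F) ≠ 1) (hl : (l : GL I4 F) ^ r = 1) (l1 : (l : GL I4 F) ≠ 1) :
    ∃ (u : P) (k : ℕ), 0 < k ∧ k < r ∧ (l : GL I4 F) = u * g ^ k * (u : GL I4 F)⁻¹ := by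
  have := Fact.mk hr
  have key : ∀ {g : P}, (g : GL I4 F) ^ r = 1 → (g : GL I4 F) ≠ 1 → orderOf (π g) = r := fun {g} hg g1 =>
    orderOf_eq_prime (by rw [← map_pow, show g ^ r = 1 from Subtype.ext hg, map_one]) (h.ne_one c ho hg g1)
  obtain ⟨u, hu⟩ := Perm.exists_conj_mem_zpowers_of_not_sq_dvd hr hS (key hg g1) (key hl l1)
  obtain ⟨k, hk⟩ := (Submonoid.mem_powers_iff _ _).1 (mem_powers_iff_mem_zpowers.2 hu)
  obtain ⟨u, rfl⟩ := c.surj u
  have h1 := h.lift_eq c (a := u⁻¹ * g ^ k * u⁻¹⁻¹) (b := l) (by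
    rw [map_mul, map_mul, map_pow, hk, inv_inv, map_inv]; group) ho (by
      rw [Subgroup.coe_mul, Subgroup.coe_mul, Subgroup.coe_inv (x := u⁻¹), conj_pow, Subgroup.coe_pow, ← pow_mul,
        mul_comm k, pow_mul, hg, one_pow, mul_one, mul_inv_cancel]) hl
  refine ⟨u⁻¹, k % r, Nat.pos_of_ne_zero fun h0 => l1 ?_, Nat.mod_lt _ hr.pos, ?_⟩
  · rw [← h1, Subgroup.coe_mul, Subgroup.coe_mul, Subgroup.coe_pow, pow_eq_pow_mod k hg, h0, pow_zero, mul_one,
      Subgroup.coe_inv (x := u⁻¹), mul_inv_cancel]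
  · rw [← pow_eq_pow_mod k hg, ← h1]; rfl

theorem neg_one_mem [Finite F] : (-1 : GL I4 F) ∈ P := by
  have := h.qs.simple
  obtain ⟨x, -, h1, -, -, h2, -⟩ := C2Low.hasFour_of_simple h.qs.nonabelian
  obtain ⟨π, c⟩ := exists_cov (MulEquiv.refl (PQ P))
  obtain ⟨l, rfl⟩ := c.surj x
  exact h.sq_eq c h1 (by rw [sq, h2]) ▸ pow_mem l.2 2

/-- The Gorenstein–Walter theorem applies. -/
theorem gw [Finite F] : GW.IsGWGroup (PQ P) := by
  have := h.qs.simple
  obtain ⟨S⟩ := (inferInstance : Nonempty (Sylow 2 P))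
  have hs := QuotientGroup.mk'_surjective ((scalars I4 F).subgroupOf P)
  let φ : (S : Subgroup P) →* (S.mapSurjective hs : Subgroup (PQ P)) := (QuotientGroup.mk' _).subgroupMap _
  have hφ : Function.Surjective φ := MonoidHom.subgroupMap_surjective _ _
  have hk : ∀ x, x ∈ φ.ker ↔ ((x : P) : GL I4 F) = 1 ∨ ((x : P) : GL I4 F) = -1 := fun x => by
    rw [MonoidHom.mem_ker, Subtype.ext_iff]
    refine mk_eq_one_iff.trans ⟨scalar_cases (h.sp x.1.2), ?_⟩
    rintro (e | e) <;> rw [e]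
    exacts [one_mem _, neg_one_mem_scalars]
  have hk' : ∀ x, x * x = 1 → x ∈ φ.ker := fun x hx =>
    (hk x).2 (scalar_cases (h.sp x.1.2) (h.inv _ x.1.2 (congrArg (fun y : (S : Subgroup P) => ((y : P) : GL I4 F)) hx)))
  have hc : Nat.card φ.ker ≤ 2 := by
    refine (Nat.card_le_card_of_injective (fun x : φ.ker => (⟨x.1.1.1, (hk x).1 x.2⟩ : ({1, -1} : Set (GL I4 F))))
      fun x y e => Subtype.ext (Subtype.ext (Subtype.ext (Subtype.mk.inj e)))).trans ?_
    rw [Nat.card_coe_set_eq]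
    exact (Set.ncard_insert_le _ _).trans (by simp)
  rcases Inv.isCyclic_or_quaternion_of_no_kleinFour S.isPGroup' (fun E hE => by
    have h1 : E ≤ φ.ker := fun x hx => hk' x (congrArg Subtype.val (IsKleinFour.mul_self (⟨x, hx⟩ : E)))
    have h2 := Subgroup.card_le_of_le h1
    rw [hE.card_four] at h2
    omega) with hcyc | ⟨n, ⟨e⟩⟩
  · exfalso
    have hcyc' := isCyclic_of_surjective φ hφ
    obtain ⟨x, y, h1, h2, h3, h4, h5, h6⟩ := C2Low.hasFour_of_simple h.qs.nonabelian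
    have hE := Inv.isKleinFour_closure_pair (orderOf_eq_prime (by rw [sq, h4]) h1) (orderOf_eq_prime (by rw [sq, h5]) h2) h3 h6
    obtain ⟨Q, hQ⟩ := (IsPGroup.of_card (p := 2) (n := 2) hE.card_four).exists_le_sylow
    have := isCyclic_of_surjective _ (Sylow.equiv (S.mapSurjective hs) Q).surjective
    exact hE.not_isCyclic (isCyclic_of_injective _ (Subgroup.inclusion_injective hQ))
  · obtain ⟨σ, hσ, h2⟩ := Cfsg.Agent.S3966.result (2 ^ (n + 1)) (by rw [pow_succ]; simp)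
    have h3 : Nat.card (σ.comp e.toMonoidHom).ker = 2 := (Nat.card_congr (Schur.kerEquivComp σ e).toEquiv).trans h2
    have h4 : (σ.comp e.toMonoidHom).ker = φ.ker := Subgroup.eq_of_le_of_card_ge (fun x hx => hk' x (by
      have := pow_card_eq_one' (x := (⟨x, hx⟩ : (σ.comp e.toMonoidHom).ker))
      rw [h3, sq] at this
      exact congrArg Subtype.val this)) (hc.trans h3.ge)
    exact GW.gwSimple (PQ P) ⟨S.mapSurjective hs, 2 ^ (n + 1), Nat.le_self_pow (by omega) 2,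
      ⟨((QuotientGroup.quotientKerEquivOfSurjective φ hφ).symm.trans (QuotientGroup.quotientMulEquivOfEq h4.symm)).trans
        (QuotientGroup.quotientKerEquivOfSurjective _ (hσ.1.comp e.surjective))⟩⟩

end Hyp

/-- `P` is the image of `SL₂(K)`. -/
structure Lift {K : Type*} [Field K] (P : Subgroup (GL I4 F)) (ρ : SL(2, K) →* GL I4 F) : Prop where
  range : ρ.range = P
  scal : ∀ g, ρ g ∈ scalars I4 F ↔ g ∈ Subgroup.center SL(2, K)
  neg : ρ (-1) = -1

theorem Hyp.exists_sl2 {K : Type*} [Field K] [Fintype K] (h : Hyp P) (hK : 5 ≤ Fintype.card K) (h9 : Fintype.card K ≠ 9)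
    (e : PQ P ≃* PSL(2, K)) : ∃ ρ : SL(2, K) →* GL I4 F, Lift P ρ := by
  have hZ := scalars_subgroupOf_le_center P
  obtain ⟨a, ha0, ha⟩ := CL.SLn.exists_sq_ne_one_of_four_le (F := K) (by rw [Nat.card_eq_fintype_card]; omega)
  obtain ⟨η, hη⟩ := CL.Schur.exists_lift_of_perfect_trivial (Cfsg.Agent.S2117.result (F := K) (by omega) h9)
    (isPerfect_SL (Or.inr ⟨a, ha0, ha⟩)) (e.symm.toMonoidHom.comp (QuotientGroup.mk' _)) _
    (QuotientGroup.mk'_surjective _) ((QuotientGroup.ker_mk' _).le.trans hZ)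
  have hη' : ∀ g, ((η g : P) : PQ P) = e.symm (g : PSL(2, K)) := fun g => DFunLike.congr_fun hη g
  let ρ : SL(2, K) →* GL I4 F := P.subtype.comp η
  have hsc : ∀ g, ρ g ∈ scalars I4 F ↔ g ∈ Subgroup.center SL(2, K) := fun g => by
    rw [← QuotientGroup.eq_one_iff g, ← e.symm.map_eq_one_iff, ← hη', mk_eq_one_iff]; rfl
  refine ⟨ρ, le_antisymm (fun _ ⟨g, hg⟩ => hg ▸ (η g).2) ?_, hsc, ?_⟩
  · refine h.qs.le_of_normal (fun g hg x hx => ?_) ⟨upA 1, rfl⟩ (η _).2 fun e => upA_one_not_mem ((hsc _).1 e)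
    obtain ⟨x, rfl⟩ := hx
    obtain ⟨k, hk⟩ := QuotientGroup.mk_surjective (e (⟨g, hg⟩ : P))
    have h1 : (η k)⁻¹ * ⟨g, hg⟩ ∈ (scalars I4 F).subgroupOf P :=
      QuotientGroup.eq.1 (by rw [hη', hk, e.symm_apply_apply])
    have h2 := Subgroup.mem_center_iff.1 (hZ h1) (η x)
    refine ⟨k * x * k⁻¹, ?_⟩
    have h4 : η k * η x * (η k)⁻¹ = ⟨g, hg⟩ * η x * ⟨g, hg⟩⁻¹ := by
      calc _ = η k * (η x * ((η k)⁻¹ * ⟨g, hg⟩)) * (⟨g, hg⟩ : P)⁻¹ := by group
        _ = _ := by rw [h2]; group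
    rw [map_mul, map_mul, map_inv]
    exact congrArg Subtype.val h4
  · obtain ⟨j, hj⟩ : ∃ j : SL(2, K), (j : Matrix (Fin 2) (Fin 2) K) = !![0, 1; -1, 0] := ⟨⟨_, by simp⟩, rfl⟩
    have h1 : j * j = -1 := Subtype.ext (by
      rw [Matrix.SpecialLinearGroup.coe_mul, hj, Matrix.SpecialLinearGroup.coe_neg, Matrix.SpecialLinearGroup.coe_one,
        one_fin_two]; simp)
    have h3 : j ∉ Subgroup.center SL(2, K) := fun hc => by
      obtain ⟨r, -, hr⟩ := Matrix.SpecialLinearGroup.mem_center_iff.1 hc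
      have := congrFun (congrFun hr 0) 1
      simp [hj] at this
    refine (scalar_cases (h.sp (η _).2) ((hsc _).2 (Subgroup.mem_center_iff.2 fun g => by simp))).resolve_left fun e => ?_
    exact h3 ((hsc j).1 (h.inv _ (η j).2 (by rw [← map_mul, h1]; exact e)))

namespace Lift

variable {K : Type*} [Field K] {ρ : SL(2, K) →* GL I4 F} (L : Lift P ρ)
include L

theorem mem (g : SL(2, K)) : ρ g ∈ P := L.range ▸ ⟨g, rfl⟩

theorem surj {l : GL I4 F} (hl : l ∈ P) : ∃ g, ρ g = l := by rwa [← L.range] at hl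

theorem map_neg (g : SL(2, K)) : ρ (-g) = -ρ g := by rw [← neg_one_mul, map_mul, L.neg, neg_one_mul]

theorem eq_one (h2 : (2 : F) ≠ 0) {g : SL(2, K)} (h : ρ g = 1) : g = 1 := by
  obtain ⟨r, hr, e⟩ := Matrix.SpecialLinearGroup.mem_center_iff.1 ((L.scal g).1 (h ▸ one_mem _))
  rw [Fintype.card_fin, sq] at hr
  rcases mul_self_eq_one_iff.1 hr with rfl | rfl
  · exact Subtype.ext (by rw [← e, map_one]; rfl)
  · have : g = -1 := Subtype.ext (by rw [← e, _root_.map_neg, map_one]; rfl)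
    rw [this, L.neg] at h
    exact absurd h (neg_one_ne_one h2)

theorem not_quad (hP : spanAlg P = ⊤) {a b : SL(2, K)} (e : Subgroup.closure {a, b} = ⊤) (ha : Quad (ρ a))
    (hb : Quad (ρ b)) : False :=
  S4.not_quad hP (by
    rw [← L.range, MonoidHom.range_eq_map, ← e, MonoidHom.map_closure, Set.image_pair]; exact le_sup_left) ha hb

end Lift

end CL.Low.S4
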