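/-
Project LOWDIM: `SL₂(q)` in `Sp₄`, defining characteristic.
-/
import Cfsg.Agent.Low.Sp4A2

set_option autoImplicit false

namespace CL.Low.S4

open Matrix Cfsg Cfsg.Geo CL.Asch CL.SLn Module
open scoped MatrixGroups

universe u

variable {F : Type u} [Field F] {P : Subgroup (GL I4 F)}

theorem exists_basis {N : M4 F} (h4 : N ^ 4 = 0) (h3 : N ^ 3 ≠ 0) :
    ∃ v : I4 → F, ∀ x : I4 → F, ∃ c : Fin 4 → F, x = c 0 • v + c 1 • N *ᵥ v + c 2 • (N ^ 2) *ᵥ v + c 3 • (N ^ 3) *ᵥ v := by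
  obtain ⟨v, hv⟩ : ∃ v, (N ^ 3) *ᵥ v ≠ 0 := by
    by_contra hc
    push Not at hc
    exact h3 (toLin'.injective (LinearMap.ext fun v => by rw [toLin'_apply, toLin'_apply, hc, zero_mulVec]))
  have e : ∀ k, 4 ≤ k → N ^ k = 0 := fun k hk => pow_eq_zero_of_le hk h4
  have hli : LinearIndependent F ![v, N *ᵥ v, (N ^ 2) *ᵥ v, (N ^ 3) *ᵥ v] := by
    rw [Fintype.linearIndependent_iff]
    intro c hc
    simp only [Fin.sum_univ_four, cons_val_zero, cons_val_one, cons_val] at hc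
    have k : ∀ n, c 0 • (N ^ n) *ᵥ v + c 1 • (N ^ (n + 1)) *ᵥ v + c 2 • (N ^ (n + 2)) *ᵥ v + c 3 • (N ^ (n + 3)) *ᵥ v = 0 :=
      fun n => by simpa only [mulVec_add, mulVec_smul, mulVec_mulVec, ← pow_add, ← pow_succ, mulVec_zero] using
        (congrArg ((N ^ n) *ᵥ ·) hc)
    have c0 : c 0 = 0 := by simpa [e, hv] using k 3
    have c1 : c 1 = 0 := by simpa [e, hv, c0] using k 2
    have c2 : c 2 = 0 := by simpa [e, hv, c0, c1] using k 1
    have c3 : c 3 = 0 := by simpa [e, hv, c0, c1, c2] using k 0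
    intro i
    fin_cases i <;> assumption
  refine ⟨v, fun x => ?_⟩
  obtain ⟨c, hc⟩ := (Submodule.mem_span_range_iff_exists_fun F).1
    (hli.span_eq_top_of_card_eq_finrank (by simp) ▸ Submodule.mem_top (x := x))
  exact ⟨c, by simpa [Fin.sum_univ_four] using hc.symm⟩

/-- The centraliser of a regular nilpotent matrix. -/
theorem reg_poly {N x : M4 F} (h4 : N ^ 4 = 0) (h3 : N ^ 3 ≠ 0) (hx : x * N = N * x) :
    ∃ a b c d : F, x = a • 1 + b • N + c • N ^ 2 + d • N ^ 3 := by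
  obtain ⟨v, hv⟩ := exists_basis h4 h3
  obtain ⟨c, hc⟩ := hv (x *ᵥ v)
  refine ⟨c 0, c 1, c 2, c 3, ?_⟩
  obtain ⟨y, hy⟩ : ∃ y, y = x - (c 0 • 1 + c 1 • N + c 2 • N ^ 2 + c 3 • N ^ 3) := ⟨_, rfl⟩
  have h1 : y *ᵥ v = 0 := by rw [hy, sub_mulVec, hc]; simp [add_mulVec, smul_mulVec]
  have h2 : Commute y N := by
    rw [hy, Commute, SemiconjBy]
    simp only [pow_succ, pow_zero]
    linear_combination (norm := (simp only [nc]; module)) hx
  have h5 : ∀ k, y *ᵥ (N ^ k) *ᵥ v = 0 := fun k => by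
    rw [mulVec_mulVec, (h2.pow_right k).eq, ← mulVec_mulVec, h1, mulVec_zero]
  rw [← sub_eq_zero, ← hy]
  refine toLin'.injective (LinearMap.ext fun w => ?_)
  obtain ⟨d, rfl⟩ := hv w
  have h6 := h5 1
  rw [pow_one] at h6
  simp only [toLin'_apply, mulVec_add, mulVec_smul, h1, h6, h5, smul_zero, add_zero, zero_mulVec]

/-- The cube of a regular nilpotent matrix has rank one. -/
theorem rank_one {N : M4 F} (h4 : N ^ 4 = 0) (x : M4 F) : N ^ 3 * x * N ^ 3 = (N ^ 3 * x).trace • N ^ 3 := by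
  by_cases h3 : N ^ 3 = 0
  · simp [h3]
  obtain ⟨v, hv⟩ := exists_basis h4 h3
  have e : ∀ k, 4 ≤ k → N ^ k = 0 := fun k hk => pow_eq_zero_of_le hk h4
  choose c hc using hv
  have h1 : N ^ 3 = vecMulVec ((N ^ 3) *ᵥ v) fun j => c (Pi.single j 1) 0 := by
    ext i j
    have := congrFun (congrArg ((N ^ 3) *ᵥ ·) (hc (Pi.single j 1))) i
    simp only [mulVec_add, mulVec_smul, mulVec_mulVec, ← pow_add, ← pow_succ] at this
    simpa [e, vecMulVec_apply, mul_comm] using this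
  generalize (N ^ 3) *ᵥ v = a at h1
  generalize (fun j => c (Pi.single j 1) 0) = b at h1
  rw [h1, vecMulVec_mul, vecMulVec_mul_vecMulVec, trace_vecMulVec, dotProduct_comm, vecMulVec_smul]

theorem sub_one_pow_char (p : ℕ) [Fact p.Prime] [CharP F p] {u : GL I4 F} (h : u ^ p = 1) : ((u : M4 F) - 1) ^ p = 0 := by
  rw [sub_pow_char_of_commute _ (Commute.one_right _), one_pow, ← Units.val_pow_eq_pow_val, h, Units.val_one, sub_self]

theorem quad_of_three (h2 : (2 : F) ≠ 0) (h3 : (3 : F) = 0) {l : GL I4 F} (hl : l ∈ spGL 2 F) (h : l ^ 3 = 1) : Quad l :=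
  have := (CharP.charP_iff_prime_eq_zero Nat.prime_three).2 (show ((3 : ℕ) : F) = 0 by exact_mod_cast h3)
  ⟨2, Y_eq_two_of_cube h2 hl (sub_one_pow_char 3 h)⟩

section SL2

variable {K : Type*} [Field K]

theorem upA_eq (b : K) : upA b = SL2.upT b := Subtype.ext ((coe_upA b).trans (SL2.coe_upT b).symm)

theorem upA_zero : upA (0 : K) = 1 := Subtype.ext ((coe_upA 0).trans one_fin_two.symm)

theorem upA_pow (b : K) (n : ℕ) : upA b ^ n = upA (n * b) := by
  induction n with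
  | zero => rw [pow_zero, Nat.cast_zero, zero_mul, upA_zero]
  | succ n ih => rw [pow_succ, ih, ← upA_add, Nat.cast_succ, add_mul, one_mul]

theorem exists_weyl : ∃ w : SL(2, K), ∀ b, w * upA (-b) * w⁻¹ = SL2.loT b := by
  obtain ⟨j, hj⟩ : ∃ j : SL(2, K), (j : Matrix (Fin 2) (Fin 2) K) = !![0, 1; -1, 0] := ⟨⟨_, by simp⟩, rfl⟩
  refine ⟨j, fun b => mul_inv_eq_iff_eq_mul.2 (Subtype.ext ?_)⟩
  rw [Matrix.SpecialLinearGroup.coe_mul, Matrix.SpecialLinearGroup.coe_mul, hj, coe_upA, SL2.coe_loT]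
  simp

theorem card_odd [Fintype K] (h2 : (2 : K) ≠ 0) : Fintype.card K % 2 = 1 :=
  FiniteField.odd_card_of_char_ne_two fun e => h2 (by simpa [e] using ringChar.Nat.cast_ringChar (R := K))

theorem sl2_pow_card [Fintype K] (h2 : (2 : K) ≠ 0) (g : SL(2, K)) :
    g ^ Fintype.card K = g ∨ g ^ Fintype.card K = g⁻¹ ∨ g ^ Fintype.card K = 1 ∨ g ^ Fintype.card K = -1 := by
  obtain ⟨p, _, n, hp, hn⟩ := FiniteField.card' K
  have := Fact.mk hp
  have hd : g 0 0 * g 1 1 - g 0 1 * g 1 0 = 1 := by rw [← det_fin_two]; exact g.2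
  obtain ⟨m, hm⟩ : Odd (Fintype.card K) := Nat.odd_iff.2 (card_odd h2)
  obtain ⟨t, ht⟩ : ∃ t : K, g 0 0 + g 1 1 = 2 * t := ⟨(g 0 0 + g 1 1) / 2, by field_simp⟩
  obtain ⟨δ, hδ⟩ : ∃ δ, δ = (g : Matrix (Fin 2) (Fin 2) K) - scalar (Fin 2) t := ⟨_, rfl⟩
  have h1 : δ ^ 2 = scalar (Fin 2) (t ^ 2 - 1) := by
    ext i j
    fin_cases i <;> fin_cases j <;> simp [hδ, pow_two, Matrix.mul_apply, Fin.sum_univ_two]
    · linear_combination (g 0 0) * ht - hd
    · linear_combination (g 0 1) * ht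
    · linear_combination (g 1 0) * ht
    · linear_combination (g 1 1) * ht - hd
  have h3 : (g : Matrix (Fin 2) (Fin 2) K) ^ Fintype.card K = scalar (Fin 2) ((t ^ 2 - 1) ^ m) * δ + scalar (Fin 2) t := by
    rw [eq_add_of_sub_eq hδ.symm, hn, add_pow_char_pow_of_commute _ _ (scalar_commute t (Commute.all t) _).symm, ← hn,
      ← map_pow, FiniteField.pow_card, hm, pow_succ, pow_mul, h1, ← map_pow]
  have h4 : ((g⁻¹ : SL(2, K)) : Matrix (Fin 2) (Fin 2) K) = -δ + scalar (Fin 2) t := by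
    rw [Matrix.SpecialLinearGroup.coe_inv, adjugate_fin_two, hδ]
    ext i j
    fin_cases i <;> fin_cases j <;> simp
    · linear_combination ht
    · linear_combination ht
  have hext : ∀ k : SL(2, K), g ^ Fintype.card K = k ↔
      scalar (Fin 2) ((t ^ 2 - 1) ^ m) * δ + scalar (Fin 2) t = (k : Matrix (Fin 2) (Fin 2) K) :=
    fun k => by rw [← h3, ← Matrix.SpecialLinearGroup.coe_pow]; exact Subtype.ext_iff
  simp only [hext]
  by_cases h0 : t ^ 2 - 1 = 0
  · have hm0 : m ≠ 0 := by rintro rfl; have := Fintype.one_lt_card (α := K); omega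
    rw [h0, zero_pow hm0, map_zero, zero_mul, zero_add]
    rcases mul_self_eq_one_iff.1 (show t * t = 1 by linear_combination h0) with rfl | rfl
    · exact Or.inr (Or.inr (Or.inl (map_one _)))
    · exact Or.inr (Or.inr (Or.inr (by rw [map_neg, map_one]; rfl)))
  · have h5 := FiniteField.pow_card_sub_one_eq_one _ h0
    rw [hm, Nat.add_sub_cancel, two_mul, pow_add] at h5
    rcases mul_self_eq_one_iff.1 h5 with e | e <;> rw [e]
    · exact Or.inl (by rw [map_one, one_mul, hδ, sub_add_cancel])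
    · exact Or.inr (Or.inl (by rw [map_neg, map_one, neg_one_mul, h4]))

variable {ρ : SL(2, K) →* GL I4 F}

theorem Lift.exists_reg [Fintype K] (L : Lift P ρ) (h : Hyp P) (h2 : (2 : K) ≠ 0) (h9 : Fintype.card K ≠ 9) :
    ∃ b, ((ρ (upA b) : M4 F) - 1) ^ 3 ≠ 0 := by
  by_contra hc
  push Not at hc
  have hq : ∀ b, Quad (ρ (upA b)) := fun b => ⟨2, Y_eq_two_of_cube h.two (h.sp (L.mem _)) (hc b)⟩
  obtain ⟨a, ha⟩ := IsCyclic.exists_monoid_generator (α := Kˣ)
  obtain ⟨w, hw⟩ := exists_weyl (K := K)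
  refine L.not_quad h.qs.span (SL2.closure_loT_upT_eq_top h2 a.ne_zero (top_le_iff.1 fun x _ => ?_) fun e => h9 e.1) ?_
    (upA_eq (a : K) ▸ hq a)
  · by_cases hx : x = 0
    · exact hx ▸ zero_mem _
    · obtain ⟨n, hn⟩ := ha (Units.mk0 x hx)
      have e : (a : K) ^ n = x := by simpa using congrArg Units.val hn
      rw [← e]
      exact pow_mem (Subfield.subset_closure (Set.mem_singleton _)) n
  · rw [← hw, map_mul, map_mul, map_inv]; exact (hq _).conj _

theorem Lift.card_le [Fintype K] [Fintype F] (L : Lift P ρ) (h : Hyp P) (p : ℕ) [Fact p.Prime] [CharP F p] [CharP K p]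
    (h2 : (2 : K) ≠ 0) (h9 : Fintype.card K ≠ 9) :
    (∀ b, b ≠ 0 → ((ρ (upA b) : M4 F) - 1) ^ 3 ≠ 0) ∧ Fintype.card K ≤ Fintype.card F := by
  obtain ⟨b, h3⟩ := L.exists_reg h h2 h9
  have hnil : ∀ c, ((ρ (upA c) : M4 F) - 1) ^ 4 = 0 := fun c => pow_four_eq_zero ⟨p, sub_one_pow_char p (by
    rw [← map_pow, upA_pow, CharP.cast_eq_zero, zero_mul, upA_zero, map_one])⟩
  obtain ⟨N, hN⟩ : ∃ N, N = (ρ (upA b) : M4 F) - 1 := ⟨_, rfl⟩
  have h4 := hnil b
  rw [← hN] at h3 h4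
  have key : ∀ c, ∃ a : F, N ^ 2 * ρ (upA c) = N ^ 2 + a • N ^ 3 ∧ (a = 0 → ((ρ (upA c) : M4 F) - 1) ^ 3 = 0) ∧
      (((ρ (upA c) : M4 F) - 1) ^ 3 = 0 → a = 0) := fun c => by
    obtain ⟨a0, a1, a2, a3, e⟩ := reg_poly (x := (ρ (upA c) : M4 F) - 1) h4 h3 (by
      have : (ρ (upA c) : M4 F) * ρ (upA b) = ρ (upA b) * ρ (upA c) := by
        rw [← Units.val_mul, ← Units.val_mul, ← map_mul, ← map_mul, ← upA_add, ← upA_add, add_comm]
      rw [hN]; linear_combination (norm := (simp only [nc]; module)) this)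
    have h5 := hnil c
    have h6 : a0 = 0 := by
      have h7 : ∀ n, N ^ 3 * ((ρ (upA c) : M4 F) - 1) ^ n = a0 ^ n • N ^ 3 := fun n => by
        induction n with
        | zero => simp
        | succ n ih =>
          rw [pow_succ _ n, ← mul_assoc, ih, e, pow_succ a0]
          simp only [pow_succ, pow_zero] at h4 ⊢
          linear_combination (norm := (simp only [nc]; module)) (a0 ^ n * a1) • h4 + (a0 ^ n * a2) • h4 * N + (a0 ^ n * a3) • h4 * N * N
      have h8 := h7 4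
      rw [h5, mul_zero, eq_comm, smul_eq_zero] at h8
      exact pow_eq_zero_iff (by norm_num) |>.1 (h8.resolve_right h3)
    have h7 : ((ρ (upA c) : M4 F) - 1) ^ 3 = a1 ^ 3 • N ^ 3 := by
      rw [e, h6]
      obtain ⟨M, hM⟩ : ∃ M, M = a1 • (1 : M4 F) + a2 • N + a3 • N ^ 2 := ⟨_, rfl⟩
      have c1 : Commute N M := by rw [hM, Commute, SemiconjBy, sq]; simp only [nc]
      have c2 : N ^ 3 * M = a1 • N ^ 3 := by
        rw [hM]; simp only [pow_succ, pow_zero] at h4 ⊢; linear_combination (norm := (simp only [nc]; module)) a2 • h4 + a3 • h4 * N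
      rw [show (0 : F) • (1 : M4 F) + a1 • N + a2 • N ^ 2 + a3 • N ^ 3 = N * M by
        rw [hM]; simp only [pow_succ, pow_zero]; simp only [nc]; module, c1.mul_pow]
      generalize N ^ 3 = T at c2
      simp only [pow_succ, pow_zero]
      linear_combination (norm := (simp only [nc]; module)) c2 * M * M + a1 • c2 * M + (a1 * a1) • c2
    refine ⟨a1, ?_, fun h0 => by rw [h7, h0]; simp, fun h0 => ?_⟩
    · rw [eq_add_of_sub_eq e, h6]
      simp only [pow_succ, pow_zero] at h4 ⊢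
      linear_combination (norm := (simp only [nc]; module)) a2 • h4 + a3 • h4 * N
    · rw [h7, smul_eq_zero] at h0
      exact pow_eq_zero_iff (by norm_num) |>.1 (h0.resolve_right h3)
  choose α k1 k2 k3 using key
  have hadd : ∀ c d, α (c + d) = α c + α d := fun c d => smul_left_injective F h3 (by
    have e1 := k1 (c + d)
    rw [upA_add, map_mul, Units.val_mul] at e1
    have e2 := k1 c
    have e3 := k1 d
    simp only [pow_succ, pow_zero] at h4 e1 e2 e3 ⊢
    linear_combination (norm := (simp only [nc]; module)) e2 * (ρ (upA d) : M4 F) - e1 + e3 + α c • N * e3 + (α c * α d) • h4)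
  have hsq : ∀ c s, α c = 0 → α (s ^ 2 * c) = 0 := fun c s hc => by
    by_cases hs : s = 0
    · exact k3 _ (by rw [hs, zero_pow two_ne_zero, zero_mul, upA_zero, map_one]; simp)
    obtain ⟨g, hg⟩ := exists_torus (Units.mk0 s hs)
    have e : ρ (upA (s ^ 2 * c)) = (ρ g)⁻¹ * ρ (upA c) * (ρ g)⁻¹⁻¹ := by
      rw [inv_inv, mul_assoc, ← map_mul, hg, map_mul, inv_mul_cancel_left]; rfl
    refine k3 _ ?_
    rw [e, show (((ρ g)⁻¹ * ρ (upA c) * (ρ g)⁻¹⁻¹ : GL I4 F) : M4 F) - 1 =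
      ((ρ g)⁻¹ : GL I4 F) * ((ρ (upA c) : M4 F) - 1) * ((ρ g)⁻¹⁻¹ : GL I4 F) by
        simp only [Units.val_mul]; linear_combination (norm := (simp only [nc]; module)) Units.mul_inv (ρ g)⁻¹, Units.conj_pow, k2 c hc, mul_zero, zero_mul]
  have hker : ∀ c, α c = 0 → c = 0 := fun c hc => by
    by_contra h0
    have e := hadd (((b / c - 1) / 2) ^ 2 * c) b
    rw [show ((b / c - 1) / 2) ^ 2 * c + b = ((b / c + 1) / 2) ^ 2 * c by field_simp; ring, hsq _ _ hc, hsq _ _ hc,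
      zero_add] at e
    exact h3 (hN ▸ k2 b e.symm)
  refine ⟨fun c hc e => hc (hker c (k3 c e)), Fintype.card_le_of_injective α fun c d e => sub_eq_zero.1 (hker _ ?_)⟩
  have := hadd (c - d) d
  rw [sub_add_cancel, e] at this
  exact left_eq_add.1 (this.trans (add_comm _ _))

theorem Lift.tr_pow_card [Fintype K] (L : Lift P ρ) (h : Hyp P) (p : ℕ) [Fact p.Prime] [CharP F p] [CharP K p]
    (h2 : (2 : K) ≠ 0) {l : GL I4 F} (hl : l ∈ P) : tr l ^ Fintype.card K = tr l := by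
  obtain ⟨g, rfl⟩ := L.surj hl
  obtain ⟨n, -, hn⟩ := FiniteField.card K p
  rcases sl2_pow_card h2 g with e | e | e | e <;> rw [hn] at e ⊢
  · rw [← tr_pow_char_pow, ← map_pow, e]
  · rw [← tr_pow_char_pow, ← map_pow, e, map_inv, tr_inv (h.sp hl)]
  · exact tr_fix_of_scalar p h.two (Or.inl (by rw [← map_pow, e, map_one]))
  · exact tr_fix_of_scalar p h.two (Or.inr (by rw [← map_pow, e, L.neg]))

theorem Lift.char_eq [Fintype K] (L : Lift P ρ) (h : Hyp P) (h2 : (2 : K) ≠ 0) (h7 : 7 ≤ Fintype.card K)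
    (h9 : Fintype.card K ≠ 9) : ringChar F = ringChar K := by
  by_contra hc
  have h0 : ρ (upA 1) ≠ 1 := fun e => upA_one_not_mem ((L.scal _).1 (e ▸ one_mem _))
  have h1 := sl2_cross hc ((SLn.glReindex (finSumFinEquiv (m := 2) (n := 2))).toMonoidHom.comp ρ)
    fun e => h0 ((SLn.glReindex (finSumFinEquiv (m := 2) (n := 2))).map_eq_one_iff.1 e)
  have ho := card_odd h2
  rw [Nat.card_eq_fintype_card] at h1
  have h8 : (7 : K) = 0 := by
    have := FiniteField.cast_card_eq_zero K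
    rw [show Fintype.card K = 7 by omega] at this
    exact_mod_cast this
  have h3 : (3 : K) ≠ 0 := fun e => one_ne_zero (α := K) (by linear_combination h8 - 2 * e)
  obtain ⟨g, hg⟩ := exists_torus (Units.mk0 3 h3)
  have h4 := seven_eq_zero h.two (h.sp (L.mem (upA 1))) (h := (ρ g)⁻¹)
    (by rw [← map_pow, upA_pow, Nat.cast_ofNat, h8, zero_mul, upA_zero, map_one]) h0
    (by
      rw [inv_inv, mul_assoc, ← map_mul, hg, map_mul, inv_mul_cancel_left, ← map_pow, upA_pow]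
      congr 2
      simp only [Units.val_mk0, Nat.cast_ofNat]
      linear_combination h8)
  refine hc ?_
  rw [ringChar.eq_iff.2 ((CharP.charP_iff_prime_eq_zero Nat.prime_seven).2 (show ((7 : ℕ) : K) = 0 by exact_mod_cast h8)),
    ringChar.eq_iff.2 ((CharP.charP_iff_prime_eq_zero Nat.prime_seven).2 (show ((7 : ℕ) : F) = 0 by exact_mod_cast h4))]

end SL2

end CL.Low.S4
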