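/-
Project LOWDIM: the double covers of `A₅`, `A₆`, `A₇` in `Sp₄`, and the step `Sp4A`.
-/
import Cfsg.Agent.Low.Sp4A3
import Cfsg.Agent.Cls.SmallIso
import Cfsg.Agent.Perm.SL25Pres

set_option autoImplicit false

namespace CL.Low.S4

open Matrix Cfsg Cfsg.Geo CL.Asch CL.SLn Module Equiv Equiv.Perm
open scoped MatrixGroups

universe u

variable {F : Type u} [Field F] {P : Subgroup (GL I4 F)}

theorem Z5_pow {g : GL I4 F} (h : g ^ 5 = 1) {k : ℕ} (h0 : 0 < k) (h5 : k < 5) : Z5 (g ^ k) = Z5 g := by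
  interval_cases k
  · rw [pow_one]
  · exact Z5_sq h
  · rw [show g ^ 3 = (g ^ 2)⁻¹ by rw [eq_inv_iff_mul_eq_one, ← pow_add, h], Z5_inv, Z5_sq h]
  · rw [show g ^ 4 = g⁻¹ by rw [eq_inv_iff_mul_eq_one, ← pow_succ, h], Z5_inv]

theorem Z5_mul {g : GL I4 F} (h : g ^ 5 = 1) : Z5 g * g = Z5 g := by
  have h1 : (g : M4 F) * Y g = Y g * g := by rw [mul_Y, Y, add_mul, Units.inv_mul]
  have h2 := mul_Z5 h
  rw [Z5] at h2 ⊢
  linear_combination (norm := (simp only [nc]; module)) h2 - h1 * Y g - Y g * h1 - h1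

theorem eq_zero_of_fix (h2 : (2 : F) ≠ 0) {x y : GL I4 F} {m : M4 F} (hx : (x : M4 F) * m = m) (hy : (y : M4 F) * m = m)
    (w : List Bool) (h : ev x y w ^ 2 = -1) : m = 0 := by
  have key : ∀ w, ((ev x y w : GL I4 F) : M4 F) * m = m := fun w => by
    induction w with
    | nil => exact one_mul m
    | cons b w ih => rw [ev, Units.val_mul, mul_assoc, ih]; cases b <;> assumption
  have h1 : ((ev x y w ^ 2 : GL I4 F) : M4 F) * m = m := by rw [sq, Units.val_mul, mul_assoc, key, key]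
  rw [h, Units.val_neg, Units.val_one, neg_one_mul] at h1
  exact (smul_eq_zero.1 (show (2 : F) • m = 0 by linear_combination (norm := module) -h1)).resolve_left h2

theorem Z5_eq_zero_of_five (h5 : (5 : F) = 0) {g : GL I4 F} (h : g ^ 5 = 1) : Z5 g = 0 := by
  have := (CharP.charP_iff_prime_eq_zero Nat.prime_five).2 (show ((5 : ℕ) : F) = 0 by exact_mod_cast h5)
  have := Fact.mk Nat.prime_five
  have h1 := pow_four_eq_zero ⟨5, sub_one_pow_char 5 h⟩
  have h2 := mul_Y g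
  have h3 : (g : M4 F) * Y g = Y g * g := by rw [mul_Y, Y, add_mul, Units.inv_mul]
  have h4 : (g : M4 F) * (g * Z5 g) = 0 := by
    rw [Z5]
    simp only [pow_succ, pow_zero] at h1
    linear_combination (norm := (simp only [nc]; module)) h1 + (g : M4 F) * h2 * Y g + (g : M4 F) * h2 + (g : M4 F) * g * h2 + h2 +
      h5 • ((g : M4 F) * g * g - g * g + g)
  rwa [Units.mul_right_eq_zero, Units.mul_right_eq_zero] at h4

/-- A Scott-type lemma for a triple of orders `5, 5, 3`. -/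
theorem Z5_eq_zero_of_triple (h2 : (2 : F) ≠ 0) (h3 : (3 : F) ≠ 0) {x y k : GL I4 F} (hx : x ∈ spGL 2 F)
    (hy : y ∈ spGL 2 F) (x5 : x ^ 5 = 1) (x1 : x ≠ 1) (e : y = k * x ^ 3 * k⁻¹) (z3 : (x * y) ^ 3 = 1)
    (tz : tr (x * y) = 1) (w : List Bool) (hw : ev x y w ^ 2 = -1) : Z5 x = 0 := by
  by_cases h5 : (5 : F) = 0
  · exact Z5_eq_zero_of_five h5 x5
  have y5 : y ^ 5 = 1 := by rw [e, conj_pow, ← pow_mul, mul_comm 3, pow_mul, x5, one_pow, mul_one, mul_inv_cancel]
  have hs : ∀ g ∈ spGL 2 F, sad ((5 : F)⁻¹ • Z5 g) = (5 : F)⁻¹ • Z5 g := fun g hg => by rw [sad_smul, sad_Z5 hg]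
  have hi : ∀ g : GL I4 F, g ^ 5 = 1 → ((5 : F)⁻¹ • Z5 g) * ((5 : F)⁻¹ • Z5 g) = (5 : F)⁻¹ • Z5 g := fun g hg => by
    rw [smul_mul_assoc, mul_smul_comm, Z5_mul_self hg, inv_smul_smul₀ h5]
  have hf : ∀ (g : GL I4 F) (m : M4 F), g ^ 5 = 1 → ((5 : F)⁻¹ • Z5 g) * m = m → (g : M4 F) * m = m := fun g m hg hm => by
    rw [← hm, ← mul_assoc, mul_smul_comm, mul_Z5 hg]
  rcases idem_cases h2 (hs x hx) (hi x x5) with h | h | h
  · exact (smul_eq_zero.1 h).resolve_left (inv_ne_zero h5)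
  · exact absurd (Units.ext (by simpa using hf x 1 x5 (by rw [h, one_mul]))) x1
  exfalso
  have h' : ((5 : F)⁻¹ • Z5 y).trace = 2 := by
    rw [← h, trace_smul, trace_smul, e, Z5_conj, trace_units_conj, Z5_pow x5 (by norm_num) (by norm_num)]
  obtain ⟨s, hs0⟩ : ∃ s, s = 1 + Y (x * y) := ⟨_, rfl⟩
  have s0 : s ≠ 0 := fun h0 => by
    have := congrArg trace hs0
    rw [h0, trace_add, trace_one4, trace_Y (mul_mem hx hy), tz, trace_zero] at this
    exact mul_ne_zero h2 h3 (by linear_combination -this)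
  have s1 : (x : M4 F) * (y * s) = s := by
    have i1 : (x * y) * (x * y) = (x * y)⁻¹ := by rw [eq_inv_iff_mul_eq_one, ← z3, pow_three']
    rw [← mul_assoc, ← Units.val_mul, hs0, mul_add, mul_Y, ← Units.val_mul, i1, Y, mul_one]
    abel
  by_cases h6 : (y : M4 F) * s - s = 0
  · rw [sub_eq_zero] at h6
    exact s0 (eq_zero_of_fix h2 (by rwa [h6] at s1) h6 w hw)
  · obtain ⟨m, m0, m1, m2⟩ := exists_common h2 (hs x hx) (hs y hy) (hi x x5) (hi y y5) h h' h6
      (by linear_combination (norm := (simp only [nc]; module)) (5 : F)⁻¹ • Z5 x * s1 - (5 : F)⁻¹ • Z5_mul x5 * ((y : M4 F) * s)) (by linear_combination (norm := (simp only [nc]; module)) (5 : F)⁻¹ • Z5_mul y5 * s)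
    exact m0 (eq_zero_of_fix h2 (hf x m x5 m1) (hf y m y5 m2) w hw)

namespace Hyp

variable (h : Hyp P) {S : Type*} [Group S] [Finite S] {π : P →* S}
include h

/-- No element of order `r` is quadratic if two such elements generate and `r²` does not divide the order. -/
theorem not_quad_prime (c : Cov π) {r : ℕ} (hr : r.Prime) (ho : Odd r) (hS : ¬ r ^ 2 ∣ Nat.card S) {x y : S}
    (e : Subgroup.closure {x, y} = ⊤) (hx : x ^ r = 1) (x1 : x ≠ 1) (hy : y ^ r = 1) (y1 : y ≠ 1) {l : GL I4 F}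
    (hl : l ∈ P) (lr : l ^ r = 1) (l1 : l ≠ 1) : ¬ Quad l := fun q => by
  have key : ∀ x : S, x ^ r = 1 → x ≠ 1 → ∃ a : P, π a = x ∧ Quad (a : GL I4 F) := fun x hx x1 => by
    obtain ⟨a, rfl, ha⟩ := h.exists_lift c ho hx
    obtain ⟨u, k, -, -, e⟩ := h.exists_conj_pow c hr ho hS (g := ⟨l, hl⟩) lr l1 ha
      fun e => x1 (by rw [show a = 1 from Subtype.ext e, map_one])
    exact ⟨a, rfl, e ▸ (q.pow k).conj _⟩
  obtain ⟨a, rfl, ha⟩ := key x hx x1
  obtain ⟨b, rfl, hb⟩ := key y hy y1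
  exact h.not_quad_cov c e ha hb

theorem five_all (c : Cov π) (hS : ¬ 5 ^ 2 ∣ Nat.card S) {x y : S} (e : Subgroup.closure {x, y} = ⊤) (hx : x ^ 5 = 1)
    (x1 : x ≠ 1) (hy : y ^ 5 = 1) (y1 : y ≠ 1) {g : GL I4 F} (hg : g ∈ P) (g5 : g ^ 5 = 1) (g1 : g ≠ 1) (z : Z5 g = 0) :
    ∀ l ∈ P, l ^ 5 = 1 → l ≠ 1 → Z5 l = 0 ∧ tr l = -1 := fun l hl l5 l1 => by
  obtain ⟨u, k, k0, k5, e'⟩ := h.exists_conj_pow c Nat.prime_five (by decide +kernel) hS (g := ⟨g, hg⟩) (l := ⟨l, hl⟩) g5 g1 l5 l1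
  have h1 : Z5 l = 0 := by rw [show l = _ from e', Z5_conj, Z5_pow g5 k0 k5, z, mul_zero, zero_mul]
  exact ⟨h1, (five_cases h.two (h.sp hl) h1).resolve_left
    (h.not_quad_prime c Nat.prime_five (by decide +kernel) hS e hx x1 hy y1 hl l5 l1)⟩

end Hyp

/-- an even permutation -/
abbrev al {n : ℕ} (g : Perm (Fin n)) (h : sign g = 1 := by decide) : alternatingGroup (Fin n) :=
  ⟨g, mem_alternatingGroup.2 h⟩

theorem gen5_33 : Subgroup.closure {al (n := 5) c[0, 1, 2], al c[2, 3, 4]} = ⊤ :=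
  closure_eq_top_of_words [[false], [true, false, true, true], [true, true, false, true]] (by decide +kernel)

theorem gen5_55 : Subgroup.closure {al (n := 5) c[0, 1, 2, 3, 4], al c[0, 1, 2, 4, 3]} = ⊤ :=
  closure_eq_top_of_words [[false, false, true, false, false], [true, false, true, true, true],
    [false, true, false, false, false]] (by decide +kernel)

theorem gen6_33 : Subgroup.closure {al (n := 6) c[0, 1, 2], al (c[0, 3, 4] * c[1, 2, 5])} = ⊤ :=
  closure_eq_top_of_words [[false], [true, false, false, true, true, false, true, false, true, true],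
    [true, true, false, true, true, false, true, false, true, true, false],
    [true, false, true, true, false, true, false, false, true, true]] (by decide +kernel)

theorem gen6_55 : Subgroup.closure {al (n := 6) c[0, 1, 2, 3, 4], al c[1, 2, 3, 4, 5]} = ⊤ :=
  closure_eq_top_of_words [[true, true, true, false, true, false], [false, true, false, false, true, true, false],
    [true, false, false, false, true, true, false, false, false, true], [false, true, true, true, true]]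
    (by decide +kernel)

theorem gen6_44 : Subgroup.closure {al (n := 6) (c[0, 1, 2, 3] * c[4, 5]), al (c[0, 2] * c[1, 3, 4, 5])} = ⊤ :=
  closure_eq_top_of_words [[false, false, true, false, false, false, true, false, true, false],
    [true, true, false, true, true, true, false, true, true], [true, false, true, false, false, false],
    [true, false, true, false, true, true, true]] (by decide +kernel)

/-- an explicit matrix of determinant one -/
def msl {R : Type*} [CommRing R] (a b c d : R) (h : a * d - b * c = 1 := by decide) : SL(2, R) :=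
  ⟨!![a, b; c, d], by rw [det_fin_two_of]; exact h⟩

instance factFive : Fact (Nat.Prime 5) := ⟨Nat.prime_five⟩

theorem Hyp.exists_sl25 (h : Hyp P) (e : PQ P ≃* alternatingGroup (Fin 5)) :
    ∃ ρ : SL(2, ZMod 5) →* GL I4 F, Lift P ρ := by
  obtain ⟨e'⟩ := Cls.nonempty_PSL2_five (F := ZMod 5) (ZMod.card 5)
  exact h.exists_sl2 (by rw [ZMod.card]) (by rw [ZMod.card]; decide +kernel) (e.trans e'.symm)

theorem Hyp.a5_data (h : Hyp P) (e : PQ P ≃* alternatingGroup (Fin 5)) : (3 : F) ≠ 0 ∧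
    (∀ l ∈ P, l ^ 3 = 1 → l ≠ 1 → tr l = 1) ∧ ∀ l ∈ P, l ^ 5 = 1 → l ≠ 1 → Z5 l = 0 ∧ tr l = -1 := by
  obtain ⟨π, c⟩ := exists_cov e
  obtain ⟨ρ, L⟩ := h.exists_sl25 e
  have h1 : ∀ l ∈ P, l ^ 3 = 1 → l ≠ 1 → ¬ Quad l := fun l => h.not_quad_prime c Nat.prime_three (by decide +kernel)
    (by rw [CL.Perm.card_alt_five]; decide +kernel) gen5_33 (by decide +kernel) (by decide +kernel) (by decide +kernel) (by decide +kernel)
  let x : SL(2, ZMod 5) := msl 1 1 0 1
  let y : SL(2, ZMod 5) := msl 1 0 2 1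
  let k : SL(2, ZMod 5) := msl 0 1 (-1) 0
  have z3 : (ρ x * ρ y) ^ 3 = 1 := by rw [← map_mul, ← map_pow, show (x * y) ^ 3 = 1 by decide +kernel, map_one]
  have z1 : ρ x * ρ y ≠ 1 := fun e => absurd (L.eq_one h.two ((map_mul ρ x y).trans e)) (by decide +kernel)
  have hz := mul_mem (L.mem x) (L.mem y)
  have h3 : (3 : F) ≠ 0 := fun h3 => h1 _ hz z3 z1 (quad_of_three h.two h3 (h.sp hz) z3)
  have h4 : ∀ l ∈ P, l ^ 3 = 1 → l ≠ 1 → tr l = 1 := fun l hl l3 l1 =>
    (three_cases h.two h3 (h.sp hl) l3 l1).resolve_left fun e => h1 l hl l3 l1 ⟨_, e⟩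
  have x5 : ρ x ^ 5 = 1 := by rw [← map_pow, show x ^ 5 = 1 by decide +kernel, map_one]
  have x1 : ρ x ≠ 1 := fun e => absurd (L.eq_one h.two e) (by decide +kernel)
  refine ⟨h3, h4, h.five_all c (by rw [CL.Perm.card_alt_five]; decide +kernel) gen5_55 (by decide +kernel) (by decide +kernel)
    (by decide +kernel) (by decide +kernel) (L.mem x) x5 x1 (Z5_eq_zero_of_triple h.two h3 (h.sp (L.mem x)) (h.sp (L.mem y)) x5 x1 (k := ρ k) ?_ z3
      (h4 _ hz z3 z1) [true, true, false, false] ?_)⟩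
  · rw [← map_pow, ← map_inv, ← map_mul, ← map_mul, show k * x ^ 3 * k⁻¹ = y by decide +kernel]
  · rw [← map_ev, ← map_pow, show ev x y [true, true, false, false] ^ 2 = -1 by decide +kernel, L.neg]

theorem exists_exotic : ∃ θ : alternatingGroup (Fin 6) ≃* alternatingGroup (Fin 6),
    ∀ c : alternatingGroup (Fin 6), IsThreeCycle (c : Perm (Fin 6)) → ¬ IsThreeCycle (θ c : Perm (Fin 6)) := by
  obtain ⟨ψ, h1, -⟩ := Known.S6.exists_outer (Ω := Fin 6) (by simp)
  exact ⟨(ψ.subgroupMap _).trans (MulEquiv.subgroupCongr (Known.map_alt_of_mulEquiv ψ)), fun c hc =>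
    Known.S6.not_three_of_not_inner (by simp) (fun ⟨g, hg⟩ => h1 _ 0
      (Known.S6.comap_stab_of_conj (f := MulEquiv.refl _) hg 0)) hc⟩

theorem Hyp.exists_cov_quad (h : Hyp P) (e : PQ P ≃* alternatingGroup (Fin 6)) (h3 : (3 : F) ≠ 0) :
    ∃ π : P →* alternatingGroup (Fin 6), Cov π ∧ ∀ l : P, IsThreeCycle (π l : Perm (Fin 6)) → Quad (l : GL I4 F) := by
  obtain ⟨π, c⟩ := exists_cov e
  obtain ⟨a, ha, a3⟩ := h.exists_lift c (r := 3) (x := x6) (by decide +kernel) (by decide +kernel)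
  obtain ⟨b, hb, b3⟩ := h.exists_lift c (r := 3) (x := y6) (by decide +kernel) (by decide +kernel)
  have hab : (a : GL I4 F) * b = b * a := by
    have := h.lift_eq c (a := a * b * a⁻¹) (b := b) (r := 3) (by rw [map_mul, map_mul, map_inv, ha, hb]; decide +kernel)
      (by decide +kernel) (by rw [Subgroup.coe_mul, Subgroup.coe_mul, Subgroup.coe_inv, conj_pow, b3, mul_one, mul_inv_cancel]) b3
    exact mul_inv_eq_iff_eq_mul.1 (congrArg Subtype.val this)
  have q1 : Quad (a : GL I4 F) → ∀ l : P, IsThreeCycle (π l : Perm (Fin 6)) → Quad (l : GL I4 F) := fun q l hl => by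
    obtain ⟨y, hy⟩ := isConj_iff.1 (alternatingGroup.isThreeCycle_isConj (by simp) three_x6 hl)
    exact h.quad_of_conj c (ha ▸ hy) q
  by_cases qa : Quad (a : GL I4 F)
  · exact ⟨π, c, q1 qa⟩
  have t : ∀ l : P, (l : GL I4 F) ^ 3 = 1 → π l ≠ 1 → ¬ Quad (l : GL I4 F) → tr (l : GL I4 F) = 1 := fun l l3 l1 q =>
    (three_cases h.two h3 (h.sp l.2) l3 fun e => l1 (by rw [show l = 1 from Subtype.ext e, map_one])).resolve_left
      fun e => q ⟨_, e⟩
  have qc : Quad ((a * b : P) : GL I4 F) := by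
    by_contra qc
    have c1 : Commute (a : GL I4 F) b := hab
    refine not_nine h.two h3 (h.sp a.2) (h.sp b.2) a3 b3 hab (t a a3 (by rw [ha]; decide +kernel) qa)
      (t b b3 (by rw [hb]; decide +kernel) fun q => qa ?_)
      (t (a * b) (by rw [Subgroup.coe_mul, c1.mul_pow, a3, b3, one_mul]) (by rw [map_mul, ha, hb]; decide +kernel) qc)
      (t (a * b⁻¹) (by rw [Subgroup.coe_mul, Subgroup.coe_inv, c1.inv_right.mul_pow, a3, inv_pow, b3, one_mul, inv_one])
        (by rw [map_mul, map_inv, ha, hb]; decide +kernel) fun q => qc ?_)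
    · exact h.quad_of_conj c (y := t6⁻¹) (by rw [ha, hb]; decide +kernel) q
    · exact h.quad_of_conj c (y := al (c[0, 3] * c[1, 4, 2, 5])) (by simp only [map_mul, map_inv, ha, hb]; decide +kernel) q
  obtain ⟨θ, hθ⟩ := exists_exotic
  refine ⟨θ.toMonoidHom.comp π, ⟨θ.surjective.comp c.surj, fun l => θ.map_eq_one_iff.trans (c.ker l)⟩, fun l hl => ?_⟩
  obtain ⟨y, hy⟩ := conj_xy6 (z := π l) (by
    rw [← θ.orderOf_eq, ← Subgroup.orderOf_coe]; exact hl.orderOf) fun h1 => hθ _ h1 hl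
  exact h.quad_of_conj c (by rw [map_mul, ha, hb, hy]) qc

theorem Hyp.a6_data (h : Hyp P) (e : PQ P ≃* alternatingGroup (Fin 6)) : (3 : F) ≠ 0 ∧
    (∀ l ∈ P, l ^ 4 = -1 → tr l = 0) ∧ (∀ l ∈ P, l ^ 5 = 1 → l ≠ 1 → Z5 l = 0 ∧ tr l = -1) ∧
    ∃ (π : P →* alternatingGroup (Fin 6)) (g : P), Cov π ∧ (g : GL I4 F) ^ 5 = 1 ∧ (g : GL I4 F) ≠ 1 ∧
      ∀ l : P, (π l : Perm (Fin 6)) 5 = 5 → ((l : GL I4 F) : M4 F) * Y (g : GL I4 F) = Y (g : GL I4 F) * (l : GL I4 F) := by
  have h3 : (3 : F) ≠ 0 := fun h3 => by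
    obtain ⟨π, c⟩ := exists_cov e
    obtain ⟨a, ha, a3⟩ := h.exists_lift c (r := 3) (x := al c[0, 1, 2]) (by decide +kernel) (by decide +kernel)
    obtain ⟨b, hb, b3⟩ := h.exists_lift c (r := 3) (x := al (c[0, 3, 4] * c[1, 2, 5])) (by decide +kernel) (by decide +kernel)
    exact h.not_quad_cov c (ha ▸ hb ▸ gen6_33) (quad_of_three h.two h3 (h.sp a.2) a3) (quad_of_three h.two h3 (h.sp b.2) b3)
  obtain ⟨π, c, hq⟩ := h.exists_cov_quad e h3
  obtain ⟨a, ha⟩ := c.surj (al c[0, 1, 2])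
  obtain ⟨b, hb⟩ := c.surj (al c[2, 3, 4])
  obtain ⟨g, hg, g5⟩ := h.exists_lift c (r := 5) (x := al c[0, 1, 2, 3, 4]) (by decide +kernel) (by decide +kernel)
  have g1 : (g : GL I4 F) ≠ 1 := fun e => by
    rw [show g = 1 from Subtype.ext e, map_one] at hg; exact absurd hg (by decide +kernel)
  obtain ⟨c1, c2⟩ := (hq a (by rw [ha]; exact card_support_eq_three_iff.1 (by decide +kernel))).comm
    (hq b (by rw [hb]; exact card_support_eq_three_iff.1 (by decide +kernel)))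
  have c3 : ((a : GL I4 F) : M4 F) * Y (g : GL I4 F) = Y (g : GL I4 F) * (a : GL I4 F) ∧
      ((b : GL I4 F) : M4 F) * Y (g : GL I4 F) = Y (g : GL I4 F) * (b : GL I4 F) := by
    rcases h.eq_or_neg c (a := a * b) (b := g) (by rw [map_mul, ha, hb, hg]; decide +kernel) with e | e <;> rw [e]
    · exact ⟨c1, c2⟩
    · simp only [Y_neg, mul_neg, neg_mul, neg_inj]; exact ⟨c1, c2⟩
  have hz : Z5 (g : GL I4 F) = 0 := by
    refine eq_zero_of_fix h.two (mul_Z5 g5) (y := (a : GL I4 F) * g * (a : GL I4 F)⁻¹) ?_ [true, false, false, false] ?_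
    · have c4 : ((a : GL I4 F) : M4 F) * Z5 (g : GL I4 F) = Z5 (g : GL I4 F) * (a : GL I4 F) := by
        rw [Z5]; linear_combination (norm := (simp only [nc]; module)) c3.1 * Y (g : GL I4 F) + Y (g : GL I4 F) * c3.1 + c3.1
      have c5 : (((a : GL I4 F)⁻¹ : GL I4 F) : M4 F) * Z5 (g : GL I4 F) = Z5 (g : GL I4 F) * ((a : GL I4 F)⁻¹ : GL I4 F) := by
        rw [Units.inv_mul_eq_iff_eq_mul, ← mul_assoc, c4, mul_assoc, Units.mul_inv, mul_one]
      rw [Units.val_mul, Units.val_mul, mul_assoc, mul_assoc, c5, ← mul_assoc _ (Z5 _), mul_Z5 g5, ← c5, ← mul_assoc,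
        Units.mul_inv, one_mul]
    · have e1 : π (ev g (a * g * a⁻¹) [true, false, false, false]) = al (c[0, 4] * c[2, 3]) := by
        rw [map_ev, map_mul, map_mul, map_inv, ha, hg]; decide +kernel
      have e2 := h.sq_eq c (l := ev g (a * g * a⁻¹) [true, false, false, false]) (by rw [e1]; decide +kernel) (by rw [e1]; decide +kernel)
      have e3 := map_ev P.subtype g (a * g * a⁻¹) [true, false, false, false]
      generalize [true, false, false, false] = w at e2 e3 ⊢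
      exact (congrArg (· ^ 2) e3.symm).trans e2
  refine ⟨h3, fun l hl l4 => (eight_cases h.two (h.sp hl) l4).resolve_left fun q => ?_,
    h.five_all c (by rw [CL.Perm.card_alt_six]; decide +kernel) gen6_55 (by decide +kernel) (by decide +kernel) (by decide +kernel) (by decide +kernel) g.2 g5 g1 hz,
    π, g, c, g5, g1, fun l hl => ?_⟩
  · have o4 : orderOf (π ⟨l, hl⟩) = 4 := orderOf_eq_prime_pow (p := 2) (n := 1) (fun e => by
      rcases h.pow_cases c e with e | e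
      · exact neg_one_ne_one h.two (by rw [← l4, show 4 = 2 ^ 1 * 2 from rfl, pow_mul, show l ^ 2 ^ 1 = _ from e, one_pow])
      · exact neg_one_ne_one h.two (by
          rw [← l4, show 4 = 2 ^ 1 * 2 from rfl, pow_mul, show l ^ 2 ^ 1 = _ from e, neg_one_sq]))
      (by rw [← map_pow, c.ker]; exact (show l ^ 4 ∈ _ from l4 ▸ neg_one_mem_scalars))
    have key : ∀ (x : alternatingGroup (Fin 6)) (t : Perm (Fin 6)), (x : Perm (Fin 6)).cycleType = {4, 2} → t * x = x * t →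
        sign t = -1 → ∃ a : P, π a = x ∧ Quad (a : GL I4 F) := fun x t hx ht hs => by
      obtain ⟨y, hy⟩ := exists_alt_conj (isConj_iff_cycleType_eq.2 (hx.trans ((cyc_small (by decide +kernel) _).1 o4).symm)) ht hs
      obtain ⟨a, rfl⟩ := c.surj x
      exact ⟨a, rfl, h.quad_of_conj c (a := ⟨l, hl⟩) (y := y⁻¹) (by rw [← hy]; group) q⟩
    obtain ⟨a, ha, qa⟩ := key (al (c[0, 1, 2, 3] * c[4, 5])) (swap 4 5) (by decide +kernel) (by decide +kernel) (by decide +kernel)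
    obtain ⟨b, hb, qb⟩ := key (al (c[0, 2] * c[1, 3, 4, 5])) (swap 0 2) (by decide +kernel) (by decide +kernel) (by decide +kernel)
    exact h.not_quad_cov c (ha ▸ hb ▸ gen6_44) qa qb
  · have h1 : π l ∈ (Subgroup.closure {a, b}).map π := by
      rw [MonoidHom.map_closure, Set.image_pair, ha, hb]
      exact mem_closure_of_words (Finset.univ.erase 5) (by decide +kernel) (by decide +kernel)
        [[false], [true, false, true, true], [true, true, false, true]] (by decide +kernel)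
        fun i hi => Finset.mem_erase.2 ⟨fun e => hi (e ▸ hl), Finset.mem_univ _⟩
    obtain ⟨k, hk, h2⟩ := h1
    have h4 : Commute ((k : GL I4 F) : M4 F) (Y (g : GL I4 F)) := by
      clear h2
      induction hk using Subgroup.closure_induction with
      | mem x hx => rcases hx with rfl | rfl; exacts [c3.1, c3.2]
      | one => exact Commute.one_left _
      | mul x y _ _ hx hy => exact hx.mul_left hy
      | inv x _ hx => exact hx.units_inv_left
    rcases h.eq_or_neg c h2 with e | e <;> rw [e]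
    · exact h4
    · exact h4.neg_left

theorem Hyp.tr_fix_alt (h : Hyp P) (p : ℕ) [Fact p.Prime] [CharP F p] (h3 : (3 : F) ≠ 0) {S : Type*} [Group S]
    {π : P →* S} (c : Cov π) (h5 : ∀ l ∈ P, l ^ 5 = 1 → l ≠ 1 → tr l ^ p = tr l) [Finite F] {l : P}
    (ho : orderOf (π l) ∈ [1, 2, 3, 5]) : tr (l : GL I4 F) ^ p = tr (l : GL I4 F) := by
  have hp : p.Prime := Fact.out
  have p2 : ¬ 2 ∣ p := fun e => h.two (by
    obtain rfl := (Nat.prime_dvd_prime_iff_eq Nat.prime_two hp).1 e; simpa using CharP.cast_eq_zero F 2)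
  have p3 : ¬ 3 ∣ p := fun e => h3 (by
    obtain rfl := (Nat.prime_dvd_prime_iff_eq Nat.prime_three hp).1 e; simpa using CharP.cast_eq_zero F 3)
  have key : ∀ r, π l ^ r = 1 → (l : GL I4 F) ^ (r * 2) = 1 := fun r hr => by
    rcases h.pow_cases c hr with e | e <;> simp [pow_mul, e]
  have h1 := pow_orderOf_eq_one (π l)
  simp only [List.mem_cons, List.not_mem_nil, or_false] at ho
  rcases ho with e | e | e | e <;> rw [e] at h1
  · exact tr_fix p (h.sp l.2) (key _ h1) (by omega)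
  · exact tr_fix p (h.sp l.2) (key _ h1) (by omega)
  · exact tr_fix p (h.sp l.2) (key _ h1) (by
      obtain e | e : p % 6 = 1 ∨ p % 6 = 5 := by omega
      all_goals omega)
  · obtain ⟨g, hg, g5⟩ := h.exists_lift c (by decide +kernel) h1
    have := h5 g g.2 g5 fun e' => by
      rw [← hg, show g = 1 from Subtype.ext e', map_one, orderOf_one] at e; omega
    rcases h.eq_or_neg c hg with e' | e' <;> rw [e']
    · exact this
    · rw [tr_neg, (Nat.odd_iff.2 (by omega)).neg_pow, this]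

theorem five_le (p : ℕ) [Fact p.Prime] [CharP F p] (h2 : (2 : F) ≠ 0) (h3 : (3 : F) ≠ 0) : 5 ≤ p :=
  (Fact.out : p.Prime).five_le_of_ne_two_of_ne_three (by rintro rfl; exact h2 (by simpa using CharP.cast_eq_zero F 2))
    (by rintro rfl; exact h3 (by simpa using CharP.cast_eq_zero F 3))

theorem neg_one_pow_char' (p : ℕ) [Fact p.Prime] [CharP F p] {a : F} (h : a = -1) : a ^ p = a := by
  rw [h, neg_one_pow_char]

theorem Hyp.a7_data [Finite F] (h : Hyp P) (p : ℕ) [Fact p.Prime] [CharP F p] (e : PQ P ≃* alternatingGroup (Fin 7)) :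
    p = 7 ∧ ∀ l ∈ P, tr l ^ p = tr l := by
  obtain ⟨π, c⟩ := exists_cov e
  obtain ⟨-, r2, r3, r4⟩ := rel7
  have hconj : ∀ {r k : ℕ} {g : P} {y : alternatingGroup (Fin 7)}, Odd r → (g : GL I4 F) ^ r = 1 →
      y * π g * y⁻¹ = π g ^ k → ∃ u : GL I4 F, u * g * u⁻¹ = g ^ k := fun {r k g y} hr hg hy => by
    obtain ⟨u, rfl⟩ := c.surj y
    exact ⟨u, congrArg Subtype.val (h.lift_eq c (a := u * g * u⁻¹) (b := g ^ k)
      (by rw [map_mul, map_mul, map_inv, map_pow, hy]) hr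
      (by rw [Subgroup.coe_mul, Subgroup.coe_mul, Subgroup.coe_inv, conj_pow, hg, mul_one, mul_inv_cancel])
      (by rw [Subgroup.coe_pow, ← pow_mul, mul_comm, pow_mul, hg, one_pow]))⟩
  obtain ⟨g, hg, g7⟩ := h.exists_lift c (by decide +kernel) r2
  obtain ⟨u, hu⟩ := hconj (by decide +kernel) g7 (hg ▸ r4)
  have h7 := seven_eq_zero h.two (h.sp g.2) g7 (fun e => r3 (by rw [← hg, show g = 1 from Subtype.ext e, map_one])) hu
  obtain rfl : p = 7 := (Nat.prime_dvd_prime_iff_eq Fact.out Nat.prime_seven).1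
    ((CharP.cast_eq_zero_iff F p 7).1 (by exact_mod_cast h7))
  refine ⟨rfl, fun l hl => ?_⟩
  have ho : orderOf (π ⟨l, hl⟩) ∈ CL.Perm.Spec (alternatingGroup (Fin 7)) := ⟨_, rfl⟩
  rw [CL.Perm.spec_alt7] at ho
  have h1 := pow_orderOf_eq_one (π ⟨l, hl⟩)
  by_cases o4 : orderOf (π ⟨l, hl⟩) = 4
  · rw [o4] at h1
    exact tr_fix 7 (h.sp hl) (m := 4 * 2) (by
      rcases h.pow_cases c h1 with e | e <;> rw [pow_mul, show l ^ 4 = _ from e] <;> simp)
      (by decide +kernel)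
  by_cases o7 : orderOf (π ⟨l, hl⟩) = 7
  · rw [o7] at h1
    simpa using tr_fix_of_scalar 7 h.two (k := 1) (h.pow_cases c h1)
  by_cases o6 : orderOf (π ⟨l, hl⟩) = 6
  · obtain ⟨s, hs⟩ := isConj_iff.1 (isConj_iff_cycleType_eq.2
      ((show (c[0, 1, 2] * c[3, 4] * c[5, 6] : Perm (Fin 7)).cycleType = {3, 2, 2} by decide +kernel).trans
        ((cyc_small le_rfl _).2 o6).symm))
    obtain ⟨k, hk⟩ := c.surj ⟨s * (c[3, 5] * c[4, 6]) * s⁻¹,
      (inferInstance : (alternatingGroup (Fin 7)).Normal).conj_mem _ (al (c[3, 5] * c[4, 6])).2 s⟩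
    have hk' : (π k : Perm (Fin 7)) = s * (c[3, 5] * c[4, 6]) * s⁻¹ := congrArg Subtype.val hk
    have key : ∀ (a : P) (x : Perm (Fin 7)), (π a : Perm (Fin 7)) = s * x * s⁻¹ → x ≠ 1 → x ^ 2 = 1 →
        (a : GL I4 F) ^ 2 = -1 := fun a x ha x1 x2 =>
      h.sq_eq c (fun e => x1 (by rw [e] at ha; simpa using ha.symm)) (Subtype.ext (by
        rw [Subgroup.coe_pow, ha, conj_pow, x2, mul_one, mul_inv_cancel]; rfl))
    have k2 := key k _ hk' (by decide +kernel) (by decide +kernel)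
    have l2 := key (⟨l, hl⟩ ^ 3) ((c[0, 1, 2] * c[3, 4] * c[5, 6]) ^ 3)
      (by rw [map_pow, Subgroup.coe_pow, ← hs, conj_pow]) (by decide +kernel) (by decide +kernel)
    have m2 := key (k * ⟨l, hl⟩ ^ 3) (c[3, 5] * c[4, 6] * (c[0, 1, 2] * c[3, 4] * c[5, 6]) ^ 3)
      (by rw [map_mul, map_pow, Subgroup.coe_mul, Subgroup.coe_pow, ← hs, conj_pow, hk']; group) (by decide +kernel) (by decide +kernel)
    change (l ^ 3) ^ 2 = -1 at l2
    change ((k : GL I4 F) * l ^ 3) ^ 2 = -1 at m2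
    rcases h.eq_or_neg c (a := ⟨l, hl⟩) (b := k * ⟨l, hl⟩ * k⁻¹) (Subtype.ext (by
      rw [map_mul, map_mul, map_inv, Subgroup.coe_mul, Subgroup.coe_mul, Subgroup.coe_inv, hk', ← hs, eq_mul_inv_iff_mul_eq,
        conj_mul, conj_mul]
      congr 2
      decide +kernel)) with e | e
    · have c1 : Commute (k : GL I4 F) l := mul_inv_eq_iff_eq_mul.1 e
      rw [(c1.pow_right 3).mul_pow, k2, l2, neg_mul_neg, one_mul] at m2
      exact absurd m2.symm (neg_one_ne_one h.two)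
    · have h2 := tr_conj (k : GL I4 F) l
      rw [show (k : GL I4 F) * l * (k : GL I4 F)⁻¹ = -l from e, tr_neg] at h2
      rw [(mul_eq_zero.1 (show 2 * tr l = 0 by linear_combination -h2)).resolve_left h.two]
      simp
  refine h.tr_fix_alt 7 (fun h3 => one_ne_zero (α := F) (by linear_combination h7 - 2 * h3)) c (fun m hm m5 m1 => ?_)
    (l := ⟨l, hl⟩) (by simp only [Set.mem_ofPred_eq, List.mem_cons, List.not_mem_nil, or_false] at ho ⊢; omega)
  obtain ⟨y, hy⟩ := alt_conj_prime Nat.prime_five (by simp) (x₀ := al (n := 7) c[0, 1, 2, 3, 4])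
    (y₀ := al (c[1, 2, 4, 3] * c[5, 6])) (x := π ⟨m, hm⟩) (orderOf_eq_prime (by decide +kernel) (by decide +kernel))
    (orderOf_eq_prime (by rw [← map_pow, show (⟨m, hm⟩ : P) ^ 5 = 1 from Subtype.ext m5, map_one])
      (h.ne_one c (r := 5) (by decide +kernel) m5 m1)) (k := 2) (by decide +kernel)
  obtain ⟨u, hu⟩ := hconj (g := ⟨m, hm⟩) (by decide +kernel) m5 hy
  have h2 := tr_pow_char_pow 7 m 1
  rw [pow_one, pow_eq_pow_mod 7 m5] at h2
  rw [← h2, ← tr_conj u m]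
  exact congrArg tr hu.symm

end CL.Low.S4

namespace CL.Low

open Matrix Cfsg Cfsg.Geo S4

universe u

theorem sp4A : Sp4A.{u} := by
  intro F _ _ p _ P h2 hsp hqs hinv
  have h : Hyp P := ⟨h2, hsp, hqs, hinv⟩
  have := Fact.mk (CharP.char_is_prime F p)
  rcases h.gw with ⟨K, _, _, hodd, h3, ⟨e⟩⟩ | ⟨⟨e⟩⟩
  swap
  · obtain ⟨rfl, h1⟩ := h.a7_data p e
    exact ⟨by decide +kernel, Or.inl ⟨h1, Or.inr (Or.inr ⟨rfl, ⟨e⟩⟩)⟩⟩
  by_cases h5 : Fintype.card K = 5
  · obtain ⟨e'⟩ := Cls.nonempty_PSL2_five h5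
    obtain ⟨a1, -, a2⟩ := h.a5_data (e.trans e')
    obtain ⟨π, c⟩ := exists_cov (e.trans e')
    refine ⟨five_le p h2 a1, Or.inl ⟨fun l hl => ?_, Or.inl ⟨e.trans e'⟩⟩⟩
    have ho : orderOf (π ⟨l, hl⟩) ∈ CL.Perm.Spec (alternatingGroup (Fin 5)) := ⟨_, rfl⟩
    rw [CL.Perm.spec_alt5] at ho
    exact h.tr_fix_alt p a1 c (fun m hm m5 m1 => neg_one_pow_char' p (a2 m hm m5 m1).2) (l := ⟨l, hl⟩) ho
  by_cases h9 : Fintype.card K = 9
  · obtain ⟨e'⟩ := Cfsg.Agent.S0254.result h9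
    obtain ⟨a1, a4, a2, -⟩ := h.a6_data (e.trans e')
    obtain ⟨π, c⟩ := exists_cov (e.trans e')
    refine ⟨five_le p h2 a1, Or.inl ⟨fun l hl => ?_, Or.inr (Or.inl ⟨e.trans e'⟩)⟩⟩
    have ho : orderOf (π ⟨l, hl⟩) ∈ CL.Perm.Spec (alternatingGroup (Fin 6)) := ⟨_, rfl⟩
    rw [CL.Perm.spec_alt6] at ho
    by_cases o4 : orderOf (π ⟨l, hl⟩) = 4
    · rcases h.pow_cases c (orderOf_dvd_iff_pow_eq_one.1 o4.dvd) with e | e
      · exact tr_fix p (hsp hl) e (by have := (Fact.out : p.Prime).eq_two_or_odd; have := five_le p h2 a1; omega)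
      · rw [a4 l hl e, zero_pow (Fact.out : p.Prime).ne_zero]
    · exact h.tr_fix_alt p a1 c (fun m hm m5 m1 => neg_one_pow_char' p (a2 m hm m5 m1).2) (l := ⟨l, hl⟩)
        (by simp only [Set.mem_ofPred_eq, List.mem_cons, List.not_mem_nil, or_false] at ho ⊢; omega)
  rw [Nat.odd_iff] at hodd
  have hK2 : (2 : K) ≠ 0 := Ring.two_ne_zero fun h2 => by
    have := FiniteField.even_card_of_char_two h2
    omega
  obtain ⟨ρ, L⟩ := h.exists_sl2 (by omega) h9 e
  have hc := L.char_eq h hK2 (by omega) h9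
  have : CharP K p := by rw [← ringChar.eq F p, hc]; exact ringChar.charP K
  obtain ⟨b1, b2⟩ := L.card_le h p hK2 h9
  refine ⟨five_le p h2 fun h3 => b1 1 one_ne_zero ?_, Or.inr ⟨K, _, _, this, by omega, b2,
    fun l hl => L.tr_pow_card h p hK2 hl, ⟨e⟩⟩⟩
  obtain rfl : p = 3 := (Nat.prime_dvd_prime_iff_eq Fact.out Nat.prime_three).1
    ((CharP.cast_eq_zero_iff F p 3).1 (by exact_mod_cast h3))
  exact sub_one_pow_char 3 (by rw [← map_pow, upA_pow, CharP.cast_eq_zero, zero_mul, upA_zero, map_one])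

end CL.Low
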