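/-
Project LOWDIM: root systems of type `A` among the self-adjoint matrices and their stabilisers in `Sp₄`.
-/
import Cfsg.Agent.Low.Sp4A4

set_option autoImplicit false

namespace CL.Low.S4

open Matrix Cfsg Cfsg.Geo CL.Asch CL.SLn Module Equiv

universe u

variable {F : Type u} [Field F] {P : Subgroup (GL I4 F)}

/-- conjugation of a matrix -/
def cj (g : GL I4 F) (x : M4 F) : M4 F := g * x * (g⁻¹ : GL I4 F)

theorem cj_mul (g h : GL I4 F) (x : M4 F) : cj (g * h) x = cj g (cj h x) := by
  simp only [cj, _root_.mul_inv_rev, Units.val_mul, mul_assoc]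

theorem cj_one (x : M4 F) : cj 1 x = x := by simp [cj]

theorem cj_sub (g : GL I4 F) (x y : M4 F) : cj g (x - y) = cj g x - cj g y := by simp only [cj, mul_sub, sub_mul]

theorem cj_neg (g : GL I4 F) (x : M4 F) : cj (-g) x = cj g x := by simp only [cj, inv_neg, Units.val_neg, nc, neg_neg]

theorem cj_zero (g : GL I4 F) : cj g 0 = 0 := by simp only [cj, nc]

theorem cj_anti (g : GL I4 F) {x y : M4 F} {c : F} (h : x * y + y * x = c • 1) :
    cj g x * cj g y + cj g y * cj g x = c • 1 := by
  simp only [cj]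
  linear_combination (norm := (simp only [nc]; module)) (g : M4 F) * h * ((g⁻¹ : GL I4 F) : M4 F) + (g : M4 F) * x * Units.inv_mul g * y * ((g⁻¹ : GL I4 F) : M4 F) +
    (g : M4 F) * y * Units.inv_mul g * x * ((g⁻¹ : GL I4 F) : M4 F) + c • Units.mul_inv g

theorem trace_cj (g : GL I4 F) (x : M4 F) : (cj g x).trace = x.trace := trace_units_conj g x

theorem sad_cj {g : GL I4 F} (hg : g ∈ spGL 2 F) {x : M4 F} (hx : sad x = x) : sad (cj g x) = cj g x := by
  rw [cj, sad_mul, sad_mul, sad_coe hg, sad_coe_inv hg, hx, mul_assoc]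

/-- the stabiliser in `Sp₄` of a set of matrices -/
def stab [Finite F] (S : Set (M4 F)) : Subgroup (GL I4 F) where
  carrier := {g | g ∈ spGL 2 F ∧ ∀ x ∈ S, cj g x ∈ S}
  mul_mem' := fun {g h} hg hh => ⟨mul_mem hg.1 hh.1, fun x hx => by rw [cj_mul]; exact hg.2 _ (hh.2 x hx)⟩
  one_mem' := ⟨one_mem _, fun x hx => by rwa [cj_one]⟩
  inv_mem' := fun {g} hg => ⟨inv_mem hg.1, fun x hx => by
    obtain ⟨n, hn⟩ := (Submonoid.mem_powers_iff _ _).1 (mem_powers_iff_mem_zpowers.2 (inv_mem (Subgroup.mem_zpowers g)))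
    rw [← hn]
    clear hn
    induction n with
    | zero => rwa [pow_zero, cj_one]
    | succ n ih => rw [pow_succ', cj_mul]; exact hg.2 _ ih⟩

theorem comm_of_stable (h2 : (2 : F) ≠ 0) {w N : M4 F} {c : F} (hw : w * w = c • 1) (h1 : N * N = 0) (h3 : sad N = -N)
    (h4 : N * w * N = 0) (h : ∀ g ∈ spGL 2 F, w * cj g w + cj g w * w = (2 * c) • 1 → cj g w = w ∨ cj g w = -w) :
    N * w = w * N := by
  let T : GL I4 F := ⟨1 + N, 1 - N, by linear_combination (norm := (simp only [nc]; module)) -h1, by linear_combination (norm := (simp only [nc]; module)) -h1⟩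
  have e : cj T w = w + (N * w - w * N) := by
    change (1 + N) * w * (1 - N) = _
    linear_combination (norm := (simp only [nc]; module)) -h4
  rcases h T (mem_sp_iff.2 (by
    change sad (1 + N) * (1 + N) = 1
    rw [sad_add, sad_one, h3]; linear_combination (norm := (simp only [nc]; module)) -h1)) (by rw [e]; linear_combination (norm := (simp only [nc]; module)) (2 : F) • hw + N * hw - hw * N) with h5 | h5 <;> rw [e] at h5
  · linear_combination (norm := module) h5
  · refine sub_eq_zero.1 (smul_right_injective _ h2 ?_)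
    linear_combination (norm := (simp only [nc]; module)) N * h5 - h5 * N - h1 * w - w * h1 + (2 : F) • h4

/-- A non-zero traceless self-adjoint matrix is moved by a transvection to a matrix with the same inner product. -/
theorem eq_zero_of_stable (h2 : (2 : F) ≠ 0) {w : M4 F} {c : F} (hs : sad w = w) (ht : w.trace = 0) (hw : w * w = c • 1)
    (h : ∀ g ∈ spGL 2 F, w * cj g w + cj g w * w = (2 * c) • 1 → cj g w = w ∨ cj g w = -w) : w = 0 := by
  obtain ⟨a, b, c', d, e, f, rfl⟩ := exists_form h2 hs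
  have key : ∀ B C : Matrix (Fin 2) (Fin 2) F, Bᵀ = B → Cᵀ = C →
      sad (fromBlocks 0 B C 0 : M4 F) = -fromBlocks 0 B C 0 := fun B C hB hC => by
    simp [sad, J, fromBlocks_transpose, fromBlocks_multiply, fromBlocks_neg, hB, hC]
  have h1 := comm_of_stable h2 hw (N := fromBlocks 0 !![1, 0; 0, 0] 0 0) (by simp [fromBlocks_multiply])
    (key _ _ (by ext i j; fin_cases i <;> fin_cases j <;> rfl) (by simp))
    (by simp [fromBlocks_multiply, ← fromBlocks_zero]; ext i j; fin_cases i <;> fin_cases j <;> rfl) h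
  have h3 := comm_of_stable h2 hw (N := fromBlocks 0 0 !![1, 0; 0, 0] 0) (by simp [fromBlocks_multiply])
    (key _ _ (by simp) (by ext i j; fin_cases i <;> fin_cases j <;> rfl))
    (by simp [fromBlocks_multiply, ← fromBlocks_zero]; ext i j; fin_cases i <;> fin_cases j <;> rfl) h
  have h4 := comm_of_stable h2 hw (N := fromBlocks 0 !![1, 1; 1, 1] 0 0) (by simp [fromBlocks_multiply])
    (key _ _ (by ext i j; fin_cases i <;> fin_cases j <;> rfl) (by simp))
    (by simp [fromBlocks_multiply, ← fromBlocks_zero]; ext i j; fin_cases i <;> fin_cases j <;> rfl) h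
  have e1 : c' = 0 := by simpa [fromBlocks_multiply] using congrFun (congrFun h1 (.inl 0)) (.inr 1)
  have e2 : f = 0 := by simpa [fromBlocks_multiply] using congrFun (congrFun h1 (.inl 0)) (.inl 1)
  have e3 : b = 0 := by simpa [fromBlocks_multiply] using congrFun (congrFun h3 (.inr 0)) (.inl 1)
  have e4 : e = 0 := by simpa [fromBlocks_multiply] using congrFun (congrFun h3 (.inr 0)) (.inr 1)
  have e5 : d = a := by simpa [fromBlocks_multiply, e1, e3] using congrFun (congrFun h4 (.inl 0)) (.inr 1)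
  have e6 : a = 0 := by
    simp [Matrix.trace, Fintype.sum_sum_type, e5] at ht
    exact (mul_eq_zero.1 (show 4 * a = 0 by linear_combination ht)).resolve_left (four_ne_zero' h2)
  rw [e1, e2, e3, e4, e5, e6]
  ext i j
  rcases i with i | i <;> rcases j with j | j <;> fin_cases i <;> fin_cases j <;> simp

/-- Matrices whose differences form a root system of type `A`. -/
structure Roots {ι : Type} [DecidableEq ι] (v : ι → M4 F) (α : ι → F) (γ : F) : Prop where
  two : (2 : F) ≠ 0
  three : (3 : F) ≠ 0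
  ne : γ ≠ 0
  adj : ∀ a, sad (v a) = v a
  tr : ∀ a, (v a).trace = 0
  gram : ∀ a b, v a * v b + v b * v a = (α a + α b + if a = b then γ else 0) • 1

/-- the roots -/
def rootSet {ι : Type} (v : ι → M4 F) : Set (M4 F) := {x | ∃ a b, a ≠ b ∧ x = v a - v b}

namespace Roots

variable {ι : Type} [DecidableEq ι] {v : ι → M4 F} {α : ι → F} {γ : F} (R : Roots v α γ)
include R

theorem ip (a b c d : ι) : (v a - v b) * (v c - v d) + (v c - v d) * (v a - v b) =
    ((if a = c then γ else 0) - (if a = d then γ else 0) - (if b = c then γ else 0) + if b = d then γ else 0) • 1 := by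
  linear_combination (norm := (simp only [nc]; module)) R.gram a c - R.gram a d - R.gram b c + R.gram b d

theorem sq {a b : ι} (h : a ≠ b) : (v a - v b) * (v a - v b) = γ • 1 := smul_right_injective _ R.two (by
  have := R.ip a b a b
  simp only [if_true, h, h.symm, if_false] at this
  linear_combination (norm := module) this)

theorem refl {a b : ι} (h : a ≠ b) (x : ι) :
    (v a - v b) * v x * (v a - v b) = (α a - α b) • (v a - v b) - γ • v (swap a b x) := by
  have h1 := R.sq h
  have h2 : (v a - v b) * v x + v x * (v a - v b) =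
      (α a - α b + ((if a = x then γ else 0) - if b = x then γ else 0)) • 1 := by linear_combination (norm := (simp only [nc]; module)) R.gram a x - R.gram b x
  have h3 : ((if a = x then γ else 0) - if b = x then γ else 0) • (v a - v b) - γ • v x = -γ • v (swap a b x) := by
    by_cases e1 : a = x
    · subst e1; simp only [if_true, h.symm, if_false, swap_apply_left]; module
    · by_cases e2 : b = x
      · subst e2; simp only [if_true, e1, if_false, swap_apply_right]; module
      · simp only [e1, e2, if_false, swap_apply_of_ne_of_ne (Ne.symm e1) (Ne.symm e2)]; module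
  generalize v a - v b = r at h1 h2 h3 ⊢
  linear_combination (norm := (simp only [nc]; module)) h2 * r - v x * h1 + h3

/-- The product of two reflections. -/
theorem exists_rot {a b c d : ι} (h : a ≠ b) (h' : c ≠ d) : ∃ k ∈ spGL 2 F, (k : M4 F) = γ⁻¹ • ((v a - v b) * (v c - v d)) ∧
    (∀ x y, cj k (v x - v y) = v ((swap a b * swap c d) x) - v ((swap a b * swap c d) y)) ∧
    (α a = α b → α c = α d → ∀ x, cj k (v x) = v ((swap a b * swap c d) x)) := by
  have h1 := R.sq h
  have h2 := R.sq h'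
  have r1 := R.refl h
  have r2 := R.refl h'
  have s1 : sad (v a - v b) = v a - v b := by rw [sad_sub, R.adj, R.adj]
  have s2 : sad (v c - v d) = v c - v d := by rw [sad_sub, R.adj, R.adj]
  generalize v a - v b = r at h1 r1 s1
  generalize v c - v d = s at h2 r2 s2
  have i1 : γ⁻¹ * γ = 1 := inv_mul_cancel₀ R.ne
  have key : ∀ r s : M4 F, r * r = γ • 1 → s * s = γ • 1 → γ⁻¹ • (r * s) * γ⁻¹ • (s * r) = 1 := fun r s h1 h2 => by
    linear_combination (norm := (simp only [nc]; module)) (γ⁻¹ * γ⁻¹) • r * h2 * r + (γ⁻¹ * γ⁻¹ * γ) • h1 + ((γ⁻¹ * γ + 1) * i1) • (1 : M4 F)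
  let k : GL I4 F := ⟨γ⁻¹ • (r * s), γ⁻¹ • (s * r), key r s h1 h2, key s r h2 h1⟩
  have e : ∀ x, cj k (v x) = v ((swap a b * swap c d) x) + (γ⁻¹ * ((α c - α d) • γ⁻¹)) • (r * s * r) -
      (γ⁻¹ * (α a - α b)) • r := fun x => by
    change γ⁻¹ • (r * s) * v x * γ⁻¹ • (s * r) = _
    rw [Perm.mul_apply]
    linear_combination (norm := (simp only [nc]; module)) (γ⁻¹ * γ⁻¹) • r * r2 x * r - (γ⁻¹ * γ⁻¹ * γ) • r1 (swap c d x) - (γ⁻¹ * (α a - α b) * i1) • r +
      ((γ⁻¹ * γ + 1) * i1) • v (swap a b (swap c d x))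
  refine ⟨k, mem_sp_iff.2 ?_, rfl, fun x y => by rw [cj_sub, e, e]; abel, fun e1 e2 x => by rw [e, e1, e2]; simp⟩
  change sad (γ⁻¹ • (r * s)) * γ⁻¹ • (r * s) = 1
  rw [sad_smul, sad_mul, s1, s2, key s r h2 h1]

omit [DecidableEq ι] R in
theorem rot_mem [Finite F] {k : GL I4 F} (hk : k ∈ spGL 2 F) {σ : Perm ι}
    (h : ∀ x y, cj k (v x - v y) = v (σ x) - v (σ y)) : k ∈ stab (rootSet v) :=
  ⟨hk, by rintro _ ⟨x, y, hxy, rfl⟩; exact ⟨_, _, σ.injective.ne hxy, h x y⟩⟩

theorem stab_lt [Finite F] {a b : ι} (h : a ≠ b) : stab (rootSet v) < spGL 2 F := by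
  refine lt_of_le_of_ne (fun g hg => hg.1) fun e => ?_
  have h1 := eq_zero_of_stable R.two (w := v a - v b) (by rw [sad_sub, R.adj, R.adj]) (by rw [trace_sub, R.tr, R.tr, sub_zero])
    (R.sq h) fun g hg h2 => by
      obtain ⟨c, d, hcd, e'⟩ := (e.ge hg).2 _ ⟨a, b, h, rfl⟩
      rw [e', R.ip] at h2
      have h3 := smul_one_inj h2
      have n1 : ∀ k : F, k ≠ 0 → k * γ ≠ 0 := fun k hk => mul_ne_zero hk R.ne
      rw [e']
      by_cases e1 : a = c <;> by_cases e2 : a = d <;> by_cases e3 : b = c <;> by_cases e4 : b = d <;>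
        simp only [e1, e2, e3, e4, hcd, hcd.symm, if_true, if_false] at h3 <;>
        first
          | exact absurd (e1.symm.trans e2) hcd
          | exact absurd (e3.symm.trans e4) hcd
          | exact absurd (e1.trans e3.symm) h
          | exact absurd (e2.trans e4.symm) h
          | exact Or.inl (by rw [e1, e4])
          | exact Or.inr (by rw [e2, e3, neg_sub])
          | exact absurd (by linear_combination -h3) (n1 1 one_ne_zero)
          | exact absurd (by linear_combination -h3) (n1 2 R.two)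
          | exact absurd (by linear_combination -h3) (n1 3 R.three)
  have h2 := R.sq h
  rw [h1, mul_zero, eq_comm, smul_eq_zero] at h2
  exact R.ne (h2.resolve_right one_ne_zero)

end Roots

/-- `2 (g + g⁻¹) + 1` -/
def W (g : GL I4 F) : M4 F := (2 : F) • Y g + 1

theorem W_inv (g : GL I4 F) : W g⁻¹ = W g := by rw [W, W, Y_inv]

theorem W_conj (h g : GL I4 F) : W (h * g * h⁻¹) = cj h (W g) := by
  rw [W, W, Y_conj, cj]; linear_combination (norm := (simp only [nc]; module)) -Units.mul_inv h

theorem W_two {g : GL I4 F} (h : Z5 g = 0) : W (g ^ 2) = -W g := by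
  rw [Z5_eq] at h; rw [W, W]; linear_combination (norm := module) (2 : F) • h

theorem W_pow {g : GL I4 F} (h : Z5 g = 0) (h5 : g ^ 5 = 1) {k : ℕ} (h0 : 0 < k) (h1 : k < 5) :
    W (g ^ k) = W g ∨ W (g ^ k) = -W g := by
  interval_cases k
  · exact Or.inl (by rw [pow_one])
  · exact Or.inr (W_two h)
  · exact Or.inr (by rw [show g ^ 3 = (g ^ 2)⁻¹ by rw [eq_inv_iff_mul_eq_one, ← pow_add, h5], W_inv, W_two h])
  · exact Or.inl (by rw [show g ^ 4 = g⁻¹ by rw [eq_inv_iff_mul_eq_one, ← pow_succ, h5], W_inv])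

theorem sad_W {g : GL I4 F} (hg : g ∈ spGL 2 F) : sad (W g) = W g := by rw [W, sad_add, sad_smul, sad_Y hg, sad_one]

theorem trace_W {g : GL I4 F} (hg : g ∈ spGL 2 F) (h : tr g = -1) : (W g).trace = 0 := by
  rw [W, trace_add, trace_smul, trace_Y hg, h, trace_one4, smul_eq_mul]; ring

theorem W_mul_self {g : GL I4 F} (h : Z5 g = 0) : W g * W g + W g * W g = (10 : F) • 1 := by
  rw [Z5] at h; rw [W]; linear_combination (norm := (simp only [nc]; module)) (8 : F) • h

/-- A simplex: inner products `10` and `-2`. -/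
abbrev Simplex (w : Fin 6 → M4 F) : Prop := Roots w (fun _ => -1) 12

theorem simplex_mk (h2 : (2 : F) ≠ 0) (h3 : (3 : F) ≠ 0) {w : Fin 6 → M4 F} (hs : ∀ i, sad (w i) = w i)
    (ht : ∀ i, (w i).trace = 0) (h1 : ∀ i, w i * w i + w i * w i = (10 : F) • 1)
    (h4 : ∀ i j, i ≠ j → w i * w j + w j * w i = (-2 : F) • 1) : Simplex w :=
  ⟨h2, h3, by simpa [show (12 : F) = 4 * 3 by norm_num] using ⟨four_ne_zero' h2, h3⟩, hs, ht, fun i j => by
    by_cases e : i = j
    · rw [e, h1, if_pos rfl]; norm_num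
    · rw [h4 i j e, if_neg e]; norm_num⟩

namespace Simplex

variable {w : Fin 6 → M4 F} (R : Simplex w)
include R

theorem cases {x y : M4 F} {i j : Fin 6} (hx : x = w i ∨ x = -w i) (hy : y = w j ∨ y = -w j)
    (h : x * y + y * x = (-2 : F) • 1) : i ≠ j ∧ ((x = w i ∧ y = w j) ∨ (x = -w i ∧ y = -w j)) := by
  have g := R.gram i j
  have n : ∀ k : ℕ, (2 : F) ^ k ≠ 0 := fun k => pow_ne_zero k R.two
  have n1 := R.ne
  have k1 : w i * w j + w j * w i = (-2 : F) • 1 → i ≠ j := fun h e => by
    rw [h, if_pos e] at g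
    exact n1 (by linear_combination -smul_one_inj g)
  have k2 : ¬ w i * w j + w j * w i = (2 : F) • 1 := fun h => by
    rw [h] at g
    split_ifs at g
    · exact n 3 (by linear_combination -smul_one_inj g)
    · exact n 2 (by linear_combination smul_one_inj g)
  rcases hx with rfl | rfl <;> rcases hy with rfl | rfl
  · exact ⟨k1 h, Or.inl ⟨rfl, rfl⟩⟩
  · exact absurd (by linear_combination (norm := (simp only [nc]; module)) -h) k2
  · exact absurd (by linear_combination (norm := (simp only [nc]; module)) -h) k2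
  · exact ⟨k1 (by linear_combination (norm := (simp only [nc]; module)) h), Or.inr ⟨rfl, rfl⟩⟩

theorem off {i j : Fin 6} (h : i ≠ j) : w i * w j + w j * w i = (-2 : F) • 1 := by
  rw [R.gram, if_neg h]; norm_num

theorem cj_root {h : GL I4 F} (hh : ∀ i, ∃ j, cj h (w i) = w j ∨ cj h (w i) = -w j) {a b : Fin 6} (hab : a ≠ b) :
    ∃ c d, c ≠ d ∧ cj h (w a - w b) = w c - w d := by
  obtain ⟨c, hc⟩ := hh a
  obtain ⟨d, hd⟩ := hh b
  obtain ⟨h1, ⟨h2, h3⟩ | ⟨h2, h3⟩⟩ := R.cases hc hd (cj_anti h (R.off hab))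
  · exact ⟨c, d, h1, by rw [cj_sub, h2, h3]⟩
  · exact ⟨d, c, h1.symm, by rw [cj_sub, h2, h3]; abel⟩

theorem inj {i j : Fin 6} (h : w i = w j) : i = j := by
  by_contra e
  have g := R.gram j j
  have g' := R.off e
  rw [h, g, if_pos rfl] at g'
  exact R.ne (by linear_combination smul_one_inj g')

theorem ne_neg (i j : Fin 6) : w i ≠ -w j := fun h => by
  obtain ⟨k, h1, h2⟩ := (show ∀ i j : Fin 6, ∃ k, k ≠ i ∧ k ≠ j by decide) i j
  rcases (R.cases (Or.inl rfl) (Or.inr h) (R.off h1)).2 with ⟨-, e⟩ | ⟨e, -⟩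
  · have g := R.off h2
    rw [← e, show w i = 0 from smul_right_injective _ R.two (by linear_combination (norm := module) h + e)] at g
    exact R.two (by simpa using g)
  · have g := R.off h2
    rw [show w k = 0 from smul_right_injective _ R.two (by linear_combination (norm := module) e)] at g
    exact R.two (by simpa using g)

end Simplex

end CL.Low.S4
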