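/-
Project LOWDIM: `2.A₅` and `2.A₆` (characteristic seven) are not maximal in `Sp₄(p)`.
-/
import Cfsg.Agent.Low.Sp4B1

set_option autoImplicit false

namespace CL.Low.S4

open Matrix Cfsg Cfsg.Geo CL.Asch CL.SLn Module Equiv Equiv.Perm
open scoped MatrixGroups

universe u

variable {F : Type u} [Field F] {P : Subgroup (GL I4 F)}

/-- The normaliser of `P` in `Sp₄` lies properly in a proper subgroup. -/
def NM (P : Subgroup (GL I4 F)) : Prop :=
  ∃ K : Subgroup (GL I4 F), K < spGL 2 F ∧ (∀ h ∈ spGL 2 F, (∀ l ∈ P, h * l * h⁻¹ ∈ P) → h ∈ K) ∧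
    ∃ k ∈ K, ¬ ∀ l ∈ P, k * l * k⁻¹ ∈ P

theorem eq_msl {R : Type*} [CommRing R] (g : SL(2, R)) :
    g = msl (g 0 0) (g 0 1) (g 1 0) (g 1 1) (by rw [← det_fin_two]; exact g.2) :=
  Subtype.ext (eta_fin_two _)

/-- generators of the six Sylow 5-subgroups of `SL₂(5)` -/
def g5 : Fin 6 → SL(2, ZMod 5) := ![msl 1 1 0 1, msl 1 0 4 1, msl 0 1 4 2, msl 4 4 4 3, msl 3 4 4 4, msl 2 1 4 0]

theorem g5_pow : ∀ i, g5 i ^ 5 = 1 ∧ g5 i ≠ 1 := by decide +kernel

theorem g5_pair : ∀ i j, i ≠ j → -(g5 i * g5 j) ≠ 1 ∧ -(g5 i * (g5 j)⁻¹) ≠ 1 ∧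
    (((-(g5 i * g5 j)) ^ 5 = 1 ∧ (-(g5 i * (g5 j)⁻¹)) ^ 3 = 1) ∨
      ((-(g5 i * g5 j)) ^ 3 = 1 ∧ (-(g5 i * (g5 j)⁻¹)) ^ 5 = 1)) := by decide +kernel

theorem g5_all : ∀ (a b c d : ZMod 5) (h : a * d - b * c = 1), msl a b c d h ^ 5 = 1 → msl a b c d h ≠ 1 →
    ∃ i, msl a b c d h = g5 i ∨ msl a b c d h = (g5 i)⁻¹ ∨ msl a b c d h = g5 i ^ 2 ∨ msl a b c d h = (g5 i ^ 2)⁻¹ := by
  decide +kernel

theorem g5_act : g5 0 * g5 1 * (g5 0)⁻¹ = g5 2 ∧ (g5 0)⁻¹ * g5 1 * (g5 0)⁻¹⁻¹ = g5 5 := by decide +kernel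

theorem trace_W_mul {g h : GL I4 F} (hg : g ∈ spGL 2 F) (hh : h ∈ spGL 2 F) (tg : tr g = -1) (th : tr h = -1) :
    (W g * W h).trace = 8 * (tr (g * h) + tr (g * h⁻¹)) - 4 := by
  have e1 : tr (g⁻¹ * h⁻¹) = tr (g * h) := by
    rw [← _root_.mul_inv_rev, tr_inv (mul_mem hh hg)]; exact trace_mul_comm _ _
  have e2 : tr (g⁻¹ * h) = tr (g * h⁻¹) := by
    rw [← tr_inv (mul_mem (inv_mem hg) hh), _root_.mul_inv_rev, inv_inv]; exact trace_mul_comm _ _
  have e3 : W g * W h = (4 : F) • (((g * h : GL I4 F) : M4 F) + (g * h⁻¹ : GL I4 F) + (g⁻¹ * h : GL I4 F) +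
      (g⁻¹ * h⁻¹ : GL I4 F)) + (2 : F) • Y g + (2 : F) • Y h + 1 := by
    simp only [W, Y, Units.val_mul]; simp only [nc]; module
  simp only [e3, trace_add, trace_smul, trace_Y hg, trace_Y hh, tg, th, trace_one4, smul_eq_mul]
  linear_combination 4 * e1 + 4 * e2

theorem Hyp.nm_a5 [Finite F] (h : Hyp P) (e : PQ P ≃* alternatingGroup (Fin 5)) : NM P := by
  obtain ⟨h3, t3, t5⟩ := h.a5_data e
  obtain ⟨ρ, L⟩ := h.exists_sl25 e
  have n1 : ∀ {g}, g ≠ 1 → ρ g ≠ 1 := fun hg e => hg (L.eq_one h.two e)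
  have p1 : ∀ {g n}, g ^ n = 1 → ρ g ^ n = 1 := fun hg => by rw [← map_pow, hg, map_one]
  have d := fun i => t5 _ (L.mem (g5 i)) (p1 (g5_pow i).1) (n1 (g5_pow i).2)
  have s := fun g => h.sp (L.mem g)
  have R : Simplex fun i => W (ρ (g5 i)) := simplex_mk h.two h3 (fun i => sad_W (s _)) (fun i => trace_W (s _) (d i).2)
    (fun i => W_mul_self (d i).1) fun i j hij => by
      have u3 : ∀ x, (-x) ^ 3 = 1 → -x ≠ 1 → tr (ρ x) = -1 := fun x x3 x1 => by
        have := t3 _ (L.mem _) (p1 x3) (n1 x1)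
        rw [L.map_neg, tr_neg] at this
        linear_combination -this
      have u5 : ∀ x, (-x) ^ 5 = 1 → -x ≠ 1 → tr (ρ x) = 1 := fun x x5 x1 => by
        have := (t5 _ (L.mem _) (p1 x5) (n1 x1)).2
        rw [L.map_neg, tr_neg] at this
        linear_combination -this
      rw [cliff h.two (sad_W (s _)) (sad_W (s _)) (trace_W (s _) (d i).2) (trace_W (s _) (d j).2),
        trace_W_mul (s _) (s _) (d i).2 (d j).2, ← map_inv, ← map_mul, ← map_mul]
      have h2 := h.two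
      obtain ⟨a1, a2, ⟨a3, a4⟩ | ⟨a3, a4⟩⟩ := g5_pair i j hij
      · rw [u5 _ a3 a1, u3 _ a4 a2]; congr 1; field_simp; norm_num
      · rw [u3 _ a3 a1, u5 _ a4 a2]; congr 1; field_simp; norm_num
  have key : ∀ k : GL I4 F, (∀ l ∈ P, k * l * k⁻¹ ∈ P) → ∀ i, ∃ j,
      ((k * ρ (g5 i) * k⁻¹ = ρ (g5 j) ∨ k * ρ (g5 i) * k⁻¹ = ρ (g5 j)⁻¹) ∧ cj k (W (ρ (g5 i))) = W (ρ (g5 j))) ∨
        cj k (W (ρ (g5 i))) = -W (ρ (g5 j)) := fun k hk i => by
    obtain ⟨x, hx⟩ := L.surj (hk _ (L.mem (g5 i)))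
    have x5 : x ^ 5 = 1 := L.eq_one h.two (by rw [map_pow, hx, conj_pow, p1 (g5_pow i).1, mul_one, mul_inv_cancel])
    have x1 : x ≠ 1 := fun e => n1 (g5_pow i).2 (by rw [e, map_one] at hx; simpa using hx.symm)
    rw [eq_msl x] at x5 x1
    obtain ⟨j, hj⟩ := g5_all _ _ _ _ _ x5 x1
    rw [← eq_msl x] at hj
    rw [← W_conj, ← hx]
    refine ⟨j, ?_⟩
    rcases hj with rfl | rfl | rfl | rfl
    · exact Or.inl ⟨Or.inl rfl, rfl⟩
    · exact Or.inl ⟨Or.inr rfl, by rw [map_inv, W_inv]⟩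
    · exact Or.inr (by rw [map_pow, W_two (d j).1])
    · exact Or.inr (by rw [map_inv, W_inv, map_pow, W_two (d j).1])
  obtain ⟨k, k1, -, k2, k3⟩ := R.exists_rot (a := 2) (b := 3) (c := 3) (d := 4) (by decide) (by decide)
  refine ⟨_, R.stab_lt (a := 0) (b := 1) (by decide), fun g hg hn => ⟨hg, ?_⟩, k, Roots.rot_mem k1 k2, fun hn => ?_⟩
  · rintro _ ⟨a, b, hab, rfl⟩
    exact R.cj_root (fun i => (key g hn i).imp fun j hj => hj.imp_left And.right) hab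
  · have k4 := k3 rfl rfl
    obtain ⟨j, ⟨hj, h1⟩ | h1⟩ := key k hn 0 <;> rw [k4] at h1
    · obtain rfl : 0 = j := R.inj h1
      have h2 : cj (k * ρ (g5 0) * k⁻¹) (cj k (W (ρ (g5 1)))) = W (ρ (g5 3)) := by
        rw [← cj_mul, inv_mul_cancel_right, cj_mul, ← W_conj, ← map_inv, ← map_mul, ← map_mul, g5_act.1]
        exact k4 2
      rw [k4 1] at h2
      rcases hj with hj | hj <;> rw [hj] at h2 <;> erw [← W_conj] at h2 <;> rw [← map_inv, ← map_mul, ← map_mul] at h2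
      · exact absurd (R.inj (i := 2) (j := 3) (g5_act.1 ▸ h2)) (by decide)
      · exact absurd (R.inj (i := 5) (j := 3) (g5_act.2 ▸ h2)) (by decide)
    · exact R.ne_neg _ _ h1

theorem two_trans6 : ∀ i j : Fin 6, i ≠ j → ∃ a b c d : Fin 6, a ≠ b ∧ c ≠ d ∧ (swap a b * swap c d) 0 = i ∧
    (swap a b * swap c d) 1 = j := by decide +kernel

theorem Hyp.nm_a6 [Finite F] (h : Hyp P) (h7 : (7 : F) = 0) (e : PQ P ≃* alternatingGroup (Fin 6)) : NM P := by
  obtain ⟨h3, -, t5, π, g, c, g5, g1, hc⟩ := h.a6_data e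
  have tr2 : ∀ i j : Fin 6, i ≠ j → ∃ l : P, (π l : Perm (Fin 6)) 0 = i ∧ (π l : Perm (Fin 6)) 1 = j := fun i j hij => by
    obtain ⟨a, b, c', d, h1, h2, h3, h4⟩ := two_trans6 i j hij
    obtain ⟨l, hl⟩ := c.surj ⟨swap a b * swap c' d, mem_alternatingGroup.2 (by simp [h1, h2])⟩
    exact ⟨l, by rw [hl]; exact h3, by rw [hl]; exact h4⟩
  have hx : ∀ i : Fin 6, ∃ l : P, (π l : Perm (Fin 6)) 5 = i := fun i => by
    obtain ⟨l, h1, -⟩ := tr2 5 0 (by decide)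
    obtain ⟨j, hj⟩ := exists_ne i
    obtain ⟨m, h2, -⟩ := tr2 i j hj.symm
    exact ⟨m * l⁻¹, by
      rw [map_mul, map_inv, Subgroup.coe_mul, Subgroup.coe_inv, Perm.mul_apply, ← h2]
      exact congrArg _ (Perm.inv_eq_iff_eq.2 h1.symm)⟩
  choose x hx using hx
  obtain ⟨w, hw⟩ : ∃ w : Fin 6 → M4 F, ∀ i, w i = cj (x i) (W (g : GL I4 F)) := ⟨_, fun _ => rfl⟩
  have eqv' : ∀ l : P, cj l (W (g : GL I4 F)) = w ((π l : Perm (Fin 6)) 5) := fun l => by
    have h1 := hc ((x ((π l : Perm (Fin 6)) 5))⁻¹ * l) (by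
      rw [map_mul, map_inv, Subgroup.coe_mul, Subgroup.coe_inv, Perm.mul_apply, Perm.inv_eq_iff_eq, hx])
    have h2 : cj ((x ((π l : Perm (Fin 6)) 5))⁻¹ * l : P) (W (g : GL I4 F)) = W (g : GL I4 F) := by
      rw [cj, Units.mul_inv_eq_iff_eq_mul, W]; linear_combination (norm := (simp only [nc]; module)) (2 : F) • h1
    rw [hw]
    conv_rhs => rw [← h2, ← cj_mul, Subgroup.coe_mul, Subgroup.coe_inv, mul_inv_cancel_left]
  have eqv : ∀ (l : P) i, cj l (w i) = w ((π l : Perm (Fin 6)) i) := fun l i => by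
    rw [hw, ← cj_mul, ← Subgroup.coe_mul, eqv', map_mul, Subgroup.coe_mul, Perm.mul_apply, hx]
  obtain ⟨z, tg⟩ := t5 g g.2 g5 g1
  have hs : ∀ i, sad (w i) = w i := fun i => hw i ▸ sad_cj (h.sp (x i).2) (sad_W (h.sp g.2))
  have ht : ∀ i, (w i).trace = 0 := fun i => by rw [hw, trace_cj, trace_W (h.sp g.2) tg]
  have h1 : ∀ i, w i * w i + w i * w i = (10 : F) • 1 := fun i => hw i ▸ cj_anti _ (W_mul_self z)
  obtain ⟨γ, hγ⟩ : ∃ γ : F, ∀ i j, i ≠ j → w i * w j + w j * w i = γ • 1 :=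
    ⟨_, fun i j hij => by
      obtain ⟨l, rfl, rfl⟩ := tr2 i j hij
      rw [← eqv, ← eqv]
      exact cj_anti _ (cliff h.two (hs 0) (hs 1) (ht 0) (ht 1))⟩
  have h0 : ∑ i, w i = 0 := by
    obtain ⟨a, ha⟩ := eq_scalar_of_comm h.qs.span (x := ∑ i, w i) fun l hl => by
      rw [← Units.mul_inv_eq_iff_eq_mul, Finset.mul_sum, Finset.sum_mul,
        ← Equiv.sum_comp (π ⟨l, hl⟩ : Perm (Fin 6)) w]
      exact Finset.sum_congr rfl fun i _ => eqv ⟨l, hl⟩ i
    have := congrArg trace ha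
    rw [trace_sum, trace_smul, trace_one4, Finset.sum_eq_zero fun i _ => ht i, smul_eq_mul, eq_comm, mul_eq_zero] at this
    rw [ha, this.resolve_right (four_ne_zero' h.two), zero_smul]
  have h5 : (5 : F) ≠ 0 := fun e => h.two (by linear_combination h7 - e)
  obtain rfl : γ = -2 := by
    rw [Fin.sum_univ_six] at h0
    have : (5 * γ) • (1 : M4 F) = (5 * -2 : F) • 1 := by
      linear_combination (norm := (simp only [nc]; module)) w 0 * h0 + h0 * w 0 - h1 0 - hγ 0 1 (by decide) - hγ 0 2 (by decide) - hγ 0 3 (by decide) -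
        hγ 0 4 (by decide) - hγ 0 5 (by decide)
    exact mul_left_cancel₀ h5 (smul_one_inj this)
  have R := simplex_mk h.two h3 hs ht h1 hγ
  have key : ∀ k : GL I4 F, (∀ l ∈ P, k * l * k⁻¹ ∈ P) → ∀ i, ∃ j, cj k (w i) = w j ∨ cj k (w i) = -w j := fun k hk i => by
    obtain ⟨u, m, m0, m5, e⟩ := h.exists_conj_pow c Nat.prime_five (by decide) (by rw [CL.Perm.card_alt_six]; decide)
      g5 g1 (l := ⟨_, hk _ (x i * g * (x i)⁻¹).2⟩)
      (by simp only [Subgroup.coe_mul, Subgroup.coe_inv, conj_pow, g5, mul_one, mul_inv_cancel])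
      (by simpa using g1)
    have e' : cj k (w i) = cj u (W ((g : GL I4 F) ^ m)) := by rw [hw, ← W_conj, ← W_conj, ← W_conj]; exact congrArg W e
    refine ⟨(π u : Perm (Fin 6)) 5, ?_⟩
    rw [e', ← eqv']
    refine (W_pow z g5 m0 m5).imp (congrArg _) fun e => ?_
    rw [e, ← zero_sub, cj_sub, cj_zero, zero_sub]
  let v : Fin 7 → M4 F := Fin.cons 0 w
  have R' : Roots v (Fin.cons 1 fun _ => -1) 12 := ⟨h.two, h3, R.ne,
    fun a => a.cases sad_zero hs, fun a => a.cases (trace_zero _ _) ht, fun a b => by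
      induction a using Fin.cases <;> induction b using Fin.cases
      · simp only [v, Fin.cons_zero, if_true]; linear_combination (norm := (simp only [nc]; module)) -(2 * h7) • (1 : M4 F)
      · simp [v, (Fin.succ_ne_zero _).symm]
      · simp [v, Fin.succ_ne_zero]
      · simpa [v] using R.gram _ _⟩
  obtain ⟨k, k1, -, k2, -⟩ := R'.exists_rot (a := 0) (b := 1) (c := 1) (d := 2) (by decide) (by decide)
  refine ⟨_, R'.stab_lt (a := 0) (b := 1) (by decide), fun g hg hn => ⟨hg, ?_⟩, k, Roots.rot_mem k1 k2, fun hn => ?_⟩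
  · have k0 : ∀ i, ∃ a b, a ≠ b ∧ cj g (w i) = v a - v b := fun i => by
      obtain ⟨j, e | e⟩ := key g hn i
      · exact ⟨j.succ, 0, Fin.succ_ne_zero _, by simpa [v] using e⟩
      · exact ⟨0, j.succ, (Fin.succ_ne_zero _).symm, by simpa [v] using e⟩
    rintro _ ⟨a, b, hab, rfl⟩
    induction a using Fin.cases <;> induction b using Fin.cases
    · exact absurd rfl hab
    · rename_i i
      obtain ⟨a, b, h1, h2⟩ := k0 i
      exact ⟨b, a, h1.symm, by simp only [v, Fin.cons_zero, Fin.cons_succ, cj_sub, cj_zero, h2]; abel⟩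
    · rename_i i
      obtain ⟨a, b, h1, h2⟩ := k0 i
      exact ⟨a, b, h1, by simp only [v, Fin.cons_zero, Fin.cons_succ, sub_zero, h2]⟩
    · obtain ⟨c, d, h1, h2⟩ := R.cj_root (key g hn) fun e => hab (congrArg Fin.succ e)
      exact ⟨c.succ, d.succ, fun e => h1 (Fin.succ_injective _ e), h2⟩
  · have h2 : cj k (w 2 - 0) = w 2 - w 0 := k2 3 0
    rw [sub_zero] at h2
    obtain ⟨j, hj⟩ := key k hn 2
    have g1 := R.gram j 5
    have g2 := hγ 2 5 (by decide)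
    have g3 := hγ 0 5 (by decide)
    have g4 : (0 : F) • (1 : M4 F) = (-1 + -1 + if j = 5 then 12 else 0 : F) • 1 := by
      rcases hj with e | e <;> rw [h2] at e
      · linear_combination (norm := (simp only [nc]; module)) g1 - g2 + g3 + e * w 5 + w 5 * e
      · linear_combination (norm := (simp only [nc]; module)) g1 + g2 - g3 - e * w 5 - w 5 * e
    have g5 := smul_one_inj g4
    split_ifs at g5
    · exact h3 (by linear_combination -g5 - h7)
    · exact h.two (by linear_combination g5)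

end CL.Low.S4
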