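/-
Project LOWDIM: `SL₂(7)` is not maximal in `Sp₄(7)`; the step `Sp4NonMax`.
-/
import Cfsg.Agent.Low.Sp4B2
import Cfsg.Agent.Low.DataL
import Cfsg.Agent.Cls.SL2Pair

set_option autoImplicit false

namespace CL.Low.S4

open Matrix Cfsg Cfsg.Geo CL.Asch CL.SLn Module Equiv Equiv.Perm
open scoped MatrixGroups

universe u

variable {F : Type u} [Field F] {P : Subgroup (GL I4 F)}

/-- A regular unipotent element is not conjugate to its inverse if `-1` is not a square. -/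
theorem cube_eq_zero_of_conj_inv (hF : ¬ IsSquare (-1 : F)) {u h : GL I4 F} (hu : u ∈ spGL 2 F) (hh : h ∈ spGL 2 F)
    (h4 : ((u : M4 F) - 1) ^ 4 = 0) (e : h * u * h⁻¹ = u⁻¹) : ((u : M4 F) - 1) ^ 3 = 0 := by
  have hr := rank_one h4
  have i1 : (((u⁻¹ : GL I4 F) : M4 F) - 1) ^ 3 = -((u : M4 F) - 1) ^ 3 := by
    have c1 : Commute ((u : M4 F) - 1) ((u⁻¹ : GL I4 F) : M4 F) :=
      ((Commute.refl (u : M4 F)).units_inv_right).sub_left (Commute.one_left _)
    have c2 : ((u : M4 F) - 1) ^ 3 * (u⁻¹ : GL I4 F) = ((u : M4 F) - 1) ^ 3 := by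
      rw [Units.mul_inv_eq_iff_eq_mul]
      rw [pow_succ] at h4
      generalize ((u : M4 F) - 1) ^ 3 = T at h4
      linear_combination (norm := (simp only [nc]; module)) -h4
    rw [show ((u⁻¹ : GL I4 F) : M4 F) - 1 = -(((u : M4 F) - 1) * (u⁻¹ : GL I4 F)) by linear_combination (norm := (simp only [nc]; module)) Units.mul_inv u,
      Odd.neg_pow (by decide), c1.mul_pow, pow_three' ((u⁻¹ : GL I4 F) : M4 F), ← mul_assoc, ← mul_assoc, c2, c2, c2]
  have i2 : sad (((u : M4 F) - 1) ^ 3) = -((u : M4 F) - 1) ^ 3 := by rw [sad_pow, sad_sub, sad_coe hu, sad_one, i1]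
  have i3 : (h : M4 F) * ((u : M4 F) - 1) ^ 3 * (h⁻¹ : GL I4 F) = -((u : M4 F) - 1) ^ 3 := by
    rw [← Units.conj_pow, ← i1, ← e]
    congr 1
    simp only [Units.val_mul]
    linear_combination (norm := (simp only [nc]; module)) -Units.mul_inv h
  generalize ((u : M4 F) - 1) ^ 3 = M at hr i2 i3
  have k : ∀ x, (M * x * M * sad x).trace = -(M * x).trace ^ 2 := fun x => by
    rw [hr, smul_mul_assoc, trace_smul, ← trace_sad (M * sad x), sad_mul, sad_sad, i2, mul_neg, trace_neg,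
      trace_mul_comm x, smul_eq_mul]
    ring
  refine eq_zero_of_trace_mul fun x => ?_
  have k1 := k (x * h)
  rw [sad_mul, sad_coe hh, show M * (x * h) * M * (((h⁻¹ : GL I4 F) : M4 F) * sad x) = -(M * x * M * sad x) by
    linear_combination (norm := (simp only [nc]; module)) M * x * i3 * sad x, trace_neg, k] at k1
  rw [trace_mul_comm]
  by_contra h0
  exact hF ⟨(M * (x * h)).trace / (M * x).trace, by field_simp; linear_combination -k1⟩

/-- the symmetric cube -/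
def sym3 {R : Type*} [CommRing R] : SL(2, R) →* Matrix (Fin 4) (Fin 4) R where
  toFun g := !![g 0 0 ^ 3, 3 * g 0 0 ^ 2 * g 0 1, 3 * g 0 0 * g 0 1 ^ 2, g 0 1 ^ 3;
    g 0 0 ^ 2 * g 1 0, g 0 0 ^ 2 * g 1 1 + 2 * g 0 0 * g 0 1 * g 1 0, 2 * g 0 0 * g 0 1 * g 1 1 + g 0 1 ^ 2 * g 1 0,
      g 0 1 ^ 2 * g 1 1;
    g 0 0 * g 1 0 ^ 2, 2 * g 0 0 * g 1 0 * g 1 1 + g 0 1 * g 1 0 ^ 2, g 0 0 * g 1 1 ^ 2 + 2 * g 0 1 * g 1 0 * g 1 1,
      g 0 1 * g 1 1 ^ 2;
    g 1 0 ^ 3, 3 * g 1 0 ^ 2 * g 1 1, 3 * g 1 0 * g 1 1 ^ 2, g 1 1 ^ 3]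
  map_one' := by ext i j; fin_cases i <;> fin_cases j <;> simp
  map_mul' g h := by
    ext i j
    fin_cases i <;> fin_cases j <;> simp [Matrix.mul_apply, Fin.sum_univ_two, Fin.sum_univ_four] <;> ring

theorem trace_sym3 {R : Type*} [CommRing R] (g : SL(2, R)) :
    (sym3 g).trace = (g : Matrix (Fin 2) (Fin 2) R).trace ^ 3 - 2 * (g : Matrix (Fin 2) (Fin 2) R).trace := by
  have hd : g 0 0 * g 1 1 - g 0 1 * g 1 0 = 1 := by rw [← det_fin_two]; exact g.2
  simp [sym3, Matrix.trace, Fin.sum_univ_four]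
  linear_combination (-2 * (g 0 0 + g 1 1)) * hd

instance factSeven : Fact (Nat.Prime 7) := ⟨Nat.prime_seven⟩

theorem mem_of_up_lo {p : ℕ} [Fact p.Prime] {H : Subgroup SL(2, ZMod p)} (h1 : msl 1 1 0 1 (by simp) ∈ H)
    (h2 : msl 1 0 1 1 (by simp) ∈ H) (g : SL(2, ZMod p)) : g ∈ H := by
  obtain ⟨w, hw⟩ := exists_weyl (K := ZMod p)
  refine SL2.sl_induction (P := (· ∈ H)) (fun b => ?_) (fun b => ?_) (fun _ _ => mul_mem) g
  · rw [← upA_eq, ← ZMod.natCast_zmod_val b, ← mul_one (b.val : ZMod p), ← upA_pow]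
    exact pow_mem h1 _
  · rw [← hw, ← ZMod.natCast_zmod_val b, ← mul_neg_one, ← upA_pow, ← conj_pow, hw]
    have e : (SL2.loT 1 : SL(2, ZMod p)) = msl 1 0 1 1 (by simp) := Subtype.ext (SL2.coe_loT 1)
    exact pow_mem (e ▸ h2) _

theorem gen7 {a b : SL(2, ZMod 7)} (w w' : List Bool) (h1 : ev a b w = msl 1 1 0 1) (h2 : ev a b w' = msl 1 0 1 1) :
    Subgroup.closure {a, b} = ⊤ :=
  top_le_iff.1 fun g _ => mem_of_up_lo
    (h1 ▸ ev_mem (Subgroup.subset_closure (by simp)) (Subgroup.subset_closure (by simp)) w)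
    (h2 ▸ ev_mem (Subgroup.subset_closure (by simp)) (Subgroup.subset_closure (by simp)) w') g

variable {ρ : SL(2, ZMod 7) →* GL I4 F}

theorem Lift.tr7 [CharP F 7] (L : Lift P ρ) (h : Hyp P) (g : SL(2, ZMod 7)) :
    tr (ρ g) = ZMod.castHom (dvd_refl 7) F (sym3 g).trace := by
  have h7 : (7 : F) = 0 := by simpa using CharP.cast_eq_zero F 7
  have h3 : (3 : F) ≠ 0 := fun e => one_ne_zero (α := F) (by linear_combination h7 - 2 * e)
  have cj : ∀ a g : SL(2, ZMod 7), (a : Matrix (Fin 2) (Fin 2) (ZMod 7)).trace ^ 2 ≠ 4 →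
      (g : Matrix (Fin 2) (Fin 2) (ZMod 7)).trace = (a : Matrix (Fin 2) (Fin 2) (ZMod 7)).trace →
      ∃ k, ρ g = k * ρ a * k⁻¹ := fun a g ha hg => by
    obtain ⟨k, hk⟩ := isConj_iff.1 (GL2.isConj_SL_of_trace (SL2.not_isScal_of_trace ha)
      (SL2.not_isScal_of_trace (by rwa [hg])) hg (Or.inl ha))
    exact ⟨ρ k, by rw [← hk, map_mul, map_mul, map_inv]⟩
  have nq : ∀ a b : SL(2, ZMod 7), (a : Matrix (Fin 2) (Fin 2) (ZMod 7)).trace ^ 2 ≠ 4 →
      (b : Matrix (Fin 2) (Fin 2) (ZMod 7)).trace = (a : Matrix (Fin 2) (Fin 2) (ZMod 7)).trace →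
      Subgroup.closure {a, b} = ⊤ → ¬ Quad (ρ a) := fun a b ha hb e q => by
    obtain ⟨k, hk⟩ := cj a b ha hb
    exact L.not_quad h.qs.span e q (hk ▸ q.conj k)
  have t6 : tr (ρ (msl 0 2 3 6)) = 1 := (three_cases h.two h3 (h.sp (L.mem _))
    (by rw [← map_pow, show (msl 0 2 3 6 : SL(2, ZMod 7)) ^ 3 = 1 by decide +kernel, map_one])
    fun e => absurd (L.eq_one h.two e) (by decide +kernel)).resolve_left fun e =>
      nq _ (msl 1 6 3 5) (by decide +kernel) (by decide +kernel) (gen7 [false, true, false, true]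
        [true, false, false, true, false, false, true] (by decide +kernel) (by decide +kernel)) ⟨_, e⟩
  have t3 : tr (ρ (msl 0 1 6 3)) = 0 := (eight_cases h.two (h.sp (L.mem _))
    (by rw [← map_pow, show (msl 0 1 6 3 : SL(2, ZMod 7)) ^ 4 = -1 by decide +kernel, L.neg])).resolve_left
      (nq _ (msl 0 6 1 3) (by decide +kernel) (by decide +kernel) (gen7 [true, true, true, false]
        [true, false, false, false] (by decide +kernel) (by decide +kernel)))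
  have t0 : tr (ρ (msl 0 1 6 0)) = 0 := tr_four h.two (h.sp (L.mem _))
    (by rw [← map_pow, show (msl 0 1 6 0 : SL(2, ZMod 7)) ^ 2 = -1 by decide +kernel, L.neg])
  have key : ∀ g : SL(2, ZMod 7), (g : Matrix (Fin 2) (Fin 2) (ZMod 7)).trace ∈ ({0, 2, 3, 6} : Finset (ZMod 7)) →
      tr (ρ g) = ZMod.castHom (dvd_refl 7) F (sym3 g).trace := fun g hg => by
    rw [trace_sym3]
    simp only [Finset.mem_insert, Finset.mem_singleton] at hg
    rcases hg with e | e | e | e <;> rw [e]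
    · obtain ⟨k, hk⟩ := cj (msl 0 1 6 0) g (by decide +kernel) (e.trans (by decide +kernel))
      rw [hk, tr_conj, t0, show (0 ^ 3 - 2 * 0 : ZMod 7) = 0 by decide, map_zero]
    · have h1 : g ^ 7 = 1 := Subtype.ext (by
        change g.val ^ 7 = 1
        rw [GL2.pow_eq_of_trace_det e g.2, CharP.cast_eq_zero, zero_smul, add_zero])
      rw [tr_of_pow_char 7 (by rw [← map_pow, h1, map_one]), show (2 ^ 3 - 2 * 2 : ZMod 7) = (4 : ℕ) by decide, map_natCast]
      rfl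
    · obtain ⟨k, hk⟩ := cj (msl 0 1 6 3) g (by decide +kernel) (e.trans (by decide +kernel))
      rw [hk, tr_conj, t3, show (3 ^ 3 - 2 * 3 : ZMod 7) = 0 by decide, map_zero]
    · obtain ⟨k, hk⟩ := cj (msl 0 2 3 6) g (by decide +kernel) (e.trans (by decide +kernel))
      rw [hk, tr_conj, t6, show (6 ^ 3 - 2 * 6 : ZMod 7) = 1 by decide, map_one]
  rcases (show ∀ t : ZMod 7, t ∈ ({0, 2, 3, 6} : Finset (ZMod 7)) ∨ -t ∈ ({0, 2, 3, 6} : Finset (ZMod 7)) by decide)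
    (g : Matrix (Fin 2) (Fin 2) (ZMod 7)).trace with e | e
  · exact key g e
  · have := key (-g) (by rwa [SL2.trace_neg_sl])
    rw [L.map_neg, tr_neg, trace_sym3, SL2.trace_neg_sl] at this
    rw [trace_sym3, ← neg_inj, this, ← _root_.map_neg]
    congr 1
    ring

/-- the graph of the comparison with the symmetric cube -/
def graph (ρ : SL(2, ZMod 7) →* GL I4 F) : Subring (Matrix (Fin 4) (Fin 4) (ZMod 7) × M4 F) :=
  Subring.closure (MonoidHom.mrange (sym3.prod ((Units.coeHom _).comp ρ)))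

theorem mem_graph (g : SL(2, ZMod 7)) : (sym3 g, (ρ g : M4 F)) ∈ graph ρ := Subring.subset_closure ⟨g, rfl⟩

theorem Lift.eq_of_graph [CharP F 7] (L : Lift P ρ) (h : Hyp P) {p q : Matrix (Fin 4) (Fin 4) (ZMod 7) × M4 F}
    (hp : p ∈ graph ρ) (hq : q ∈ graph ρ) (e : p.1 = q.1) : p.2 = q.2 := by
  have key : ∀ p ∈ graph ρ, p.2.trace = ZMod.castHom (dvd_refl 7) F p.1.trace := fun p hp => by
    rw [graph, Subring.mem_closure_iff, Submonoid.closure_eq] at hp
    induction hp using AddSubgroup.closure_induction with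
    | mem x hx => obtain ⟨g, rfl⟩ := hx; exact L.tr7 h g
    | zero => simp
    | add x y _ _ hx hy => rw [Prod.fst_add, Prod.snd_add, trace_add, trace_add, map_add, hx, hy]
    | neg x _ hx => rw [Prod.fst_neg, Prod.snd_neg, trace_neg, trace_neg, _root_.map_neg, hx]
  refine sub_eq_zero.1 (eq_zero_of_trace_span h.qs.span fun l hl => ?_)
  obtain ⟨g, rfl⟩ := L.surj hl
  simpa [e] using key _ (mul_mem (mem_graph g) (sub_mem hp hq))

/-- elements of order eight giving the roots -/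
def la : Fin 7 → SL(2, ZMod 7) :=
  ![1, msl 1 3 5 2, msl 1 3 5 2, msl 0 1 6 3, msl 0 5 4 3, msl 0 5 4 3, msl 0 1 6 3]

/-- elements of order eight giving the roots -/
def lb : Fin 7 → SL(2, ZMod 7) :=
  ![1, msl 5 1 3 5, msl 4 2 1 6, msl 1 2 4 2, msl 1 1 1 2, msl 0 4 5 3, msl 0 3 2 3]

/-- the roots in the model -/
def vz : Fin 7 → Matrix (Fin 4) (Fin 4) (ZMod 7) :=
  ![0, !![4, 1, 2, 0; 6, 3, 0, 3; 6, 0, 3, 2; 0, 4, 3, 4], !![2, 2, 3, 0; 5, 5, 0, 1; 2, 0, 5, 4; 0, 6, 6, 2],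
    !![4, 5, 1, 0; 0, 3, 0, 5; 4, 0, 3, 3; 0, 5, 0, 4], !![4, 0, 6, 0; 2, 3, 0, 2; 3, 0, 3, 0; 0, 2, 1, 4],
    !![0, 1, 4, 0; 2, 0, 0, 6; 1, 0, 0, 2; 0, 3, 1, 0], !![0, 5, 5, 0; 6, 0, 0, 4; 5, 0, 0, 3; 0, 1, 3, 0]]

theorem vz_eq : ∀ a, vz a = sym3 (la a) + sym3 (la a)⁻¹ - (sym3 (lb a) + sym3 (lb a)⁻¹) := by decide +kernel

theorem vz_tr : ∀ a, (sym3 (la a)).trace = (sym3 (lb a)).trace := by decide +kernel

theorem vz_gram : ∀ a b, vz a * vz b + vz b * vz a =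
    (((if a = 0 then 4 else 3) + (if b = 0 then 4 else 3) + if a = b then 6 else 0 : ℕ) : Matrix _ _ (ZMod 7)) := by
  decide +kernel

theorem vz_up : ∀ a, sym3 (msl 1 1 0 1) * vz a * sym3 (msl 1 1 0 1)⁻¹ = vz (c[0, 2, 3, 1, 5, 4, 6] a) - vz 2 := by
  decide +kernel

theorem vz_lo : ∀ a, sym3 (msl 1 0 1 1) * vz a * sym3 (msl 1 0 1 1)⁻¹ = vz (c[0, 3, 1, 2, 5, 6, 4] a) - vz 3 := by
  decide +kernel

theorem Hyp.nm_l27 [Fintype F] (h : Hyp P) (hF : Fintype.card F = 7) (e : PQ P ≃* PSL(2, F)) : NM P := by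
  have h7 : (7 : F) = 0 := by simpa [hF] using FiniteField.cast_card_eq_zero F
  have : CharP F 7 := (CharP.charP_iff_prime_eq_zero Nat.prime_seven).2 (by exact_mod_cast h7)
  have h3 : (3 : F) ≠ 0 := fun e => one_ne_zero (α := F) (by linear_combination h7 - 2 * e)
  obtain ⟨e1⟩ := Cfsg.Agent.S0255.result hF (ZMod.card 2)
  obtain ⟨e2⟩ := Cfsg.Agent.S0255.result (ZMod.card 7) (ZMod.card 2)
  obtain ⟨ρ, L⟩ := h.exists_sl2 (K := ZMod 7) (by rw [ZMod.card]; decide) (by rw [ZMod.card]; decide)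
    ((e.trans e1).trans e2.symm)
  obtain ⟨π, c⟩ := exists_cov (e.trans e1)
  have s := fun g => h.sp (L.mem g)
  have hN : ∀ k ∈ spGL 2 F, (∀ l ∈ P, k * l * k⁻¹ ∈ P) → k ∈ P := fun k hk hn => by
    obtain ⟨β, hβ⟩ := c.exists_aut hn
    rcases aut_L32 β with ⟨g, hg⟩ | ⟨x, g, hx, hg⟩
    · have : (scalars I4 F).Normal := Schur.normal_of_le_center scalars_le_center
      have h1 : k ∈ ((P ⊔ scalars I4 F : Subgroup _) : Set (GL I4 F)) :=
        c.mem_sup_of_inner h.qs hn fun l => by rw [← hβ, hg]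
      rw [Subgroup.mul_normal] at h1
      obtain ⟨l, hl, z, hz, rfl⟩ := h1
      rcases scalar_cases (by simpa using mul_mem (inv_mem (h.sp hl)) hk) hz with rfl | rfl
      · exact mul_mem hl (one_mem _)
      · exact mul_mem hl h.neg_one_mem
    exfalso
    obtain ⟨u, rfl, u7⟩ := h.exists_lift c (r := 7) (by decide) (orderOf_dvd_iff_pow_eq_one.1 hx.dvd)
    obtain ⟨y, rfl⟩ := c.surj g
    have h1 := h.lift_eq c (a := nAut hn u) (b := y * u⁻¹ * y⁻¹) (r := 7)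
      (by rw [← hβ, hg, map_mul, map_mul, map_inv, map_inv]) (by decide)
      (by rw [coe_nAut, conj_pow, u7, mul_one, mul_inv_cancel])
      (by simp only [Subgroup.coe_mul, Subgroup.coe_inv, conj_pow, inv_pow, u7, inv_one, mul_one, mul_inv_cancel])
    have h2 : k * u * k⁻¹ = y * (u : GL I4 F)⁻¹ * (y : GL I4 F)⁻¹ := (coe_nAut hn u).symm.trans (congrArg Subtype.val h1)
    have h4 := cube_eq_zero_of_conj_inv (by rw [FiniteField.isSquare_neg_one_iff, hF]; decide) (h.sp u.2)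
      (mul_mem (inv_mem (h.sp y.2)) hk) (pow_four_eq_zero ⟨7, sub_one_pow_char 7 u7⟩)
      (by rw [_root_.mul_inv_rev, inv_inv, ← mul_assoc, mul_assoc _ k, mul_assoc _ (k * u), h2]; group)
    obtain ⟨z, m, m0, m7, h5⟩ := h.exists_conj_pow c Nat.prime_seven (by decide) (by rw [card_L32]; decide) u7
      (fun e => by rw [show u = 1 from Subtype.ext e, map_one, orderOf_one] at hx; omega) (l := ⟨_, L.mem (upA 1)⟩)
      (by rw [← map_pow, upA_pow, CharP.cast_eq_zero, zero_mul, upA_zero, map_one])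
      fun e => upA_one_not_mem ((L.scal _).1 ((show ρ (upA 1) = 1 from e) ▸ one_mem _))
    refine (L.card_le h 7 (by decide) (by rw [ZMod.card]; decide)).1 1 one_ne_zero ?_
    have c1 : Commute (((u : GL I4 F) : M4 F) - 1) (∑ i ∈ Finset.range m, ((u : GL I4 F) : M4 F) ^ i) :=
      Commute.sum_right _ _ _ fun i _ => ((Commute.refl _).pow_right i).sub_left (Commute.one_left _)
    rw [show ρ (upA 1) = _ from h5, show (((z : GL I4 F) * u ^ m * (z : GL I4 F)⁻¹ : GL I4 F) : M4 F) - 1 =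
      (z : GL I4 F) * (((u : GL I4 F) : M4 F) ^ m - 1) * ((z : GL I4 F)⁻¹ : GL I4 F) by
        simp only [Units.val_mul, Units.val_pow_eq_pow_val]; linear_combination (norm := (simp only [nc]; module)) Units.mul_inv (z : GL I4 F), Units.conj_pow,
      ← mul_geom_sum, c1.mul_pow, h4, zero_mul, mul_zero, zero_mul]
  obtain ⟨v, hv⟩ : ∃ v : Fin 7 → M4 F, ∀ a, v a = Y (ρ (la a)) - Y (ρ (lb a)) := ⟨_, fun _ => rfl⟩
  have gv : ∀ a, (vz a, v a) ∈ graph ρ := fun a => by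
    rw [vz_eq, hv, Y, Y, ← map_inv, ← map_inv]
    exact sub_mem (add_mem (mem_graph _) (mem_graph _)) (add_mem (mem_graph _) (mem_graph _))
  have R : Roots v (fun a => if a = 0 then 4 else 3) 6 := ⟨h.two, h3, by
      simpa [show (6 : F) = 2 * 3 by norm_num] using ⟨h.two, h3⟩,
    fun a => by rw [hv, sad_sub, sad_Y (s _), sad_Y (s _)],
    fun a => by rw [hv, trace_sub, trace_Y (s _), trace_Y (s _), L.tr7 h, L.tr7 h, vz_tr, sub_self],
    fun a b => (L.eq_of_graph h (add_mem (mul_mem (gv a) (gv b)) (mul_mem (gv b) (gv a))) (natCast_mem _ _)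
      (vz_gram a b)).trans (by
        rw [Prod.snd_natCast, ← nsmul_one, ← Nat.cast_smul_eq_nsmul F]
        push_cast
        rfl)⟩
  have hP : ∀ (g : SL(2, ZMod 7)) (σ : Perm (Fin 7)) (b : Fin 7),
      (∀ a, sym3 g * vz a * sym3 g⁻¹ = vz (σ a) - vz b) → g ∈ (stab (rootSet v)).comap ρ := fun g σ b hg =>
    Roots.rot_mem (s g) (σ := σ) fun x y => by
      have key : ∀ a, cj (ρ g) (v a) = v (σ a) - v b := fun a => by
        rw [cj, ← map_inv]
        exact L.eq_of_graph h (mul_mem (mul_mem (mem_graph g) (gv a)) (mem_graph g⁻¹)) (sub_mem (gv _) (gv b)) (hg a)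
      rw [cj_sub, key, key, sub_sub_sub_cancel_right]
  obtain ⟨k, k1, k0, k2, -⟩ := R.exists_rot (a := 0) (b := 1) (c := 1) (d := 2) (by decide) (by decide)
  refine ⟨_, R.stab_lt (a := 0) (b := 1) (by decide), fun g hg hn => ?_, k, Roots.rot_mem k1 k2, fun hn => ?_⟩
  · obtain ⟨g, rfl⟩ := L.surj (hN g hg hn)
    exact mem_of_up_lo (hP _ _ _ vz_up) (hP _ _ _ vz_lo) g
  · obtain ⟨g, rfl⟩ := L.surj (hN k k1 hn)
    have h1 := congrArg trace (R.ip 0 1 1 2)
    have h2 := congrArg trace k0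
    rw [trace_add, trace_mul_comm (v 1 - v 2), trace_smul, trace_one4] at h1
    rw [trace_smul] at h2
    have h4 := L.tr7 h g
    rw [trace_sym3] at h4
    have h6 := R.ne
    have h5 : ZMod.castHom (dvd_refl 7) F 5 = tr (ρ g) := by
      rw [map_ofNat, tr, h2, smul_eq_mul, eq_inv_mul_iff_mul_eq₀ h6]
      simp only [Fin.isValue, Fin.reduceEq, if_false, if_true, smul_eq_mul] at h1
      exact mul_left_cancel₀ h.two (by linear_combination 12 * h7 - h1)
    exact (show ∀ t : ZMod 7, 5 ≠ t ^ 3 - 2 * t by decide) _ ((ZMod.castHom (dvd_refl 7) F).injective (h5.trans h4))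

end CL.Low.S4

namespace CL.Low

open Matrix Cfsg Cfsg.Geo S4

universe u

theorem sp4NonMax : Sp4NonMax.{u} := by
  intro F _ _ p P hp h5 hF hsp hqs hinv hc
  have h0 : (p : F) = 0 := hF ▸ FiniteField.cast_card_eq_zero F
  have := (CharP.charP_iff_prime_eq_zero hp).2 h0
  have h : Hyp P := ⟨fun h2 => by
    have := Nat.le_of_dvd two_pos ((CharP.cast_eq_zero_iff F p 2).1 (by exact_mod_cast h2))
    omega, hsp, hqs, hinv⟩
  rcases hc with ⟨⟨e⟩⟩ | ⟨rfl, ⟨⟨e⟩⟩ | ⟨⟨e⟩⟩⟩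
  · exact h.nm_a5 e
  · exact h.nm_a6 (by exact_mod_cast h0) e
  · exact h.nm_l27 hF e

end CL.Low
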